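import Cfsg.Agent.Lib.SpAmalgam.SpFour
import Cfsg.Prelude.Def_Classical
import Cfsg.Agent.S0270

/-!
S3342: a homomorphism from `PSp₄(q)` from two commuting copies of `SL₂(q)` exchanged by an involution and
one short root element.
-/

set_option autoImplicit false
set_option linter.style.haveILetI false

namespace Cfsg.Agent.S3342Id

open Cfsg.Agent.SpAmalgam Cfsg.Agent.SpAmalgam.Four

variable {K : Type*} [Field K] [Finite K] {G : Type*} [Group G] {j : Kˣ} {φ : S2 K →* G} {s x : G}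

/-- On the group generated by the root elements the map to `Sp₄(q)` is faithful. -/
theorem faithful_root (R : Rel4 j φ s x) (hj : ∀ t, t ∈ Subgroup.zpowers j)
    (π : G →* G4 K) (hπφ : ∀ g, π (φ g) = emb 0 g) (hπs : π s = swap4) (hπx : π x = x4) {k : G}
    (hmem : k ∈ Subgroup.closure (Set.range φ ∪ Set.range (σ φ s) ∪ {x})) (hk : π k = 1) : k = 1 := by
  let ω : (K × K) →ₗ[K] (K × K) →ₗ[K] K := LinearMap.mk₂ K w2
    (fun a b c => by simp [w2]; ring) (fun r a c => by simp [w2]; ring)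
    (fun a b c => by simp [w2]; ring) (fun r a c => by simp [w2]; ring)
  let ga : S2 K →* ((K × K) →ₗ[K] (K × K)) :=
    { toFun := fun g =>
        { toFun := mA g
          map_add' := fun a b => by simp [mA]; constructor <;> ring
          map_smul' := fun c a => by simp [mA]; constructor <;> ring }
      map_one' := LinearMap.ext mA_one
      map_mul' := fun g h => LinearMap.ext (mA_mul g h) }
  have hσ : ∀ g, π (σ φ s g) = emb 1 g := fun g => by
    rw [σ_apply, map_mul, map_mul, map_inv, hπφ, hπs, swap4_emb]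
  let S : Stage K (K × K) (S2 K) G (Vec K 2) :=
    { ω := ω
      alt := fun u => by simp [ω, w2]; ring
      nondeg := fun u hu => by
        by_cases h1 : u.1 = 0
        · have h2 : u.2 ≠ 0 := fun e => hu (Prod.ext h1 e)
          exact ⟨(-(u.2)⁻¹, 0), by simp [ω, w2, h2]⟩
        · exact ⟨(0, (u.1)⁻¹), by simp [ω, w2, h1]⟩
      ga := ga
      ga_ω := fun h u v => w2_mA h u v
      ga_inj := fun h hh => mA_ext fun u => (hh u).trans (mA_one u).symm
      act := fun k v => mv (π k) v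
      act_one := fun v => by simp only [map_one, mv_one]
      act_mul := fun a b v => by simp only [map_mul, mv_mul]
      ι := io
      ι_inj := io_injective
      σ := σ φ s
      η := φ
      Q := QF φ x
      τ := tau
      τ_eq := fun a c u => mA_tau a c u
      σ_act := fun g u α β => by rw [hσ]; exact emb1_io g u α β
      η_act := fun g u α β => by rw [hπφ]; exact emb0_io g u α β
      Q_act := fun a u α β => by
        by_cases ha : a = 0
        · subst ha; simp [QF_zero, mv_one, ω, w2]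
        rw [QF, if_neg ha, map_mul, map_mul, map_inv, hπφ, hπx]
        exact QF_io a u α β _ (gA_spec ha)
      R1 := fun g h => (R.comm h g).symm
      R2 := R2 R hj
      R3 := R3 R hj
      R4u := R4u R hj
      R4d := R4d R hj
      R5 := R5 R hj }
  have hle : Subgroup.closure (Set.range φ ∪ Set.range (σ φ s) ∪ {x}) ≤ S.K₀ := by
    rw [Subgroup.closure_le]
    rintro y ((⟨g, rfl⟩ | ⟨g, rfl⟩) | (h : y = x))
    · exact S.η_mem g
    · exact S.σ_mem g
    · have := S.Q_mem ((1 : K), (0 : K))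
      rwa [show S.Q = QF φ x from rfl, QF_base R hj, ← h] at this
  refine S.faithful (hle hmem) fun t => ?_
  show mv (π k) _ = _
  rw [hk, mv_one]

/-- The relations give a homomorphism from `Sp₄(q)`. -/
theorem exists_hom_sp (R : Rel4 j φ s x) (hj : ∀ t, t ∈ Subgroup.zpowers j) :
    ∃ f : G4 K →* G, (∀ g, f (emb 0 g) = φ g) ∧ (∀ g, f (emb 1 g) = s * φ g * s⁻¹) ∧ f x4 = x := by
  have Rm := rel4_sp (K := K) j
  set φ' : S2 K →* G4 K × G := (emb (0 : Fin 2)).prod φ
  set s' : G4 K × G := (swap4, s)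
  set x' : G4 K × G := (x4, x)
  have R' : Rel4 j φ' s' x' :=
    ⟨fun g h => Prod.ext (Rm.comm g h) (R.comm g h), Prod.ext Rm.s2 R.s2, Prod.ext Rm.sx R.sx,
      Prod.ext Rm.dx R.dx, fun c hc => Prod.ext (Rm.ux c hc) (R.ux c hc),
      fun c hc h0 => Prod.ext (Rm.hr c hc h0) (R.hr c hc h0)⟩
  set M := Subgroup.closure (Set.range φ' ∪ Set.range (σ φ' s') ∪ {x'})
  set p : M →* G4 K := (MonoidHom.fst _ _).comp M.subtype
  have hpφ : ∀ g, φ' g ∈ M := fun g => Subgroup.subset_closure (Or.inl (Or.inl ⟨g, rfl⟩))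
  have hpσ : ∀ g, σ φ' s' g ∈ M := fun g => Subgroup.subset_closure (Or.inl (Or.inr ⟨g, rfl⟩))
  have hpx : x' ∈ M := Subgroup.subset_closure (Or.inr rfl)
  have hinj : Function.Injective p := (injective_iff_map_eq_one p).2 fun m hm =>
    Subtype.ext (faithful_root R' hj (MonoidHom.fst _ _) (fun g => rfl) rfl rfl m.2 hm)
  have htop : p.range = ⊤ := top_of_mem _ (fun g => ⟨⟨_, hpφ g⟩, rfl⟩)
    (fun g => ⟨⟨_, hpσ g⟩, swap4_emb g⟩) ⟨⟨_, hpx⟩, rfl⟩
  let e : M ≃* G4 K := MulEquiv.ofBijective p ⟨hinj, MonoidHom.range_eq_top.1 htop⟩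
  refine ⟨(MonoidHom.snd _ _).comp (M.subtype.comp e.symm.toMonoidHom), fun g => ?_, fun g => ?_, ?_⟩
  · have h : e.symm (emb 0 g) = ⟨_, hpφ g⟩ := e.symm_apply_eq.2 rfl
    show ((e.symm (emb 0 g) : M) : G4 K × G).2 = _
    rw [h]
    rfl
  · have h : e.symm (emb 1 g) = ⟨_, hpσ g⟩ := e.symm_apply_eq.2 (swap4_emb g).symm
    show ((e.symm (emb 1 g) : M) : G4 K × G).2 = _
    rw [h]
    rfl
  · have h : e.symm (x4 : G4 K) = ⟨_, hpx⟩ := e.symm_apply_eq.2 rfl
    show ((e.symm (x4 : G4 K) : M) : G4 K × G).2 = _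
    rw [h]

/-- With the central relation the homomorphism is an embedding of `PSp₄(q)`. -/
theorem exists_hom_psp [Fintype K] (hq : 3 ≤ Fintype.card K) (R : Rel4 j φ s x)
    (hj : ∀ t, t ∈ Subgroup.zpowers j)
    (hz : φ (dd (-1)) * (s * φ (dd (-1)) * s⁻¹) = 1) (hne : φ ≠ 1) :
    ∃ f : Cfsg.PSp 2 K →* G, Function.Injective f ∧
      (∀ g, f (QuotientGroup.mk (emb 0 g)) = φ g) ∧
      (∀ g, f (QuotientGroup.mk (emb 1 g)) = s * φ g * s⁻¹) ∧ f (QuotientGroup.mk x4) = x := by
  obtain ⟨f, h0, h1, hx⟩ := exists_hom_sp R hj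
  have hneg : ∀ v : Vec K 2, mv (emb 0 (dd (-1)) * emb 1 (dd (-1)) : G4 K) v = -v := by
    intro v
    rw [← io_surj v, mv_mul, emb1_io, emb0_io]
    simp [io, mA, dd_val]
    abel
  have hker : Subgroup.center (G4 K) ≤ f.ker := by
    intro g hg
    rcases center_cases hg with h | h
    · rw [h]; exact one_mem _
    · rw [MonoidHom.mem_ker, show g = emb 0 (dd (-1)) * emb 1 (dd (-1)) from
        ext_mv fun v => by rw [h, hneg], map_mul, h0, h1, hz]
  let f' : Cfsg.PSp 2 K →* G := QuotientGroup.lift _ f hker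
  haveI : IsSimpleGroup (Cfsg.PSp 2 K) := Cfsg.Agent.S0270.result 2 le_rfl fun _ => hq
  refine ⟨f', ?_, h0, h1, hx⟩
  rw [← MonoidHom.ker_eq_bot_iff]
  rcases f'.normal_ker.eq_bot_or_eq_top with h | h
  · exact h
  · refine absurd (MonoidHom.ext fun g => ?_) hne
    rw [← h0]
    have hm : (QuotientGroup.mk (emb 0 g) : Cfsg.PSp 2 K) ∈ f'.ker := by
      rw [h]; exact Subgroup.mem_top _
    exact MonoidHom.mem_ker.1 hm

end Cfsg.Agent.S3342Id
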