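import Cfsg.Agent.Lib.S3342Id.Part
import Cfsg.Agent.Lib.Hayden.Swap
import Cfsg.Agent.Lib.TwoGroups.Lifts
import Cfsg.Agent.S3333
import Cfsg.Agent.S3805

/-!
S3342: a part with a Sylow subgroup of order nine.
-/

set_option autoImplicit false
set_option maxRecDepth 20000
set_option synthInstance.maxSize 10000
set_option linter.style.haveILetI false

namespace Cfsg.Agent.S3342Id.LocalCent

open Cfsg.Agent.Hayden Cfsg.Agent.Hayden.Cfg

variable {G : Type*} [Group G] [Finite G] {el : ℕ → G}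

/-- The data of a plane. -/
structure PlaneData (C : Cfg el) (D : Subgroup G) (χ : ℕ → M33) (m : ℕ) (act : ℕ → ℕ → ℕ) : Prop where
  cent : ∀ g ∈ D, (∀ t < 27, χ t = 1 → Commute g (el (vi t))) → g ∈ C.VJ
  loc : ∀ t < 27, χ t = 1 → t ≠ 0 → D ⊓ cg el t ≤ Subgroup.normalizer (C.VJ : Set G)
  count : ((Finset.range 27).filter fun u => χ u = 1).card = 9
  real : ∀ g ∈ D, ∀ A, C.Real A → (∀ u < 27, g * el (vi u) * g⁻¹ = el (vi (app A u))) →
    ∃ i < m, ∀ u < 27, app A u = act i u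
  exist : ∀ i < m, ∃ g ∈ D, ∀ u < 27, g * el (vi u) * g⁻¹ = el (vi (act i u))
  lt : ∀ i < m, ∀ u < 27, act i u < 27
  distinct : ∀ i < m, ∀ j < m, (∀ u < 27, act i u = act j u) → i = j

variable {C : Cfg el} {D K : Subgroup G} {χ : ℕ → M33} {m : ℕ} {act : ℕ → ℕ → ℕ}

/-- The normaliser of the Sylow subgroup in the part: a numbering of its action. -/
theorem Part.sylow_spec (Pt : Part C D K χ) (P : PlaneData C D χ m act) :
    ∃ Q : Sylow 3 K, Nat.card (Q : Subgroup K) = 9 ∧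
      (∀ x : K, x ∈ (Q : Subgroup K) ↔ ∃ u < 27, χ u = 1 ∧ el (vi u) = x) ∧
      (∀ x y : K, x ∈ (Q : Subgroup K) → y ∈ (Q : Subgroup K) → x * y = y * x ∧ x ^ 3 = 1) ∧
      Subgroup.centralizer ((Q : Subgroup K) : Set K) = Q ∧
      (∀ x ∈ (Q : Subgroup K), x ≠ 1 →
        Subgroup.centralizer ({x} : Set K) ≤ Subgroup.normalizer ((Q : Subgroup K) : Set K)) ∧
      ((Q : Subgroup K).Normal → D ≤ Subgroup.normalizer (C.VJ : Set G)) ∧
      (∀ k ∈ Subgroup.normalizer ((Q : Subgroup K) : Set K), ∃ i < m,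
        ∀ u < 27, (k : G) * el (vi u) * (k : G)⁻¹ = el (vi (act i u))) ∧
      (∀ i < m, ∃ k ∈ Subgroup.normalizer ((Q : Subgroup K) : Set K),
        ∀ u < 27, (k : G) * el (vi u) * (k : G)⁻¹ = el (vi (act i u))) ∧
      ∀ k : K, (∀ u < 27, (k : G) * el (vi u) * (k : G)⁻¹ = el (vi u)) → k ∈ (Q : Subgroup K) := by
  obtain ⟨Q, hQ⟩ := Pt.syl
  have hQ' : ∀ x : K, x ∈ (Q : Subgroup K) ↔ ∃ u < 27, χ u = 1 ∧ el (vi u) = x := fun x => by
    rw [hQ]
    refine ⟨fun h => Pt.mem_meet h x.2, ?_⟩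
    rintro ⟨u, hu, -, h⟩
    exact ⟨u, hu, h⟩
  have hcard : Nat.card (Q : Subgroup K) = 9 := by
    rw [← P.count, ← Nat.card_eq_finsetCard]
    refine (Nat.card_eq_of_bijective (fun u : ↥((Finset.range 27).filter fun u => χ u = 1) =>
      (⟨⟨el (vi u.1), (Pt.meet _ (Finset.mem_range.1 (Finset.mem_filter.1 u.2).1)).2
        (Finset.mem_filter.1 u.2).2⟩, (hQ _).2 ⟨u.1, Finset.mem_range.1 (Finset.mem_filter.1 u.2).1, rfl⟩⟩ :
          (Q : Subgroup K))) ⟨fun u w h => Subtype.ext ?_, fun x => ?_⟩).symm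
    · exact C.vi_inj (Finset.mem_range.1 (Finset.mem_filter.1 u.2).1)
        (Finset.mem_range.1 (Finset.mem_filter.1 w.2).1) (congrArg (fun z : (Q : Subgroup K) => ((z : K) : G)) h)
    · obtain ⟨u, hu, h1, he⟩ := (hQ' x).1 x.2
      exact ⟨⟨u, Finset.mem_filter.2 ⟨Finset.mem_range.2 hu, h1⟩⟩, Subtype.ext (Subtype.ext he)⟩
  have hnorm : ∀ {k : K}, k ∈ Subgroup.normalizer ((Q : Subgroup K) : Set K) →
      ∀ t < 27, χ t = 1 → ∃ t' < 27, χ t' = 1 ∧ (k : G) * el (vi t) * (k : G)⁻¹ = el (vi t') := by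
    intro k hk t ht ht1
    have hx : (⟨el (vi t), (Pt.meet t ht).2 ht1⟩ : K) ∈ (Q : Subgroup K) := (hQ _).2 ⟨t, ht, rfl⟩
    obtain ⟨t', ht', h1, he⟩ := (hQ' _).1 ((Subgroup.mem_normalizer_iff.1 hk _).1 hx)
    exact ⟨t', ht', h1, he.symm⟩
  have hNJ : ∀ {k : K}, k ∈ Subgroup.normalizer ((Q : Subgroup K) : Set K) →
      (k : G) ∈ Subgroup.normalizer (C.VJ : Set G) := fun {k} hk => by
    refine Subgroup.mem_normalizer_fintype fun z hz => P.cent _ (mul_mem (mul_mem (Pt.le k.2) (Pt.jle hz))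
      (inv_mem (Pt.le k.2))) fun t ht ht1 => ?_
    obtain ⟨t', ht', -, he⟩ := hnorm (inv_mem hk) t ht ht1
    have h2 := (Commute.conj_iff (k : G)).2 (C.VJ_comm hz ⟨t', ht', rfl⟩)
    rw [← he, Subgroup.coe_inv] at h2
    rwa [show (k : G) * ((k : G)⁻¹ * el (vi t) * (k : G)⁻¹⁻¹) * (k : G)⁻¹ = el (vi t) by group] at h2
  have hNQ : ∀ {k : K}, (k : G) ∈ Subgroup.normalizer (C.VJ : Set G) →
      k ∈ Subgroup.normalizer ((Q : Subgroup K) : Set K) := fun {k} hk =>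
    Subgroup.mem_normalizer_iff.2 fun h => by
      rw [hQ, hQ]
      exact Subgroup.mem_normalizer_iff.1 hk (h : G)
  have hfix : ∀ k : K, (∀ u < 27, (k : G) * el (vi u) * (k : G)⁻¹ = el (vi u)) → k ∈ (Q : Subgroup K) :=
    fun k hk => (hQ k).2 (C.cent_VJ hk)
  refine ⟨Q, hcard, hQ', fun x y hx hy => ?_, ?_, fun x hx hx1 => ?_, fun hn => ?_, fun k hk => ?_,
    fun i hi => ?_, hfix⟩
  · exact ⟨Subtype.ext (C.VJ_comm ((hQ x).1 hx) ((hQ y).1 hy)), Subtype.ext (C.VJ_cube ((hQ x).1 hx))⟩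
  · refine le_antisymm (fun k hk => ?_) fun k hk => Subgroup.mem_centralizer_iff.2 fun y hy =>
      Subtype.ext (C.VJ_comm ((hQ y).1 hy) ((hQ k).1 hk))
    exact (hQ k).2 (P.cent _ (Pt.le k.2) fun t ht ht1 => (congrArg Subtype.val
      (Subgroup.mem_centralizer_iff.1 hk ⟨el (vi t), (Pt.meet t ht).2 ht1⟩ ((hQ _).2 ⟨t, ht, rfl⟩))).symm)
  · obtain ⟨t, ht, ht1, he⟩ := (hQ' x).1 hx
    have ht0 : t ≠ 0 := fun h => hx1 (Subtype.ext (by
      rw [← he, h, show vi 0 = 0 by decide +kernel, C.el_zero]; rfl))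
    intro k hk
    refine hNQ (P.loc t ht ht1 ht0 ⟨Pt.le k.2, Subgroup.mem_centralizer_singleton_iff.2 ?_⟩)
    rw [he]
    exact congrArg Subtype.val (Subgroup.mem_centralizer_singleton_iff.1 hk)
  · refine Pt.le_norm_of_normal P.cent fun k hk t ht ht1 => ?_
    exact hnorm (k := ⟨k, hk⟩) (by rw [Subgroup.normalizer_eq_top_iff.2 hn]; trivial) t ht ht1
  · obtain ⟨A, hA, hAa⟩ := C.act_norm (hNJ hk)
    obtain ⟨i, hi, hia⟩ := P.real _ (Pt.le k.2) A hA hAa
    exact ⟨i, hi, fun u hu => by rw [hAa u hu, hia u hu]⟩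
  · obtain ⟨g, hg, hga⟩ := P.exist i hi
    obtain ⟨w, hw, hk⟩ := Pt.cover g hg
    have hact : ∀ u < 27, g * el (vi w) * el (vi u) * (g * el (vi w))⁻¹ = el (vi (act i u)) := fun u hu => by
      rw [← hga u hu]
      calc g * el (vi w) * el (vi u) * (g * el (vi w))⁻¹
          = g * (el (vi w) * el (vi u)) * (el (vi w))⁻¹ * g⁻¹ := by group
        _ = _ := by rw [C.VJ_comm ⟨w, hw, rfl⟩ ⟨u, hu, rfl⟩]; group
    exact ⟨⟨_, hk⟩, hNQ (C.mem_norm fun u hu => ⟨_, P.lt i hi u hu, hact u hu⟩), hact⟩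

/-- The quotient of the normaliser is numbered by the maps. -/
theorem card_quot (P : PlaneData C D χ m act) {Q : Subgroup K} {N : Subgroup K} (hQN : Q ≤ N)
    (hN : ∀ k ∈ N, ∃ i < m, ∀ u < 27, (k : G) * el (vi u) * (k : G)⁻¹ = el (vi (act i u)))
    (hex : ∀ i < m, ∃ k ∈ N, ∀ u < 27, (k : G) * el (vi u) * (k : G)⁻¹ = el (vi (act i u)))
    (hfix : ∀ k : K, (∀ u < 27, (k : G) * el (vi u) * (k : G)⁻¹ = el (vi u)) → k ∈ Q)
    (hsub : ∀ k ∈ Q, (k : G) ∈ C.VJ) : Nat.card (N ⧸ Q.subgroupOf N) = m := by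
  choose ρ hρ hρa using fun k : N => hN k k.2
  have hiff : ∀ a b : N, a⁻¹ * b ∈ Q.subgroupOf N ↔ ρ a = ρ b := by
    intro a b
    rw [Subgroup.mem_subgroupOf]
    constructor
    · intro h
      obtain ⟨w, hw, hwe⟩ := hsub _ h
      refine P.distinct _ (hρ a) _ (hρ b) fun u hu => C.vi_inj (P.lt _ (hρ a) u hu) (P.lt _ (hρ b) u hu) ?_
      rw [← hρa a u hu, ← hρa b u hu,
        show ((b : K) : G) = ((a : K) : G) * el (vi w) by rw [hwe]; push_cast; group]
      calc ((a : K) : G) * el (vi u) * ((a : K) : G)⁻¹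
          = ((a : K) : G) * (el (vi u) * el (vi w)) * (el (vi w))⁻¹ * ((a : K) : G)⁻¹ := by group
        _ = _ := by rw [C.VJ_comm ⟨u, hu, rfl⟩ ⟨w, hw, rfl⟩]; group
    · intro h
      refine hfix _ fun u hu => ?_
      push_cast
      have e1 := hρa a u hu
      rw [h, ← hρa b u hu] at e1
      calc ((a : K) : G)⁻¹ * ((b : K) : G) * el (vi u) * (((a : K) : G)⁻¹ * ((b : K) : G))⁻¹
          = ((a : K) : G)⁻¹ * (((b : K) : G) * el (vi u) * ((b : K) : G)⁻¹) * ((a : K) : G) := by group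
        _ = el (vi u) := by rw [← e1]; group
  let F : N ⧸ Q.subgroupOf N → Fin m := Quotient.lift (fun a => ⟨ρ a, hρ a⟩) fun a b h =>
    Fin.ext ((hiff a b).1 (QuotientGroup.leftRel_apply.1 h))
  refine (Nat.card_eq_of_bijective F ⟨?_, fun i => ?_⟩).trans (Nat.card_fin m)
  · intro x y h
    induction x using Quotient.inductionOn with | _ a => ?_
    induction y using Quotient.inductionOn with | _ b => ?_
    exact Quotient.sound (QuotientGroup.leftRel_apply.2 ((hiff a b).2 (congrArg Fin.val h)))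
  · obtain ⟨k, hk, hka⟩ := hex i i.2
    refine ⟨Quotient.mk _ ⟨k, hk⟩, Fin.ext (P.distinct _ (hρ _) _ i.2 fun u hu => ?_)⟩
    exact C.vi_inj (P.lt _ (hρ _) u hu) (P.lt _ i.2 u hu) ((hρa ⟨k, hk⟩ u hu).symm.trans (hka u hu))

/-- The four-group case. -/
theorem Part.le_norm_of_klein (Pt : Part C D K χ) (P : PlaneData C D χ 4 act)
    (hsq : ∀ i < 4, ∀ u < 27, act i (act i u) = u) : D ≤ Subgroup.normalizer (C.VJ : Set G) := by
  obtain ⟨Q, hcard, hQ, hab, hC, hloc, hnorm, hact, hex, hfix⟩ := Pt.sylow_spec P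
  refine hnorm ?_
  set N := Subgroup.normalizer ((Q : Subgroup K) : Set K)
  have hQN : (Q : Subgroup K) ≤ N := Subgroup.le_normalizer
  haveI : ((Q : Subgroup K).subgroupOf N).Normal := Subgroup.normal_in_normalizer
  have h4 : Nat.card (N ⧸ (Q : Subgroup K).subgroupOf N) = 4 := card_quot P hQN hact hex hfix fun k hk => by
    obtain ⟨u, hu, -, he⟩ := (hQ k).1 hk
    exact ⟨u, hu, he⟩
  have hexp : ∀ q : N ⧸ (Q : Subgroup K).subgroupOf N, q ^ 2 = 1 := by
    intro q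
    induction q using QuotientGroup.induction_on with | _ k => ?_
    rw [← QuotientGroup.mk_pow, QuotientGroup.eq_one_iff, Subgroup.mem_subgroupOf]
    refine hfix _ fun u hu => ?_
    obtain ⟨i, hi, hia⟩ := hact k k.2
    have e2 := hia _ (P.lt i hi u hu)
    rw [hsq i hi u hu] at e2
    conv_rhs => rw [← e2, ← hia u hu]
    push_cast
    rw [pow_two]
    group
  haveI : IsKleinFour (N ⧸ (Q : Subgroup K).subgroupOf N) := by
    refine ⟨h4, ?_⟩
    rcases (Nat.dvd_prime Nat.prime_two).1 (Monoid.exponent_dvd_of_forall_pow_eq_one hexp) with h | h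
    · have := Monoid.exp_eq_one_iff.1 h
      rw [Nat.card_of_subsingleton (1 : N ⧸ (Q : Subgroup K).subgroupOf N)] at h4
      norm_num at h4
    · exact h
  have htop := Cfsg.Agent.S3805.result Q
    ⟨⟨⟨fun x y => Subtype.ext (hab x y x.2 y.2).1⟩⟩, fun x hx => (hab x x hx hx).2⟩ hcard hC inferInstance hloc
  exact Subgroup.normalizer_eq_top_iff.1 htop

/-- The dihedral case. -/
theorem Part.le_norm_or_six (Pt : Part C D K χ) (P : PlaneData C D χ 8 act) {i j : ℕ} (hi : i < 8) (hj : j < 8)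
    (hr4 : ∀ u < 27, act i (act i (act i (act i u))) = u) (hr2 : ∃ u < 27, act i (act i u) ≠ u)
    (hs2 : ∀ u < 27, act j (act j u) = u) (hrel : ∀ u < 27, act i (act j (act i (act j u))) = u)
    (hne : ∃ u < 27, act j u ≠ u) (hne2 : ∃ u < 27, act j u ≠ act i (act i u)) :
    D ≤ Subgroup.normalizer (C.VJ : Set G) ∨ Nonempty (K ≃* Equiv.Perm (Fin 6)) := by
  obtain ⟨Q, hcard, hQ, hab, hC, hloc, hnorm, hact, hex, hfix⟩ := Pt.sylow_spec P
  set N := Subgroup.normalizer ((Q : Subgroup K) : Set K)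
  have hQN : (Q : Subgroup K) ≤ N := Subgroup.le_normalizer
  haveI : ((Q : Subgroup K).subgroupOf N).Normal := Subgroup.normal_in_normalizer
  have hsub : ∀ k ∈ (Q : Subgroup K), (k : G) ∈ C.VJ := fun k hk => by
    obtain ⟨u, hu, -, he⟩ := (hQ k).1 hk
    exact ⟨u, hu, he⟩
  have h8 : Nat.card (N ⧸ (Q : Subgroup K).subgroupOf N) = 8 := card_quot P hQN hact hex hfix hsub
  obtain ⟨kr, hkr, hra⟩ := hex i hi
  obtain ⟨ks, hks, hsa⟩ := hex j hj
  have hmem : ∀ {a : N} {F : ℕ → ℕ}, (∀ u < 27, ((a : K) : G) * el (vi u) * ((a : K) : G)⁻¹ = el (vi (F u))) →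
      (∀ u < 27, F u < 27) →
      ((QuotientGroup.mk a : N ⧸ (Q : Subgroup K).subgroupOf N) = 1 ↔ ∀ u < 27, F u = u) := by
    intro a F ha hF
    rw [QuotientGroup.eq_one_iff, Subgroup.mem_subgroupOf]
    constructor
    · intro h u hu
      refine C.vi_inj (hF u hu) hu ?_
      rw [← ha u hu, C.VJ_comm (hsub _ h) ⟨u, hu, rfl⟩, mul_inv_cancel_right]
    · intro h
      exact hfix _ fun u hu => by rw [ha u hu, h u hu]
  have comp : ∀ {a b : N} {F H : ℕ → ℕ}, (∀ u < 27, ((a : K) : G) * el (vi u) * ((a : K) : G)⁻¹ = el (vi (F u))) →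
      (∀ u < 27, ((b : K) : G) * el (vi u) * ((b : K) : G)⁻¹ = el (vi (H u))) → (∀ u < 27, H u < 27) →
      ∀ u < 27, (((a * b : N) : K) : G) * el (vi u) * (((a * b : N) : K) : G)⁻¹ = el (vi (F (H u))) := by
    intro a b F H ha hb hH u hu
    rw [← ha _ (hH u hu), ← hb u hu]
    push_cast
    group
  let r : N := ⟨kr, hkr⟩
  let s : N := ⟨ks, hks⟩
  have li := P.lt i hi
  have lj := P.lt j hj
  have r2 := comp (a := r) (b := r) hra hra li
  have s2 := comp (a := s) (b := s) hsa hsa lj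
  have r4 := comp r2 r2 fun u hu => li _ (li u hu)
  have rs := comp (a := r) (b := s) hra hsa lj
  have rs2 := comp rs rs fun u hu => li _ (lj u hu)
  set π := QuotientGroup.mk' ((Q : Subgroup K).subgroupOf N)
  have pr4 : π r ^ 4 = 1 := by
    rw [← map_pow, show r ^ 4 = r * r * (r * r) by simp only [pow_succ, pow_zero, one_mul, mul_assoc]]
    exact (hmem r4 fun u hu => li _ (li _ (li _ (li u hu)))).2 fun u hu => hr4 u hu
  have pr2 : π r ^ 2 ≠ 1 := fun h => by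
    rw [← map_pow, pow_two] at h
    obtain ⟨u, hu, hne'⟩ := hr2
    exact hne' ((hmem r2 fun u hu => li _ (li u hu)).1 h u hu)
  haveI : Fact (Nat.Prime 2) := ⟨Nat.prime_two⟩
  have ho : orderOf (π r) = 4 := by
    have := orderOf_eq_prime_pow (p := 2) (n := 1) (x := π r) (by rw [pow_one]; exact pr2) (by exact pr4)
    exact this
  have ps : π s * π s = 1 := by
    rw [← map_mul]
    exact (hmem s2 fun u hu => lj _ (lj u hu)).2 fun u hu => hs2 u hu
  have prs : π r * π s * (π r * π s) = 1 := by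
    rw [← map_mul, ← map_mul]
    exact (hmem rs2 fun u hu => li _ (lj _ (li _ (lj u hu)))).2 fun u hu => hrel u hu
  have hconj : π s * π r * (π s)⁻¹ = (π r)⁻¹ := by
    rw [inv_eq_of_mul_eq_one_right ps]
    refine (inv_eq_of_mul_eq_one_right ?_).symm
    rw [← mul_assoc, ← mul_assoc, mul_assoc]
    exact prs
  have hnot : π s ∉ Subgroup.zpowers (π r) := fun h => by
    obtain ⟨z, hz⟩ := Subgroup.mem_zpowers_iff.1 h
    have hc : Commute (π s) (π r) := hz ▸ (Commute.refl (π r)).zpow_left z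
    have e1 : π r ^ (2 * z) = 1 := by rw [two_mul, zpow_add, hz, ps]
    have e2 := orderOf_dvd_iff_zpow_eq_one.2 e1
    rw [ho] at e2
    obtain ⟨w, hw⟩ : (2 : ℤ) ∣ z := by omega
    rw [hw, zpow_mul, zpow_ofNat] at hz
    have hr22 : (π r ^ 2) ^ (2 : ℤ) = 1 := by rw [zpow_ofNat, ← pow_mul]; exact pr4
    rcases Int.even_or_odd' w with ⟨q, rfl | rfl⟩
    · rw [zpow_mul, hr22, one_zpow] at hz
      obtain ⟨u, hu, h'⟩ := hne
      exact h' ((hmem (a := s) hsa lj).1 hz.symm u hu)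
    · rw [zpow_add, zpow_mul, hr22, one_zpow, one_mul, zpow_one, ← map_pow, pow_two] at hz
      obtain ⟨u, hu, h'⟩ := hne2
      refine h' (C.vi_inj (lj u hu) (li _ (li u hu)) ?_)
      have hq := (QuotientGroup.eq.1 hz : (r * r)⁻¹ * s ∈ (Q : Subgroup K).subgroupOf N)
      rw [Subgroup.mem_subgroupOf] at hq
      obtain ⟨w, hw, hwe⟩ := hsub _ hq
      push_cast at hwe
      dsimp only [r, s] at hwe
      rw [← r2 u hu, ← hsa u hu, show (ks : G) = ((kr : G) * kr) * el (vi w) by rw [hwe]; group]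
      push_cast
      dsimp only [r, s]
      calc (kr : G) * kr * el (vi w) * el (vi u) * ((kr : G) * kr * el (vi w))⁻¹
          = (kr : G) * kr * (el (vi w) * el (vi u)) * (el (vi w))⁻¹ * ((kr : G) * kr)⁻¹ := by group
        _ = _ := by rw [C.VJ_comm ⟨w, hw, rfl⟩ ⟨u, hu, rfl⟩]; group
  obtain ⟨e⟩ := TwoLift.dihedral_equiv ho ps hconj hnot rfl
  have htop : Subgroup.closure ({π r, π s} : Set _) = (⊤ : Subgroup (N ⧸ (Q : Subgroup K).subgroupOf N)) :=
    Subgroup.eq_top_of_card_eq _ (by rw [Nat.card_congr e.toEquiv, DihedralGroup.nat_card, h8])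
  rcases Cfsg.Agent.S3333.result Q (Q : Subgroup K) rfl hcard hC
      ((Subgroup.topEquiv.symm.trans (MulEquiv.subgroupCongr htop.symm)).trans e) hloc with h | h
  · exact Or.inl (hnorm h)
  · exact Or.inr h

end Cfsg.Agent.S3342Id.LocalCent
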