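import Cfsg.Agent.Lib.Hayden.Local

/-!
S3342: stabilisers of points and pairs of points in the two large orbit types, checked on codes.
-/

set_option autoImplicit false
set_option maxRecDepth 100000
set_option synthInstance.maxSize 10000

namespace Cfsg.Agent.S3342Id.LocalCent

open Cfsg.Agent.Hayden

/-- A linear functional by coefficients. -/
def fn (c : ℕ × ℕ × ℕ) (u : ℕ) : ZMod 3 :=
  ((c.1 * (u % 3) + c.2.1 * (u / 3 % 3) + c.2.2 * (u / 9 % 3) : ℕ) : ZMod 3)

/-- Two functionals as a character. -/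
def chi (c d : ℕ × ℕ × ℕ) (u : ℕ) : M33 := Multiplicative.ofAdd (fn c u, fn d u)

/-- All maps preserving the orbit and fixing the given points are in the list. -/
def stab (O pts : List ℕ) (L : List (ℕ × ℕ × ℕ)) : Bool :=
  O.all fun p => (List.range 27).all fun q => (List.range 27).all fun r =>
    !((pts.all fun v => app (p, q, r) v == v) && pres (p, q, r) O && !sing (p, q, r)) ||
      L.any fun B => (List.range 27).all fun u => app (p, q, r) u == app B u

/-- The maps of a list are valid and fix the given points. -/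
def valid (O pts : List ℕ) (L : List (ℕ × ℕ × ℕ)) : Bool :=
  L.all fun B => (pts.all fun v => app B v == v) && pres B O && !sing B &&
    Nat.blt B.1 27 && Nat.blt B.2.1 27 && Nat.blt B.2.2 27

/-- The maps of a list are distinct. -/
def distinctB (L : List (ℕ × ℕ × ℕ)) : Bool :=
  (List.range L.length).all fun i => (List.range L.length).all fun j =>
    i == j || !((List.range 27).all fun u => app (L.getD i (0, 0, 0)) u == app (L.getD j (0, 0, 0)) u)

/-- The functionals are invariant under the list. -/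
def invB (c d : ℕ × ℕ × ℕ) (L : List (ℕ × ℕ × ℕ)) : Bool :=
  L.all fun B => (List.range 27).all fun u =>
    decide (fn c (app B u) = fn c u) && decide (fn d (app B u) = fn d u)

/-- Additivity. -/
def addB (c d : ℕ × ℕ × ℕ) : Bool :=
  (List.range 27).all fun u => (List.range 27).all fun w =>
    decide (fn c (vadd u w) = fn c u + fn c w) && decide (fn d (vadd u w) = fn d u + fn d w)

/-- Every point is a combination of the given points and kernel points. -/
def genB (c d : ℕ × ℕ × ℕ) (zs : List ℕ) : Bool :=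
  (List.range 27).all fun u => zs.any fun z => (List.range 27).any fun t =>
    u == vadd z t && decide (fn c t = 0 ∧ fn d t = 0)

/-- The stabilisers of the first type. -/
def L4a : List (ℕ × ℕ × ℕ) := [(1, 3, 9), (1, 6, 9)]
/-- The stabilisers of the first type. -/
def L4b : List (ℕ × ℕ × ℕ) := [(1, 3, 9), (1, 6, 9), (18, 3, 2), (18, 6, 2)]
/-- The stabilisers of the second type. -/
def L8a : List (ℕ × ℕ × ℕ) := [(1, 3, 9), (1, 6, 9), (9, 3, 1), (9, 6, 1)]
/-- The stabilisers of the second type. -/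
def L8b : List (ℕ × ℕ × ℕ) :=
  [(1, 3, 9), (1, 6, 9), (14, 10, 22), (14, 20, 22), (17, 10, 25), (17, 20, 25), (18, 3, 2), (18, 6, 2)]
/-- The stabilisers of the second type. -/
def L8c : List (ℕ × ℕ × ℕ) := [(1, 3, 9), (2, 3, 18), (9, 3, 1), (18, 3, 2)]

/-- Pairs with a non-trivial stabiliser and no point of the orbit in their span. -/
def hard : List ((ℕ × ℕ) × (ℕ × ℕ × ℕ) × (ℕ × ℕ × ℕ) × (ℕ × ℕ × ℕ) × ℕ) :=
  [((10, 3), (9, 3, 1), (0, 1, 0), (1, 0, 1), 11), ((10, 6), (9, 3, 1), (0, 1, 0), (1, 0, 1), 11),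
   ((19, 13), (17, 10, 25), (0, 1, 1), (1, 0, 2), 16), ((19, 26), (17, 10, 25), (0, 1, 1), (1, 0, 2), 16),
   ((19, 16), (14, 20, 22), (0, 1, 2), (1, 0, 2), 13), ((19, 23), (14, 20, 22), (0, 1, 2), (1, 0, 2), 13),
   ((3, 10), (9, 3, 1), (0, 1, 0), (1, 0, 1), 11), ((3, 20), (9, 3, 1), (0, 1, 0), (1, 0, 1), 11)]

/-- The combinations of two points. -/
def span2 (v w : ℕ) : List ℕ :=
  (List.range 3).flatMap fun a => (List.range 3).map fun b => vadd (vsm a v) (vsm b w)

/-- A pair meets the orbit. -/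
def meets (O : List ℕ) (v w : ℕ) : Bool :=
  (span2 v w).any fun u => O.contains u && !(v == 0) && !(v == u) && !(v == vneg u)

/-- The checks for hard pairs. -/
theorem hard_ok : (hard.all fun h => stab O8 [h.1.1, h.1.2] [(1, 3, 9), h.2.1] &&
    invB h.2.2.1 h.2.2.2.1 [(1, 3, 9), h.2.1] && addB h.2.2.1 h.2.2.2.1 &&
    genB h.2.2.1 h.2.2.2.1 (span2 h.1.1 h.1.2) && Nat.blt h.1.1 27 && Nat.blt h.1.2 27 &&
    Nat.blt h.2.2.2.2 27 && !(h.2.2.2.2 == 0) &&
    decide (fn h.2.2.1 h.2.2.2.2 = 0 ∧ fn h.2.2.2.1 h.2.2.2.2 = 0) &&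
    (List.range 27).all fun u => !decide (fn h.2.2.1 u = 0 ∧ fn h.2.2.2.1 u = 0) ||
      u == 0 || u == h.2.2.2.2 || u == vneg h.2.2.2.2) = true := by decide +kernel

/-- The kernel points of the four planes are good. -/
theorem pairs_ok : ([(O4, 19, (1, 0, 2)), (O8, 10, (1, 0, 1)), (O8, 3, (0, 1, 0)), (O8, 19, (1, 0, 2))].all fun x =>
    (List.range 27).all fun t => t == 0 || !decide (fn x.2.2 t = 0) || meets x.1 x.2.1 t ||
      stab x.1 [x.2.1, t] [(1, 3, 9)] || (x.1 == O8 && hard.any fun h => h.1 == (x.2.1, t))) = true := by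
  decide +kernel

/-- The checks for the five centralisers. -/
theorem planes_ok : ([(O4, 19, (1, 0, 2), L4b), (O8, 10, (1, 0, 1), L8a), (O8, 3, (0, 1, 0), L8c),
    (O8, 19, (1, 0, 2), L8b)].all fun x => stab x.1 [x.2.1] x.2.2.2 && valid x.1 [x.2.1] x.2.2.2 &&
      distinctB x.2.2.2 && invB x.2.2.1 (0, 0, 0) x.2.2.2 && addB x.2.2.1 (0, 0, 0) &&
      genB x.2.2.1 (0, 0, 0) [0, x.2.1, vneg x.2.1] &&
      Nat.beq ((List.range 27).filter fun u => decide (fn x.2.2.1 u = 0)).length 9) = true := by decide +kernel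

theorem line_ok : stab O4 [10] L4a = true ∧ invB (0, 0, 1) (1, 0, 0) L4a = true ∧
    addB (0, 0, 1) (1, 0, 0) = true ∧ stab O4 [10, 3] [(1, 3, 9)] = true ∧
    ∀ u < 27, fn (0, 0, 1) u = 0 ∧ fn (1, 0, 0) u = 0 → u = 0 ∨ u = 3 ∨ u = vneg 3 := by decide +kernel

theorem not_orb_ok : (∀ v ∈ [10, 19], v < 27 ∧ v ≠ 0 ∧ v ∉ O4 ∧ vneg v ∉ O4) ∧
    (∀ v ∈ [10, 19, 3], v < 27 ∧ v ≠ 0 ∧ v ∉ O8 ∧ vneg v ∉ O8) := by decide +kernel

/-- Invariance of the abelian subgroup under centralisers of two suitable points of the centraliser. -/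
theorem chk_pair : ∀ u < 27, u = 0 ∨ u = 1 ∨ u = 2 ∨ ∀ i < 648, T i (vi u) = T (vi u) i →
    ∀ b ∈ [1, 3, 9], cj i (vi b) < 81 ∧ cj i (vi b) % 9 < 3 := by decide +kernel

theorem klein_ok : ([L4b, L8a, L8c].all fun L => (List.range 4).all fun i => (List.range 27).all fun u =>
    app (L.getD i (0, 0, 0)) (app (L.getD i (0, 0, 0)) u) == u) = true := by decide +kernel

theorem dihedral_ok : (∀ u < 27, app (14, 10, 22) (app (14, 10, 22) (app (14, 10, 22) (app (14, 10, 22) u))) = u) ∧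
    (∃ u < 27, app (14, 10, 22) (app (14, 10, 22) u) ≠ u) ∧ (∀ u < 27, app (1, 6, 9) (app (1, 6, 9) u) = u) ∧
    (∀ u < 27, app (14, 10, 22) (app (1, 6, 9) (app (14, 10, 22) (app (1, 6, 9) u))) = u) ∧
    (∃ u < 27, app (1, 6, 9) u ≠ u) ∧ (∃ u < 27, app (1, 6, 9) u ≠ app (14, 10, 22) (app (14, 10, 22) u)) := by
  decide +kernel

end Cfsg.Agent.S3342Id.LocalCent
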