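import Cfsg.Agent.Lib.S3342Id.Line
import Cfsg.Agent.Lib.S3342Id.Plane
import Cfsg.Agent.Lib.S3342Id.PointTables

/-!
S3342: the centralisers of the points outside the orbit of the distinguished element, in the two large types.
-/

set_option autoImplicit false
set_option maxRecDepth 20000
set_option synthInstance.maxSize 10000
set_option linter.style.haveILetI false

namespace Cfsg.Agent.S3342Id.LocalCent

open Cfsg.Agent.Hayden Cfsg.Agent.Hayden.Cfg

theorem chi_eq_one {c d : ℕ × ℕ × ℕ} {u : ℕ} : chi c d u = 1 ↔ fn c u = 0 ∧ fn d u = 0 := by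
  rw [chi, ← ofAdd_zero, Multiplicative.ofAdd.injective.eq_iff, Prod.mk_eq_zero]

theorem chi_add {c d : ℕ × ℕ × ℕ} (h : addB c d = true) :
    ∀ u < 27, ∀ w < 27, chi c d (vadd u w) = chi c d u * chi c d w := fun u hu w hw => by
  simp only [addB, List.all_eq_true, List.mem_range, Bool.and_eq_true, decide_eq_true_eq] at h
  rw [chi, chi, chi, ← ofAdd_add, Prod.mk_add_mk, (h u hu w hw).1, (h u hu w hw).2]

variable {G : Type*} [Group G] [Finite G] {el : ℕ → G} (C : Cfg el)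

include C

theorem exists_mem_list {O : List ℕ} (hO : ∀ v < 27, C.Orb v ↔ v ∈ O) {pts : List ℕ}
    {L : List (ℕ × ℕ × ℕ)} (h : stab O pts L = true) {A : ℕ × ℕ × ℕ} (hA : C.Real A)
    (hp : ∀ v ∈ pts, app A v = v) (hlt : ∀ v ∈ O, v < 27) (h1 : 1 ∈ O) :
    ∃ i < L.length, ∀ u < 27, app A u = app (L.getD i (0, 0, 0)) u := by
  obtain ⟨hp1, hq, hr, n, e1, e2, e3⟩ := hA
  have hA : C.Real A := ⟨hp1, hq, hr, n, e1, e2, e3⟩
  have hpres : ∀ v ∈ O, app A v ∈ O := fun v hv =>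
    (hO _ (app_lt _ _)).1 (C.orb_app hA (hlt v hv) ((hO v (hlt v hv)).2 hv))
  have hA1 : app A 1 = A.1 := C.vi_inj (app_lt _ _) hp1
    ((C.act hp1 hq hr e1 e2 e3 (v := 1) (by norm_num)).symm.trans e1)
  simp only [stab, List.all_eq_true, List.any_eq_true, List.mem_range, Bool.or_eq_true, Bool.not_eq_true',
    Bool.and_eq_false_iff, List.all_eq_false, beq_iff_eq, Bool.not_eq_false'] at h
  rcases h A.1 (hA1 ▸ hpres 1 h1) A.2.1 hq A.2.2 hr with ((⟨v, hv, hne⟩ | hb) | hs) | ⟨B, hB, hBe⟩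
  · exact absurd (hp v hv) (by simpa using hne)
  · have : pres A O = true := List.all_eq_true.2 fun v hv => List.contains_iff_mem.2 (hpres v hv)
    rw [show (A.1, A.2.1, A.2.2) = A from rfl, this] at hb
    exact absurd hb (by simp)
  · rw [show (A.1, A.2.1, A.2.2) = A from rfl, C.not_sing hA] at hs
    exact absurd hs (by simp)
  · obtain ⟨i, hi, rfl⟩ := List.getElem_of_mem hB
    exact ⟨i, hi, fun u hu => by rw [List.getD_eq_getElem _ _ hi]; exact hBe u hu⟩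

theorem fix_of_le {D : Subgroup G} {v : ℕ} (hv : v < 27) (hD : D ≤ cg el v) {g : G} (hg : g ∈ D)
    {A : ℕ × ℕ × ℕ} (hA : ∀ u < 27, g * el (vi u) * g⁻¹ = el (vi (app A u))) : app A v = v :=
  C.fix_of_comm hv hA (hD hg)

theorem inv_of_list {O : List ℕ} (hO : ∀ v < 27, C.Orb v ↔ v ∈ O) (hlt : ∀ v ∈ O, v < 27) (h1 : 1 ∈ O)
    {pts : List ℕ} {L : List (ℕ × ℕ × ℕ)} (hs : stab O pts L = true) {c d : ℕ × ℕ × ℕ}
    (hi : invB c d L = true) (D : Subgroup G) (hD : ∀ v ∈ pts, v < 27 ∧ D ≤ cg el v) :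
    ∀ g ∈ D, ∀ A, C.Real A → (∀ u < 27, g * el (vi u) * g⁻¹ = el (vi (app A u))) →
      ∀ u < 27, chi c d (app A u) = chi c d u := by
  intro g hg A hA hAa u hu
  obtain ⟨i, hil, hie⟩ := exists_mem_list C hO hs hA
    (fun v hv => fix_of_le C (hD v hv).1 (hD v hv).2 hg hAa) hlt h1
  simp only [invB, List.all_eq_true, List.mem_range, Bool.and_eq_true, decide_eq_true_eq] at hi
  have hmem : L.getD i (0, 0, 0) ∈ L := by rw [List.getD_eq_getElem _ _ hil]; exact List.getElem_mem hil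
  rw [chi, chi, hie u hu, (hi _ hmem u hu).1, (hi _ hmem u hu).2]

theorem cent_of_gen {c d : ℕ × ℕ × ℕ} {zs : List ℕ} (hg : genB c d zs = true) {D : Subgroup G}
    (hz : ∀ z ∈ zs, z < 27 ∧ D ≤ cg el z) :
    ∀ g ∈ D, (∀ t < 27, chi c d t = 1 → Commute g (el (vi t))) → g ∈ C.VJ := by
  intro g hgD hgt
  refine C.cent_VJ fun u hu => mul_inv_eq_iff_eq_mul.2 ?_
  simp only [genB, List.all_eq_true, List.any_eq_true, List.mem_range, Bool.and_eq_true, decide_eq_true_eq,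
    beq_iff_eq] at hg
  obtain ⟨z, hzm, t, ht, rfl, hk⟩ := hg u hu
  rw [C.el_vadd (hz z hzm).1 ht]
  exact ((show Commute g (el (vi z)) from (Subgroup.mem_centralizer_singleton_iff.1 ((hz z hzm).2 hgD))).mul_right
    (hgt t ht (chi_eq_one.2 hk))).eq

theorem le_cg_vadd {D : Subgroup G} {v w : ℕ} (hv : v < 27) (hw : w < 27) (h1 : D ≤ cg el v) (h2 : D ≤ cg el w) :
    D ≤ cg el (vadd v w) := fun g hg => Subgroup.mem_centralizer_singleton_iff.2 (by
  rw [C.el_vadd hv hw]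
  exact ((show Commute g (el (vi v)) from Subgroup.mem_centralizer_singleton_iff.1 (h1 hg)).mul_right
    (Subgroup.mem_centralizer_singleton_iff.1 (h2 hg))).eq)

theorem le_cg_zero (D : Subgroup G) : D ≤ cg el 0 := fun g _ => Subgroup.mem_centralizer_singleton_iff.2 (by
  rw [show vi 0 = 0 by decide +kernel, C.el_zero, mul_one, one_mul])

theorem le_cg_vsm {D : Subgroup G} {v : ℕ} (hv : v < 27) (h1 : D ≤ cg el v) {a : ℕ} (ha : a < 3) :
    D ≤ cg el (vsm a v) := by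
  interval_cases a
  · exact le_cg_zero C D
  · exact h1
  · exact le_cg_vadd C hv hv h1 h1

theorem le_cg_span {D : Subgroup G} {v w : ℕ} (hv : v < 27) (hw : w < 27) (h1 : D ≤ cg el v) (h2 : D ≤ cg el w) :
    ∀ z ∈ span2 v w, z < 27 ∧ D ≤ cg el z := by
  intro z hz
  simp only [span2, List.mem_flatMap, List.mem_map, List.mem_range] at hz
  obtain ⟨a, ha, b, hb, rfl⟩ := hz
  exact ⟨vadd_lt _ _, le_cg_vadd C (Cfg.vsm_lt C hv) (Cfg.vsm_lt C hw) (le_cg_vsm C hv h1 ha) (le_cg_vsm C hw h2 hb)⟩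

/-- Two points with a point of the orbit among their combinations. -/
theorem pair_of_meets {O : List ℕ} (hO : ∀ v < 27, C.Orb v ↔ v ∈ O) {v w : ℕ} (hv : v < 27) (hw : w < 27)
    (h : meets O v w = true) : cg el v ⊓ cg el w ≤ Subgroup.normalizer (C.VJ : Set G) := by
  simp only [meets, List.any_eq_true, Bool.and_eq_true, Bool.not_eq_true', beq_eq_false_iff_ne,
    List.contains_iff_mem] at h
  obtain ⟨u, hus, ⟨⟨hu, hv0⟩, hvu⟩, hvn⟩ := h
  obtain ⟨hu27, huc⟩ := le_cg_span C hv hw (inf_le_left : cg el v ⊓ cg el w ≤ _) inf_le_right u hus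
  intro g hg
  obtain ⟨q, r, hA⟩ := C.real_of_orb hu27 ((hO u hu27).2 hu)
  obtain ⟨h1, h2, h3, n, e1, e2, e3⟩ := hA
  have hn : n ∈ Subgroup.normalizer (C.VJ : Set G) :=
    C.mem_norm fun x hx => ⟨_, app_lt _ _, C.act h1 h2 h3 e1 e2 e3 hx⟩
  have h9 : vi 1 = 9 := by decide +kernel
  obtain ⟨v', hv', hve⟩ : n⁻¹ * el (vi v) * n ∈ C.VJ := by
    have := (Subgroup.mem_normalizer_iff.1 (inv_mem hn) (el (vi v))).1 ⟨v, hv, rfl⟩
    rwa [inv_inv] at this
  have hveq : el (vi v) = n * el (vi v') * n⁻¹ := by rw [hve]; group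
  have hc : ∀ x < 27, Commute g (el (vi x)) → ∀ y, el (vi x) = n * y * n⁻¹ → Commute (n⁻¹ * g * n) y := by
    intro x _ hgx y hy
    have := (Commute.conj_iff n⁻¹).2 hgx
    rw [hy, inv_inv, show n⁻¹ * (n * y * n⁻¹) * n = y by group] at this
    exact this
  obtain ⟨i, hi, hie⟩ := (C.mem _).1 (hc u hu27 (Subgroup.mem_centralizer_singleton_iff.1 (huc hg)) (el 9)
    (by rw [← h9]; exact e1.symm)).eq
  have hiv := hc v hv (Subgroup.mem_centralizer_singleton_iff.1 hg.1) _ hveq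
  rw [← hie] at hiv
  rcases chk_pair v' hv' with rfl | rfl | rfl | hchk
  · refine absurd (C.vi_inj hv (by norm_num) ?_) hv0
    rw [hveq, show vi 0 = 0 by decide +kernel, C.el_zero, mul_one, mul_inv_cancel]
  · exact absurd (C.vi_inj hv hu27 (hveq.trans e1)) hvu
  · refine absurd (C.vi_inj hv (vadd_lt _ _) ?_) hvn
    show el (vi v) = el (vi (vneg u))
    rw [C.orb_inv hu27, hveq, ← e1, h9, show vi 2 = 18 by decide +kernel, C.el_eighteen, conj_inv]
  · have hb := hchk i hi ((C.comm_iff hi (chk_j.1 v' hv')).1 hiv.eq)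
    have key : ∀ b ∈ [1, 3, 9], ∃ x < 27, el i * el (vi b) * (el i)⁻¹ = el (vi x) := fun b hbm => by
      obtain ⟨k1, k2⟩ := hb b hbm
      obtain ⟨x, hx, hxe⟩ := (chk_j_mem _ k1).1 k2
      exact ⟨x, hx, by rw [C.conj hi (chk_j.1 b (by fin_cases hbm <;> norm_num)), hxe]⟩
    obtain ⟨p, hp, f1⟩ := key 1 (by simp)
    obtain ⟨q', hq', f2⟩ := key 3 (by simp)
    obtain ⟨r', hr', f3⟩ := key 9 (by simp)
    have hel : el i ∈ Subgroup.normalizer (C.VJ : Set G) :=
      C.mem_norm fun x hx => ⟨_, app_lt _ _, C.act (A := (p, q', r')) hp hq' hr' f1 f2 f3 hx⟩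
    rw [show g = n * el i * n⁻¹ by rw [hie]; group]
    exact mul_mem (mul_mem hn hel) (inv_mem hn)

/-- Two points with trivial stabiliser. -/
theorem pair_of_stab {O : List ℕ} (hO : ∀ v < 27, C.Orb v ↔ v ∈ O) (hlt : ∀ v ∈ O, v < 27) (h1 : 1 ∈ O)
    {v w : ℕ} (hv : v < 27) (hw : w < 27) (h0 : v ≠ 0) (ho : v ∉ O) (hon : vneg v ∉ O)
    (h : stab O [v, w] [(1, 3, 9)] = true) : cg el v ⊓ cg el w = C.VJ := by
  refine C.cent_pair hv hw h0 (fun e => ho ((hO v hv).1 e)) (fun e => hon ((hO _ (vadd_lt _ _)).1 e))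
    fun A hA e1 e2 u hu => ?_
  obtain ⟨i, hi, hie⟩ := exists_mem_list C hO h hA (by simp [e1, e2]) hlt h1
  rw [List.length_singleton] at hi
  rw [hie u hu, show i = 0 by omega]
  exact chk_basis u hu

/-- The hard pairs. -/
theorem pair_of_hard (hO : ∀ v < 27, C.Orb v ↔ v ∈ O8) {v w : ℕ} {q c d : ℕ × ℕ × ℕ} {t : ℕ}
    (h : ((v, w), q, c, d, t) ∈ hard) (h0 : v ≠ 0) (ho : v ∉ O8) (hon : vneg v ∉ O8) :
    cg el v ⊓ cg el w ≤ Subgroup.normalizer (C.VJ : Set G) := by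
  have hh := List.all_eq_true.1 hard_ok _ h
  simp only [Bool.and_eq_true, Bool.not_eq_true', decide_eq_true_eq, Nat.blt_eq, beq_eq_false_iff_ne,
    List.all_eq_true, List.mem_range, Bool.or_eq_true, decide_eq_false_iff_not, beq_iff_eq] at hh
  obtain ⟨⟨⟨⟨⟨⟨⟨⟨⟨hs, hi⟩, hadd⟩, hgen⟩, hv⟩, hw⟩, ht⟩, ht0⟩, htχ⟩, hline⟩ := hh
  set D := cg el v ⊓ cg el w
  have hlt : ∀ x ∈ O8, x < 27 := (chk_pres_lt O8 (by simp)).1
  obtain ⟨K, Pt⟩ := exists_part C hv h0 (fun e => ho ((hO v hv).1 e))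
    (fun e => hon ((hO _ (vadd_lt _ _)).1 e)) D (le_inf (C.VJ_le_cg hv) (C.VJ_le_cg hw)) inf_le_left
    (chi c d) (chi_add hadd) (inv_of_list C hO hlt (by simp [O8]) hs hi D (by
      simp only [List.mem_cons, List.not_mem_nil, or_false, forall_eq_or_imp, forall_eq]
      exact ⟨⟨hv, inf_le_left⟩, hw, inf_le_right⟩))
  refine Pt.le_norm_of_line ht ht0 (chi_eq_one.2 htχ) (fun u hu hu1 => ?_)
    (cent_of_gen C hgen (le_cg_span C hv hw inf_le_left inf_le_right))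
  rcases hline u hu with ((e | e) | e) | e
  · exact absurd (chi_eq_one.1 hu1) e
  · exact Or.inl e
  · exact Or.inr (Or.inl e)
  · exact Or.inr (Or.inr e)

/-- The data of the four planes. -/
theorem plane_spec {O : List ℕ} {v : ℕ} {c : ℕ × ℕ × ℕ} {L : List (ℕ × ℕ × ℕ)}
    (h : (O, v, c, L) ∈ [(O4, 19, ((1, 0, 2) : ℕ × ℕ × ℕ), L4b), (O8, 10, (1, 0, 1), L8a),
      (O8, 3, (0, 1, 0), L8c), (O8, 19, (1, 0, 2), L8b)])
    (hO : ∀ v < 27, C.Orb v ↔ v ∈ O) :
    ∃ K : Subgroup G, Part C (cg el v) K (chi c (0, 0, 0)) ∧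
      PlaneData C (cg el v) (chi c (0, 0, 0)) L.length (fun i => app (L.getD i (0, 0, 0))) := by
  have hh := List.all_eq_true.1 planes_ok _ h
  simp only [Bool.and_eq_true] at hh
  obtain ⟨⟨⟨⟨⟨⟨hs, hval⟩, hdist⟩, hi⟩, hadd⟩, hgen⟩, hcnt⟩ := hh
  have hmem : O ∈ [O4, O8] ∧ v ∈ [10, 19, 3] ∧ (O = O4 → v = 19) := by
    simp only [List.mem_cons, List.not_mem_nil, or_false, Prod.mk.injEq] at h
    rcases h with ⟨rfl, rfl, -, -⟩ | ⟨rfl, rfl, -, -⟩ | ⟨rfl, rfl, -, -⟩ | ⟨rfl, rfl, -, -⟩ <;>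
      simp [show O8 ≠ O4 by decide]
  obtain ⟨hlt, h1⟩ := chk_pres_lt O hmem.1
  obtain ⟨hv, hv0, ho, hon⟩ : v < 27 ∧ v ≠ 0 ∧ v ∉ O ∧ vneg v ∉ O := by
    obtain ⟨hO', hv', hv19⟩ := hmem
    simp only [List.mem_cons, List.not_mem_nil, or_false] at hO'
    rcases hO' with rfl | rfl
    · exact not_orb_ok.1 v (by simp [hv19 rfl])
    · exact not_orb_ok.2 v hv'
  have hDv : ∀ z ∈ [v], z < 27 ∧ cg el v ≤ cg el z := by simp [hv]
  obtain ⟨K, Pt⟩ := exists_part C hv hv0 (fun e => ho ((hO v hv).1 e))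
    (fun e => hon ((hO _ (vadd_lt _ _)).1 e)) (cg el v) (C.VJ_le_cg hv) le_rfl (chi c (0, 0, 0))
    (chi_add hadd) (inv_of_list C hO hlt h1 hs hi _ hDv)
  refine ⟨K, Pt, ?_, ?_, ?_, ?_, ?_, fun i _ u _ => app_lt _ u, ?_⟩
  · refine cent_of_gen C hgen fun z hz => ?_
    simp only [List.mem_cons, List.not_mem_nil, or_false] at hz
    rcases hz with rfl | rfl | rfl
    · exact ⟨by norm_num, le_cg_zero C _⟩
    · exact ⟨hv, le_rfl⟩
    · exact ⟨vadd_lt _ _, le_cg_vadd C hv hv le_rfl le_rfl⟩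
  · intro t ht ht1 ht0
    have hp := List.all_eq_true.1 pairs_ok (O, v, c) (by
      simp only [List.mem_cons, List.not_mem_nil, or_false, Prod.mk.injEq] at h ⊢
      tauto)
    simp only [List.all_eq_true, List.mem_range, Bool.or_eq_true, Bool.and_eq_true, beq_iff_eq,
      Bool.not_eq_true', decide_eq_false_iff_not, List.any_eq_true] at hp
    rcases hp t ht with (((e | e) | e) | e) | ⟨e, h', hh', he⟩
    · exact absurd e ht0
    · exact absurd (chi_eq_one.1 ht1).1 e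
    · exact pair_of_meets C hO hv ht e
    · exact (pair_of_stab C hO hlt h1 hv ht hv0 ho hon e).le.trans Subgroup.le_normalizer
    · obtain ⟨p, q, c', d', t'⟩ := h'
      subst e
      simp only at he
      subst he
      exact pair_of_hard C hO hh' hv0 ho hon
  · rw [← Nat.eq_of_beq_eq_true hcnt, ← List.toFinset_card_of_nodup (List.nodup_range.filter _)]
    congr 1
    ext u
    have hz : fn (0, 0, 0) u = 0 := by simp [fn]
    simp [chi_eq_one, hz]
  · intro g hg A hA hAa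
    exact exists_mem_list C hO hs hA (by
      simp only [List.mem_singleton, forall_eq]; exact fix_of_le C hv le_rfl hg hAa) hlt h1
  · intro i hil
    have hm : L.getD i (0, 0, 0) ∈ L := by rw [List.getD_eq_getElem _ _ hil]; exact List.getElem_mem hil
    simp only [valid, List.all_eq_true, Bool.and_eq_true, Bool.not_eq_true', Nat.blt_eq, beq_iff_eq] at hval
    obtain ⟨⟨⟨⟨⟨hfx, hpres⟩, hsing⟩, b1⟩, b2⟩, b3⟩ := hval _ hm
    obtain ⟨n, hn⟩ := Real.exists_act C (C.real_of_pres hmem.1 hO b1 b2 b3 hsing fun x hx =>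
      List.contains_iff_mem.1 (List.all_eq_true.1 hpres x hx))
    refine ⟨n, Subgroup.mem_centralizer_singleton_iff.2 ?_, hn⟩
    have e := hn v hv
    rw [hfx v (List.mem_singleton_self v)] at e
    exact mul_inv_eq_iff_eq_mul.1 e
  · intro i hil j hjl hij
    simp only [distinctB, List.all_eq_true, List.mem_range, Bool.or_eq_true, beq_iff_eq, Bool.not_eq_true',
      List.all_eq_false] at hdist
    rcases hdist i hil j hjl with e | ⟨u, hu, e⟩
    · exact e
    · exact absurd (hij u hu) (by simpa using e)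

theorem klein_inv {L : List (ℕ × ℕ × ℕ)} (hL : L ∈ [L4b, L8a, L8c]) :
    ∀ i < 4, ∀ u < 27, app (L.getD i (0, 0, 0)) (app (L.getD i (0, 0, 0)) u) = u := fun i hi u hu => by
  have h := List.all_eq_true.1 klein_ok L hL
  simp only [List.all_eq_true, List.mem_range, beq_iff_eq] at h
  exact h i hi u hu

/-- In the type of four, the centraliser of `el 63`. -/
theorem cent_19_le_O4 (hO : ∀ v < 27, C.Orb v ↔ v ∈ O4) : cg el 19 ≤ Subgroup.normalizer (C.VJ : Set G) := by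
  obtain ⟨K, Pt, P⟩ := plane_spec C (O := O4) (v := 19) (c := (1, 0, 2)) (L := L4b) (by simp) hO
  exact Pt.le_norm_of_klein P (klein_inv C (L := L4b) (by simp))

/-- In the type of four, the centraliser of `el 36`. -/
theorem cent_10_le_O4 (hO : ∀ v < 27, C.Orb v ↔ v ∈ O4) : cg el 10 ≤ Subgroup.normalizer (C.VJ : Set G) := by
  obtain ⟨hv, hv0, ho, hon⟩ := not_orb_ok.1 10 (by simp)
  obtain ⟨hs, hi, hadd, hpair, hline⟩ := line_ok
  obtain ⟨hlt, h1⟩ := chk_pres_lt O4 (by simp)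
  obtain ⟨K, Pt⟩ := exists_part C hv hv0 (fun e => ho ((hO 10 hv).1 e))
    (fun e => hon ((hO _ (vadd_lt _ _)).1 e)) (cg el 10) (C.VJ_le_cg hv) le_rfl (chi (0, 0, 1) (1, 0, 0))
    (chi_add hadd) (inv_of_list C hO hlt h1 hs hi _ (by simp [hv]))
  have h3 : chi (0, 0, 1) (1, 0, 0) 3 = 1 := chi_eq_one.2 (by decide +kernel)
  refine Pt.le_norm_of_line (by norm_num) (by norm_num) h3 (fun u hu e => hline u hu (chi_eq_one.1 e))
    fun g hg hgc => ?_
  exact (pair_of_stab C hO hlt h1 hv (by norm_num) hv0 ho hon hpair).le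
    ⟨hg, Subgroup.mem_centralizer_singleton_iff.2 (hgc 3 (by norm_num) h3).eq⟩

/-- In the type of eight, the centraliser of `el 36`. -/
theorem cent_10_le_O8 (hO : ∀ v < 27, C.Orb v ↔ v ∈ O8) : cg el 10 ≤ Subgroup.normalizer (C.VJ : Set G) := by
  obtain ⟨K, Pt, P⟩ := plane_spec C (O := O8) (v := 10) (c := (1, 0, 1)) (L := L8a) (by simp) hO
  exact Pt.le_norm_of_klein P (klein_inv C (L := L8a) (by simp))

/-- In the type of eight, the centraliser of `el 1`. -/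
theorem cent_3_le_O8 (hO : ∀ v < 27, C.Orb v ↔ v ∈ O8) : cg el 3 ≤ Subgroup.normalizer (C.VJ : Set G) := by
  obtain ⟨K, Pt, P⟩ := plane_spec C (O := O8) (v := 3) (c := (0, 1, 0)) (L := L8c) (by simp) hO
  exact Pt.le_norm_of_klein P (klein_inv C (L := L8c) (by simp))

/-- In the type of eight, the centraliser of `el 63` normalises the abelian subgroup or has a complement
isomorphic to the symmetric group of degree six. -/
theorem cent_63_O8 (hO : ∀ v < 27, C.Orb v ↔ v ∈ O8) : cg el 19 ≤ Subgroup.normalizer (C.VJ : Set G) ∨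
    ∃ K : Subgroup G, (∀ g ∈ K, Commute g (el 63)) ∧ (∀ g, Commute g (el 63) → ∃ i : ℕ, g * el 63 ^ i ∈ K) ∧
      Nonempty (K ≃* Equiv.Perm (Fin 6)) := by
  obtain ⟨K, Pt, P⟩ := plane_spec C (O := O8) (v := 19) (c := (1, 0, 2)) (L := L8b) (by simp) hO
  obtain ⟨d1, d2, d3, d4, d5, d6⟩ := dihedral_ok
  rcases Pt.le_norm_or_six P (i := 2) (j := 1) (by norm_num) (by norm_num) d1 d2 d3 d4 d5 d6 with h | h
  · exact Or.inl h
  · have h63 : vi 19 = 63 := by decide +kernel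
    refine Or.inr ⟨K, fun g hg => ?_, fun g hg => ?_, h⟩
    · have := Subgroup.mem_centralizer_singleton_iff.1 (Pt.le hg)
      rwa [h63] at this
    · obtain ⟨u, hu, hk⟩ := Pt.cover g (Subgroup.mem_centralizer_singleton_iff.2 (by rw [h63]; exact hg))
      have hdec : ∀ u < 27, ∃ a < 3, ∃ t < 27, fn (1, 0, 2) t = 0 ∧ u = vadd (vsm a 19) t := by decide +kernel
      obtain ⟨a, ha, t, ht, htf, rfl⟩ := hdec u hu
      refine ⟨a, ?_⟩
      have htK : el (vi t) ∈ K := (Pt.meet t ht).2 (chi_eq_one.2 ⟨htf, by simp [fn]⟩)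
      rw [C.el_vadd (Cfg.vsm_lt C (by norm_num)) ht, C.el_vsm ha (by norm_num), h63, ← mul_assoc] at hk
      simpa using mul_mem hk (inv_mem htK)

end Cfsg.Agent.S3342Id.LocalCent
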