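import Cfsg.Agent.Lib.Classical.Symplectic
import Cfsg.Agent.Lib.FischerPresented.Chain
import Cfsg.Agent.Lib.Compute.CosetPres
import Cfsg.Agent.Lib.Compute.CosetData.ChainS62

/-!
Seven involutions with the Coxeter relations of type `E₇` and the ninth power of a Coxeter element
equal to one generate an image of the symplectic group of six-dimensional vectors over two elements.

The 28-point table bounds the subgroup they generate in `G × Sp₆(2)` by `28 * 51840`, and seven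
transvections make the projection onto the second factor surjective.
-/

set_option autoImplicit false
set_option maxRecDepth 100000

namespace Cfsg.Agent.S3342Id

open Cfsg.Agent.CosetCert
open Cfsg.Agent.CosetData
open Cfsg.Agent.FischerPresented
open Matrix

/-- Bit position of a coordinate. -/
def spBit : Fin 3 ⊕ Fin 3 → ℕ
  | .inl i => i
  | .inr i => 3 + i

/-- The vector with a given code. -/
def sv (c : ℕ) : Fin 3 ⊕ Fin 3 → ZMod 2 := fun k => if c.testBit (spBit k) then 1 else 0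

/-- Codes of seven vectors whose form values give the diagram of type `E₇`. -/
def vs : List ℕ := [1, 8, 3, 16, 2, 5, 32]

/-- The code of a vector by number. -/
def vc (x : ℕ) : ℕ := vs.getD x 1

/-- The form on codes. -/
def bc (x y : ℕ) : Bool :=
  ((List.range 3).map fun i => (x.testBit i && y.testBit (3 + i)) ^^ (x.testBit (3 + i) && y.testBit i)).foldl xor false

/-- A transvection on codes. -/
def tc (i x : ℕ) : ℕ := if bc x (vc i) then x ^^^ vc i else x

/-- A word of transvections on codes. -/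
def wc (w : List ℕ) (x : ℕ) : ℕ := w.foldr tc x

/-- Words moving the first vector to each non-zero vector. -/
def reach : List (List ℕ) := [
  [],
  [3, 4, 2, 3, 1, 2, 0, 1],
  [1, 2, 0, 1],
  [6, 5, 1, 2, 0, 1, 5, 6, 3, 2, 1, 5, 4, 3, 2, 1],
  [1, 5, 0, 1],
  [3, 2, 1, 5, 4, 3, 2, 1],
  [1, 5, 2, 1],
  [0, 1],
  [1],
  [2, 1],
  [2, 0, 1],
  [5, 1],
  [5, 0, 1],
  [5, 2, 0, 1],
  [5, 2, 1],
  [2, 3, 1, 2, 0, 1],
  [4, 3, 1, 2, 0, 1],
  [4, 2, 3, 1, 2, 0, 1],
  [3, 1, 2, 0, 1],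
  [2, 1, 5, 3, 2, 1],
  [1, 5, 4, 3, 2, 1],
  [2, 1, 5, 4, 3, 2, 1],
  [1, 5, 3, 2, 1],
  [4, 3, 2, 1],
  [4, 3, 2, 0, 1],
  [3, 2, 1],
  [3, 2, 0, 1],
  [5, 4, 3, 2, 0, 1],
  [5, 4, 3, 2, 1],
  [5, 3, 2, 0, 1],
  [5, 3, 2, 1],
  [5, 6, 1, 5, 0, 1],
  [1, 2, 0, 1, 5, 6, 3, 2, 1, 5, 4, 3, 2, 1],
  [5, 6, 1, 5, 2, 1],
  [5, 6, 3, 2, 1, 5, 4, 3, 2, 1],
  [5, 1, 2, 0, 1, 5, 6, 3, 2, 1, 5, 4, 3, 2, 1],
  [6, 1, 5, 0, 1],
  [6, 3, 2, 1, 5, 4, 3, 2, 1],
  [6, 1, 5, 2, 1],
  [2, 1, 5, 6, 3, 2, 1, 5, 4, 3, 2, 1],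
  [2, 0, 1, 5, 6, 3, 2, 1, 5, 4, 3, 2, 1],
  [0, 1, 5, 6, 3, 2, 1, 5, 4, 3, 2, 1],
  [1, 5, 6, 3, 2, 1, 5, 4, 3, 2, 1],
  [6, 5, 1],
  [6, 5, 0, 1],
  [6, 5, 2, 0, 1],
  [6, 5, 2, 1],
  [5, 6, 1, 5, 4, 3, 2, 1],
  [5, 6, 2, 1, 5, 3, 2, 1],
  [5, 6, 1, 5, 3, 2, 1],
  [5, 6, 2, 1, 5, 4, 3, 2, 1],
  [6, 2, 1, 5, 3, 2, 1],
  [6, 1, 5, 4, 3, 2, 1],
  [6, 2, 1, 5, 4, 3, 2, 1],
  [6, 1, 5, 3, 2, 1],
  [0, 1, 5, 6, 2, 1, 5, 3, 2, 1],
  [1, 5, 6, 2, 1, 5, 3, 2, 1],
  [0, 1, 5, 6, 2, 1, 5, 4, 3, 2, 1],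
  [1, 5, 6, 2, 1, 5, 4, 3, 2, 1],
  [6, 5, 4, 3, 2, 0, 1],
  [6, 5, 4, 3, 2, 1],
  [6, 5, 3, 2, 0, 1],
  [6, 5, 3, 2, 1]]

theorem reach_ok : ((List.range 63).all fun c => Nat.beq (wc (reach.getD c []) (vc 0)) (c + 1) &&
    (reach.getD c []).all fun x => Nat.blt x 7) = true := by decide +kernel

theorem base_wc : (ChainS62.base.all fun w => (List.range 64).all fun x => Nat.beq (wc w x) x) = true := by
  decide +kernel

/-- The transvection of a vector. -/
def tv (v : Fin 3 ⊕ Fin 3 → ZMod 2) : symplecticGroup (Fin 3) (ZMod 2) :=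
  ⟨Cfsg.sympTransvection 3 v 1, ClassicalSp.sympTransvection_mem v 1⟩

/-- The seven transvections. -/
def tg (x : ℕ) : symplecticGroup (Fin 3) (ZMod 2) := tv (sv (vc x))

theorem tv_act (v x : Fin 3 ⊕ Fin 3 → ZMod 2) :
    (tv v).1 *ᵥ x = x + Cfsg.sympForm 3 (ZMod 2) x v • v := by
  rw [tv, ClassicalSp.sympTransvection_mulVec, one_mul]

theorem sv_single : ∀ j : Fin 3 ⊕ Fin 3, sv (2 ^ spBit j) = Pi.single j 1 := by decide +kernel

theorem sp_ext {A B : symplecticGroup (Fin 3) (ZMod 2)}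
    (h : ∀ x < 64, A.1 *ᵥ sv x = B.1 *ᵥ sv x) : A = B := by
  refine Subtype.ext (Matrix.ext_of_mulVec_single fun j => ?_)
  rw [← sv_single j]
  refine h _ ?_
  rcases j with j | j <;> fin_cases j <;> decide

theorem sv_tc : ∀ i : Fin 7, ∀ x : Fin 64,
    (tg i).1 *ᵥ sv x = sv (tc i x) ∧ tc i x < 64 := by decide +kernel

theorem sv_wc : ∀ (w : List ℕ), (∀ i ∈ w, i < 7) → ∀ x < 64,
    (wprod tg w).1 *ᵥ sv x = sv (wc w x) ∧ wc w x < 64
  | [], _, x, hx => ⟨by simp [wprod_nil, wc], hx⟩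
  | i :: w, hw, x, hx => by
    obtain ⟨h1, h2⟩ := sv_wc w (fun j hj => hw j (List.mem_cons_of_mem _ hj)) x hx
    obtain ⟨h3, h4⟩ := sv_tc ⟨i, hw i List.mem_cons_self⟩ ⟨_, h2⟩
    refine ⟨?_, h4⟩
    rw [wprod_cons, Submonoid.coe_mul, ← Matrix.mulVec_mulVec, h1]
    exact h3

theorem tv_sq (v : Fin 3 ⊕ Fin 3 → ZMod 2) : tv v * tv v = 1 := by
  refine sp_ext fun x _ => ?_
  rw [Submonoid.coe_mul, ← Matrix.mulVec_mulVec, tv_act v (sv x), tv_act, OneMemClass.coe_one, Matrix.one_mulVec]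
  have h0 : Cfsg.sympForm 3 (ZMod 2) v v = 0 := by
    rw [← ClassicalSp.spBilin_apply]; exact ClassicalSp.spBilin_isAlt v
  have h1 : Cfsg.sympForm 3 (ZMod 2) (sv x + Cfsg.sympForm 3 (ZMod 2) (sv x) v • v) v
      = Cfsg.sympForm 3 (ZMod 2) (sv x) v := by
    rw [ClassicalSp.sympForm_eq, add_dotProduct, smul_dotProduct, ← ClassicalSp.sympForm_eq,
      ← ClassicalSp.sympForm_eq, h0, smul_zero, add_zero]
  rw [h1, add_assoc, CharTwo.add_self_eq_zero, add_zero]

theorem tg_base : ∀ w ∈ ChainS62.base, wprod tg w = 1 := by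
  intro w hw
  have hlt : (ChainS62.base.all fun w => w.all fun i => Nat.blt i 7) = true := by decide +kernel
  simp only [List.all_eq_true, Nat.blt_eq] at hlt
  refine sp_ext fun x hx => ?_
  have h := base_wc
  simp only [List.all_eq_true, List.mem_range] at h
  rw [(sv_wc w (hlt w hw) x hx).1, Nat.eq_of_beq_eq_true (h w hw x hx), OneMemClass.coe_one,
    Matrix.one_mulVec]

theorem conj_tv (A : symplecticGroup (Fin 3) (ZMod 2)) (u : Fin 3 ⊕ Fin 3 → ZMod 2) :
    A * tv u = tv (A.1 *ᵥ u) * A := by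
  refine sp_ext fun x _ => ?_
  rw [Submonoid.coe_mul, Submonoid.coe_mul, ← Matrix.mulVec_mulVec, ← Matrix.mulVec_mulVec,
    tv_act, tv_act, (ClassicalSp.mem_iff_preserves _).1 A.2, Matrix.mulVec_add, Matrix.mulVec_smul]

theorem wprod_mem_closure {G : Type*} [Group G] (g : ℕ → G) {k : ℕ} : ∀ (w : List ℕ),
    (∀ i ∈ w, i < k) → wprod g w ∈ Subgroup.closure (g '' {x | x < k})
  | [], _ => by rw [wprod_nil]; exact one_mem _
  | i :: w, hw => by
    rw [wprod_cons]
    exact mul_mem (Subgroup.subset_closure ⟨i, hw i List.mem_cons_self, rfl⟩)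
      (wprod_mem_closure g w fun j hj => hw j (List.mem_cons_of_mem _ hj))

theorem sv_surj : ∀ v : Fin 3 ⊕ Fin 3 → ZMod 2, v ≠ 0 → ∃ c : Fin 63, sv (c + 1) = v := by
  decide +kernel

/-- The seven transvections generate. -/
theorem closure_tg : Subgroup.closure (tg '' {x | x < 7}) = ⊤ := by
  rw [eq_top_iff, ← ClassicalSp.closure_transvections (m := 3) (F := ZMod 2), Subgroup.closure_le]
  rintro A ⟨v, c, hA⟩
  have hc : c = 0 ∨ c = 1 := (by decide : ∀ d : ZMod 2, d = 0 ∨ d = 1) c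
  rcases hc with rfl | rfl
  · rw [show A = 1 from Subtype.ext (by rw [hA, Cfsg.sympTransvection, zero_smul, add_zero]; rfl)]
    exact one_mem _
  rw [show A = tv v from Subtype.ext hA]
  by_cases hv : v = 0
  · rw [show tv v = 1 from sp_ext fun x _ => by
      rw [tv_act, hv, smul_zero, add_zero, OneMemClass.coe_one, Matrix.one_mulVec]]
    exact one_mem _
  obtain ⟨c, rfl⟩ := sv_surj v hv
  have h := reach_ok
  simp only [List.all_eq_true, Bool.and_eq_true, List.mem_range, Nat.blt_eq] at h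
  obtain ⟨h1, h2⟩ := h c c.2
  have h3 := (sv_wc _ h2 (vc 0) (by decide)).1
  rw [Nat.eq_of_beq_eq_true h1] at h3
  have h4 := conj_tv (wprod tg (reach.getD c [])) (sv (vc 0))
  rw [h3, ← mul_inv_eq_iff_eq_mul] at h4
  rw [← h4]
  exact mul_mem (mul_mem (wprod_mem_closure tg _ h2) (Subgroup.subset_closure ⟨0, by simp, rfl⟩))
    (inv_mem (wprod_mem_closure tg _ h2))

theorem wprod_prod {G H : Type*} [Group G] [Group H] (g : ℕ → G) (h : ℕ → H) : ∀ w : List ℕ,
    wprod (fun x => (g x, h x)) w = (wprod g w, wprod h w)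
  | [] => rfl
  | i :: w => by rw [wprod_cons, wprod_cons, wprod_cons, wprod_prod g h w, Prod.mk_mul_mk]

theorem card_sp62 : Nat.card (symplecticGroup (Fin 3) (ZMod 2)) = 1451520 := by
  rw [ClassicalSp.card_sp, Nat.card_eq_fintype_card, ZMod.card]
  decide

theorem chain62_ok : (e6OK ChainS62.base [6, 5, 1, 2, 3, 0] [6, 5, 1, 2, 0] [6, 5, 1, 2] &&
    relsIn ChainS62.base [0, 1, 2, 3, 4, 5, 6] ChainS62.base &&
    swIn ChainS62.sw [0, 1, 2, 3, 4, 5, 6] [6, 5, 1, 2, 3, 0] &&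
    Nat.beq ChainS62.P.k [0, 1, 2, 3, 4, 5, 6].length) = true := by
  decide +kernel

theorem cardLe_s62 {G : Type*} [Group G] {g : ℕ → G} (hinv : ∀ x, g x * g x = 1)
    (hb : ∀ w ∈ ChainS62.base, wprod g w = 1) :
    CardLe (Subgroup.closure (g '' {x | x < 7})) 1451520 := by
  have h := chain62_ok
  simp only [Bool.and_eq_true] at h
  obtain ⟨⟨⟨h6, r7⟩, s7⟩, k7⟩ := h
  have c7 := cardLe_step hinv hb r7 ChainS62.rots_ok s7 (by decide +kernel) ChainS62.cert_ok
    ChainS62.tab_ok (cardLe_e6 hinv hb h6) k7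
  exact c7.mono (closure_le_pick (by decide +kernel))

/-- Seven such involutions are the images of the seven transvections. -/
theorem exists_hom_sp62 {G : Type*} [Group G] (g : ℕ → G) (hinv : ∀ x, g x * g x = 1)
    (hb : ∀ w ∈ ChainS62.base, wprod g w = 1) :
    ∃ f : symplecticGroup (Fin 3) (ZMod 2) →* G, ∀ x < 7, f (tg x) = g x := by
  let p : ℕ → G × symplecticGroup (Fin 3) (ZMod 2) := fun x => (g x, tg x)
  set K := Subgroup.closure (p '' {x | x < 7}) with hK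
  obtain ⟨hfin, hcard⟩ := cardLe_s62 (g := p) (fun x => Prod.ext (hinv x) (tv_sq _))
    (fun w hw => by rw [wprod_prod, hb w hw, tg_base w hw]; rfl)
  set π : K →* symplecticGroup (Fin 3) (ZMod 2) := (MonoidHom.snd G _).comp K.subtype with hπ
  have hsurj : Function.Surjective π := by
    rw [← MonoidHom.range_eq_top, eq_top_iff, ← closure_tg, Subgroup.closure_le]
    rintro _ ⟨x, hx, rfl⟩
    exact ⟨⟨p x, Subgroup.subset_closure ⟨x, hx, rfl⟩⟩, rfl⟩
  have hbij : Function.Bijective π := by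
    rw [Nat.bijective_iff_surjective_and_card]
    exact ⟨hsurj, le_antisymm (hcard.trans_eq card_sp62.symm) (Nat.card_le_card_of_surjective π hsurj)⟩
  let e := MulEquiv.ofBijective π hbij
  refine ⟨((MonoidHom.fst G _).comp K.subtype).comp e.symm.toMonoidHom, fun x hx => ?_⟩
  have he : e ⟨p x, Subgroup.subset_closure ⟨x, hx, rfl⟩⟩ = tg x := rfl
  show ((e.symm (tg x) : K) : G × symplecticGroup (Fin 3) (ZMod 2)).1 = g x
  rw [← he, MulEquiv.symm_apply_apply]

/-- The symplectic group is simple. -/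
theorem isSimpleGroup_sp62 : IsSimpleGroup (symplecticGroup (Fin 3) (ZMod 2)) := by
  have hs := ClassicalSp.isSimpleGroup_psp (m := 3) (F := ZMod 2) (by norm_num) (by norm_num)
  have hz : Subgroup.center (symplecticGroup (Fin 3) (ZMod 2)) = ⊥ := by
    rw [← Subgroup.card_eq_one, ClassicalSp.card_center_sp (by norm_num), Nat.card_eq_fintype_card,
      ZMod.card]
    rfl
  exact ((QuotientGroup.quotientMulEquivOfEq hz).trans QuotientGroup.quotientBot).symm.isSimpleGroup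

/-- The symplectic groups over two elements are the same. -/
noncomputable def sp62Congr {F : Type*} [Field F] [Fintype F] (f : ZMod 2 ≃+* F) :
    symplecticGroup (Fin 3) (ZMod 2) ≃* symplecticGroup (Fin 3) F :=
  have hJ : (J (Fin 3) (ZMod 2)).map f = J (Fin 3) F := by
    ext i j
    rcases i with i | i <;> rcases j with j | j <;>
      simp [Matrix.J, Matrix.one_apply, apply_ite (f : ZMod 2 → F)] <;> split_ifs <;>
        simp [show (-1 : F) = 1 by rw [← map_one f, ← map_neg f]; rfl]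
  { toFun := fun A => ⟨A.1.map f, by
      rw [SymplecticGroup.mem_iff, ← hJ, ← Matrix.transpose_map, ← Matrix.map_mul, ← Matrix.map_mul,
        SymplecticGroup.mem_iff.1 A.2]⟩
    invFun := fun A => ⟨A.1.map f.symm, by
      rw [SymplecticGroup.mem_iff]
      apply Matrix.map_injective (f := f) f.injective
      dsimp only
      rw [Matrix.map_mul, Matrix.map_mul, hJ, ← Matrix.transpose_map]
      have hc : (A.1.map f.symm).map f = A.1 := by ext; simp
      have hd : (A.1ᵀ.map f.symm).map f = A.1ᵀ := by ext; simp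
      simp only [hc, hd]
      exact SymplecticGroup.mem_iff.1 A.2⟩
    left_inv := fun A => Subtype.ext (by ext; simp)
    right_inv := fun A => Subtype.ext (by ext; simp)
    map_mul' := fun A B => Subtype.ext (Matrix.map_mul) }

/-- Seven such involutions, not all trivial, generating `G` identify it. -/
theorem nonempty_iso_sp62 {G : Type*} [Group G] (g : ℕ → G) (hinv : ∀ x, g x * g x = 1)
    (hb : ∀ w ∈ ChainS62.base, wprod g w = 1) (hne : g 0 ≠ 1)
    (hgen : Subgroup.closure (g '' {x | x < 7}) = ⊤) {F : Type*} [Field F] [Fintype F]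
    (hF : Fintype.card F = 2) : Nonempty (G ≃* symplecticGroup (Fin 3) F) := by
  obtain ⟨φ, hφ⟩ := exists_hom_sp62 g hinv hb
  obtain ⟨f⟩ : Nonempty (ZMod 2 ≃+* F) := ⟨FiniteField.ringEquivOfCardEq ((ZMod.card 2).trans hF.symm)⟩
  have := isSimpleGroup_sp62
  have hinj : Function.Injective φ := by
    rw [← MonoidHom.ker_eq_bot_iff]
    refine (IsSimpleGroup.eq_bot_or_eq_top_of_normal φ.ker inferInstance).resolve_right fun h => hne ?_
    rw [← hφ 0 (by norm_num), ← MonoidHom.mem_ker, h]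
    trivial
  have hsurj : Function.Surjective φ := by
    rw [← MonoidHom.range_eq_top, eq_top_iff, ← hgen, Subgroup.closure_le]
    rintro _ ⟨x, hx, rfl⟩
    exact ⟨tg x, hφ x hx⟩
  exact ⟨(MulEquiv.ofBijective φ ⟨hinj, hsurj⟩).symm.trans (sp62Congr f)⟩

end Cfsg.Agent.S3342Id
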