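import Cfsg.Agent.Lib.AutPSp.Outer

/-!
A group with a self-centralising copy of `PSp₄(3)` of index two is its automorphism group.
-/

set_option autoImplicit false

namespace Cfsg.Agent.S3342Id

theorem card_mulAut_psp3 {F : Type*} [Field F] [Fintype F] (hF : Fintype.card F = 3) :
    Nat.card (MulAut (Cfsg.PSp 2 F)) = 2 * Nat.card (Cfsg.PSp 2 F) := by
  haveI : Fact (Nat.Prime 3) := ⟨Nat.prime_three⟩
  have h2 : (2 : F) ≠ 0 := by
    intro h
    have h1 : ((3 : ℕ) : F) = 0 := by rw [← hF]; exact FiniteField.cast_card_eq_zero F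
    have : (1 : F) = 0 := by
      rw [show (1 : F) = ((3 : ℕ) : F) - 2 by push_cast; ring, h1, h, sub_zero]
    exact one_ne_zero this
  have htop : (AutPSp.semiSub : Subgroup (MulAut (Cfsg.PSp 2 F))) = ⊤ :=
    eq_top_iff.2 fun β _ => AutPSp.exists_semi' le_rfl (Or.inl h2) β
  have h := AutPSp.card_semiSub (F := F) (m := 2) le_rfl 3 1 (by rw [hF]; rfl)
  rw [htop, Subgroup.card_top] at h
  rw [h]
  rfl

/-- A self-centralising subgroup of index two isomorphic to `PSp₄(3)` identifies the group. -/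
theorem nonempty_iso_mulAut {G : Type*} [Group G] [Finite G] {F : Type*} [Field F] [Fintype F]
    (hF : Fintype.card F = 3) (f : Cfsg.PSp 2 F →* G) (hf : Function.Injective f)
    (hidx : f.range.index = 2) (hcent : Subgroup.centralizer (f.range : Set G) = ⊥) :
    Nonempty (G ≃* MulAut (Cfsg.PSp 2 F)) := by
  haveI : f.range.Normal := Subgroup.normal_of_index_eq_two hidx
  let e : Cfsg.PSp 2 F ≃* f.range := MonoidHom.ofInjective hf
  let ψ : G →* MulAut (Cfsg.PSp 2 F) :=
    (MulAut.congr e.symm).toMonoidHom.comp (MulAut.conjNormal (H := f.range))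
  have hinj : Function.Injective ψ := by
    refine (MulAut.congr e.symm).injective.comp ((injective_iff_map_eq_one _).2 fun g hg => ?_)
    rw [← Subgroup.mem_bot, ← hcent, Subgroup.mem_centralizer_iff]
    intro x hx
    have h1 : MulAut.conjNormal (H := f.range) g ⟨x, hx⟩ = ⟨x, hx⟩ := by rw [hg]; rfl
    have h2 := congrArg Subtype.val h1
    rw [MulAut.conjNormal_apply] at h2
    exact (mul_inv_eq_iff_eq_mul.1 h2).symm
  refine ⟨MulEquiv.ofBijective ψ ((Nat.bijective_iff_injective_and_card ψ).2 ⟨hinj, ?_⟩)⟩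
  rw [card_mulAut_psp3 hF, ← Subgroup.card_mul_index f.range, hidx, mul_comm,
    ← Nat.card_congr e.toEquiv]

end Cfsg.Agent.S3342Id
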