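import Cfsg.Agent.Lib.S3342Id.Config
import Cfsg.Agent.Lib.S3342Id.Aut
import Cfsg.Agent.S0245
import Cfsg.Agent.S0270

/-!
S3342, conclusions from the embedding: `G ≅ PSp₄(3)` or `G ≅ Aut PSp₄(3)` from the order of the
appropriate subgroup.
-/

set_option autoImplicit false
set_option maxRecDepth 20000
set_option synthInstance.maxSize 10000

namespace Cfsg.Agent.S3342Id

open Cfsg.Agent.Hayden

theorem card_psp_three {K : Type*} [Field K] [Fintype K] (hK : Fintype.card K = 3) :
    Nat.card (Cfsg.PSp 2 K) = 25920 := by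
  have h := Subgroup.card_eq_card_quotient_mul_card_subgroup
    (Subgroup.center (Matrix.symplecticGroup (Fin 2) K))
  rw [S0245.result hK 2, ClassicalSp.card_center_sp (by norm_num), Nat.card_eq_fintype_card (α := K), hK] at h
  norm_num [Finset.prod_range_succ] at h
  unfold Cfsg.PSp; omega

variable {G : Type*} [Group G] [Finite G] {el : ℕ → G}

omit [Finite G] in
/-- The image has trivial centraliser. -/
theorem centralizer_eq_bot {s : G} (C : Cfg el) (S : C.Sw s) {H : Subgroup G}
    (hall : ∀ i < 648, el i ∈ H) (hs : s ∈ H) : Subgroup.centralizer (H : Set G) = ⊥ := by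
  rw [eq_bot_iff]
  intro g hg
  rw [Subgroup.mem_centralizer_iff] at hg
  obtain ⟨i, hi, rfl⟩ := (C.mem g).1 (hg _ (hall 9 (by norm_num))).symm
  have hc : ∀ j < 648, T i j = T j i := fun j hj => (C.comm_iff hi hj).1 (hg _ (hall j hj)).symm
  rcases chk_central_trivial i hi (hc 9 (by norm_num)) (hc 1 (by norm_num)) (fun k hk => hc _ (by omega))
    with rfl | rfl | rfl
  · rw [C.el_zero]; exact one_mem _
  · exfalso
    have h := S.act 1 (by norm_num)
    rw [show vi 1 = 9 by decide +kernel, show vi (app swMap 1) = 54 by decide +kernel, hg s hs,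
      mul_inv_cancel_right] at h
    exact absurd (C.inj _ (by norm_num) _ (by norm_num) h) (by norm_num)
  · exfalso
    have h := S.act 2 (by norm_num)
    rw [show vi 2 = 18 by decide +kernel, show vi (app swMap 2) = 27 by decide +kernel, hg s hs,
      mul_inv_cancel_right] at h
    exact absurd (C.inj _ (by norm_num) _ (by norm_num) h) (by norm_num)

/-- The automorphism branch: a subgroup of index two of the order of `PSp₄(3)`. -/
theorem nonempty_aut {s : G} (C : Cfg el) (S : C.Sw s)
    (hcomm : ∀ k < 24, ∀ l < 24, Commute (el (27 * k)) (s * el (27 * l) * s⁻¹))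
    {F : Type*} [Field F] [Fintype F] (hF : Fintype.card F = 3)
    {H : Subgroup G} (hidx : H.index = 2) (hcard : Nat.card H = 25920) :
    Nonempty (G ≃* MulAut (Cfsg.PSp 2 F)) := by
  obtain ⟨f, hf, hall, hs⟩ := exists_psp C S hcomm hF
  have hle : f.range ≤ H := by
    haveI : H.Normal := Subgroup.normal_of_index_eq_two hidx
    haveI : IsSimpleGroup (Cfsg.PSp 2 F) := Cfsg.Agent.S0270.result 2 le_rfl fun _ => hF.ge
    rcases IsSimpleGroup.eq_bot_or_eq_top_of_normal (H.comap f) inferInstance with h | h
    · exfalso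
      have h1 : Nat.card (Cfsg.PSp 2 F) ∣ 2 := by
        rw [← Subgroup.index_bot, ← h, Subgroup.index_comap]
        exact (Subgroup.relIndex_dvd_index_of_normal H f.range).trans hidx.dvd
      rw [card_psp_three hF] at h1
      norm_num at h1
    · rintro _ ⟨q, rfl⟩
      have hq : q ∈ H.comap f := by rw [h]; trivial
      exact hq
  have heq : f.range = H := Subgroup.eq_of_le_of_card_ge hle (by
    rw [hcard, ← Nat.card_congr (MonoidHom.ofInjective hf).toEquiv, card_psp_three hF])
  exact nonempty_iso_mulAut hF f hf (heq ▸ hidx) (centralizer_eq_bot C S hall hs)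

/-- The simple branch: a group of the order of `PSp₄(3)`. -/
theorem nonempty_psp {s : G} (C : Cfg el) (S : C.Sw s)
    (hcomm : ∀ k < 24, ∀ l < 24, Commute (el (27 * k)) (s * el (27 * l) * s⁻¹))
    {F : Type*} [Field F] [Fintype F] (hF : Fintype.card F = 3) (hcard : Nat.card G = 25920) :
    Nonempty (G ≃* Cfsg.PSp 2 F) := by
  obtain ⟨f, hf, -, -⟩ := exists_psp C S hcomm hF
  exact ⟨(MulEquiv.ofBijective f ((Nat.bijective_iff_injective_and_card f).2
    ⟨hf, by rw [card_psp_three hF, hcard]⟩)).symm⟩

end Cfsg.Agent.S3342Id
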