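import Cfsg.Agent.Lib.FischerUnique.SubE7

/-!
In any group, seven involutions with the Coxeter relations of type `E₇` have the ninth power of a Coxeter
element commuting with all of them.
-/

set_option autoImplicit false
set_option maxRecDepth 100000

namespace Cfsg.Agent.S3342Id

open Cfsg.Agent.CosetCert
open Cfsg.Agent.CosetData
open Cfsg.Agent.FischerPresented
open Cfsg.Agent.FischerUnique

/-- The Coxeter element, in the order used for the quotient. -/
def cox7 : List ℕ := rep 9 [6, 3, 2, 1, 0, 4, 5]

theorem cox7_words : ((List.range 7).all fun i =>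
    wordFixPts ChainE7.P 56 SubE7.pts (cox7 ++ [i] ++ cox7.reverse ++ [i])) = true := by decide +kernel

theorem card_setup : Nat.card SubE7.setup.G = 2903040 :=
  (order_of_chain (P := ChainE7.P) ChainE7.tab_ok SubE7.setup.hom SubE7.setup.hom_gen SubE7.cardLe
    ChainE7.levels_ok ChainE7.levels_size).2.1

theorem wprod_fst {G H : Type*} [Group G] [Group H] (g : ℕ → G) (h : ℕ → H) : ∀ w : List ℕ,
    wprod (fun x => (g x, h x)) w = (wprod g w, wprod h w)
  | [] => rfl
  | i :: w => by rw [wprod_cons, wprod_cons, wprod_cons, wprod_fst g h w, Prod.mk_mul_mk]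

theorem central_e7 {G : Type*} [Group G] (g : ℕ → G) (hinv : ∀ x, g x * g x = 1)
    (hb : ∀ w ∈ ChainE7.base, wprod g w = 1) : ∀ i < 7, Commute (wprod g cox7) (g i) := by
  let S := SubE7.setup
  let p : ℕ → G × S.G := fun x => (g x, S.gen x)
  set K := Subgroup.closure (p '' {x | x < 7}) with hK
  have hpinv : ∀ x, p x * p x = 1 := fun x => Prod.ext (hinv x) (S.gen_invol x)
  have hpb : ∀ w ∈ ChainE7.base, wprod p w = 1 := fun w hw => by
    rw [wprod_fst, hb w hw, S.base_one w hw]; rfl
  have hcardle : CardLe K 2903040 := by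
    have h1 := cardLe_e6 hpinv hpb (e6 := [1, 2, 3, 4, 5, 6]) (d5 := [1, 2, 3, 4, 6])
      (a4 := [1, 2, 3, 4]) (by decide +kernel)
    have h2 := cardLe_step (emb := [0, 1, 2, 3, 4, 5, 6]) (base := ChainE7.base) (sw := ChainE7.sw)
      hpinv hpb (by decide +kernel) ChainE7.rots_ok (by decide +kernel) (by decide +kernel)
      ChainE7.cert_ok ChainE7.tab_ok h1 (by decide +kernel)
    exact h2.mono (closure_le_pick (by decide +kernel))
  obtain ⟨hfin, hle⟩ := hcardle
  set π : K →* S.G := (MonoidHom.snd G _).comp K.subtype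
  have hsurj : Function.Surjective π := by
    rw [← MonoidHom.range_eq_top, eq_top_iff, ← S.closure_gen, Subgroup.closure_le]
    rintro _ ⟨x, hx, rfl⟩
    exact ⟨⟨p x, Subgroup.subset_closure ⟨x, hx, rfl⟩⟩, rfl⟩
  haveI : Finite S.G := Finite.of_surjective π hsurj
  have hinj : Function.Injective π := ((Nat.bijective_iff_surjective_and_card π).2
    ⟨hsurj, le_antisymm (hle.trans_eq card_setup.symm) (Nat.card_le_card_of_surjective π hsurj)⟩).1
  have hmem : ∀ w : List ℕ, (∀ i ∈ w, i < 7) → wprod p w ∈ K := by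
    intro w
    induction w with
    | nil => intro _; rw [wprod_nil]; exact one_mem _
    | cons i w ih =>
      intro hw
      rw [wprod_cons]
      exact mul_mem (Subgroup.subset_closure ⟨i, hw i List.mem_cons_self, rfl⟩)
        (ih fun j hj => hw j (List.mem_cons_of_mem _ hj))
  intro i hi
  have h := List.all_eq_true.1 cox7_words i (List.mem_range.2 hi)
  have h1 : wprod S.gen (cox7 ++ [i] ++ cox7.reverse ++ [i]) = 1 := SubE7.word_one h
  have hlt : ∀ j ∈ cox7 ++ [i] ++ cox7.reverse ++ [i], j < 7 := by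
    have hc : ∀ j ∈ cox7, j < 7 := by decide +kernel
    intro j hj
    simp only [List.mem_append, List.mem_singleton, List.mem_reverse] at hj
    rcases hj with ((h | h) | h) | h
    exacts [hc j h, h ▸ hi, hc j h, h ▸ hi]
  have h2 : (⟨_, hmem _ hlt⟩ : K) = 1 := hinj (by
    rw [map_one]
    show (wprod p _).2 = 1
    rw [wprod_fst]; exact h1)
  have h3 := congrArg (fun z : K => (z : G × S.G).1) h2
  change (wprod (fun x => (g x, S.gen x)) _).1 = 1 at h3
  rw [wprod_fst] at h3
  rw [wprod_append, wprod_append, wprod_append, wprod_cons, wprod_nil, mul_one,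
    wprod_reverse hinv] at h3
  show wprod g cox7 * g i = g i * wprod g cox7
  have h4 : wprod g cox7 * g i * (wprod g cox7)⁻¹ = g i := by
    rw [eq_inv_of_mul_eq_one_left h3, inv_eq_of_mul_eq_one_right (hinv i)]
  exact mul_inv_eq_iff_eq_mul.1 h4

end Cfsg.Agent.S3342Id
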