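import Cfsg.Agent.Lib.Hayden.Swap
import Mathlib.GroupTheory.Perm.Centralizer
import Mathlib.GroupTheory.Perm.Cycle.Type
import Mathlib.GroupTheory.QuotientGroup.Finite

/-!
S3342: the centraliser of the central involution in the complement of degree six, modulo the normal subgroup
of order eight.
-/

set_option autoImplicit false
set_option maxRecDepth 20000
set_option synthInstance.maxSize 10000
set_option linter.style.haveILetI false

namespace Cfsg.Agent.S3342Id.Seven

open Cfsg.Agent.Hayden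

theorem chk_local : T 63 63 = 45 ∧ T 45 63 = 0 ∧ T 81 63 = T 63 81 ∧ T 81 81 = 0 ∧ T 9 63 = 72 ∧
    T 63 9 = 72 ∧ T (T 9 63) 63 = 27 ∧ T 9 81 = T 81 9 ∧ T 72 72 = 36 ∧ T 36 72 = 0 ∧ T 9 54 = 63 ∧
    T 18 27 = 45 ∧ T 54 63 = 36 ∧ T 54 9 = 63 ∧ vi 1 = 9 ∧ vi 2 = 18 ∧ vi (app swMap 2) = 27 ∧
    vi (app swMap 1) = 54 ∧ vi 9 = 27 ∧ vi (app swMap 9) = 18 ∧ vi 19 = 63 ∧
    vi (app swMap 19) = 63 := by decide +kernel

/-- The centre of the symmetric group of degree six is trivial. -/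
theorem perm_center {σ : Equiv.Perm (Fin 6)} (h : ∀ τ, Commute σ τ) : σ = 1 := by
  refine Equiv.ext fun a => ?_
  by_contra hne
  obtain ⟨c, hca, hcs⟩ := (by decide : ∀ a b : Fin 6, ∃ c, c ≠ a ∧ c ≠ b) a (σ a)
  have e := congrArg (fun τ : Equiv.Perm (Fin 6) => τ a) (h (Equiv.swap (σ a) c)).eq
  simp only [Equiv.Perm.mul_apply, Equiv.swap_apply_left] at e
  have hne' : a ≠ σ a := Ne.symm hne
  rw [Equiv.swap_apply_of_ne_of_ne hne' hca.symm] at e
  exact hcs e.symm

/-- Centralisers of involutions in the symmetric group of degree six are small. -/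
theorem card_cent_perm {σ : Equiv.Perm (Fin 6)} (h : σ * σ = 1) (h1 : σ ≠ 1) :
    Nat.card (Subgroup.centralizer ({σ} : Set (Equiv.Perm (Fin 6)))) ≤ 48 := by
  haveI : Fact (Nat.Prime 2) := ⟨Nat.prime_two⟩
  have ho : orderOf σ = 2 := orderOf_eq_prime (by rw [pow_two, h]) h1
  obtain ⟨m, hm⟩ := Equiv.Perm.cycleType_prime_order (σ := σ) (by rw [ho]; exact Nat.prime_two)
  rw [ho] at hm
  have hs := σ.sum_cycleType_le
  rw [hm, Multiset.sum_replicate, smul_eq_mul, Fintype.card_fin] at hs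
  rw [Equiv.Perm.nat_card_centralizer, hm, Multiset.sum_replicate, Multiset.prod_replicate, smul_eq_mul,
    Fintype.card_fin]
  have : m < 3 := by omega
  interval_cases m <;> decide

variable {G : Type*} [Group G] {el : ℕ → G}

/-- The local structure at the element of order three. -/
structure Loc (el : ℕ → G) (s : G) (K E : Subgroup G) : Prop where
  comm : ∀ g ∈ K, Commute g (el 63)
  cov : ∀ g, Commute g (el 63) → ∃ i : ℕ, g * el 63 ^ i ∈ K
  ecomm : ∀ e ∈ E, Commute e (el 63) ∧ Commute e (el 81)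
  ecard : Nat.card E = 8
  enorm : ∀ g, Commute g (el 63) → Commute g (el 81) → ∀ e ∈ E, g * e * g⁻¹ ∈ E
  eq4 : ∀ k < 24, T (27 * k) (27 * k) = 81 → ∀ e ∈ E,
    Commute e (el (27 * k)) ∧ Commute e (s * el (27 * k) * s⁻¹)

variable {s : G} {K E : Subgroup G}

theorem j_cube (C : Cfg el) : el 63 ^ 3 = 1 := by
  rw [pow_three', C.mul 63 (by norm_num) 63 (by norm_num), chk_local.1, C.mul 45 (by norm_num) 63 (by norm_num),
    chk_local.2.1, C.el_zero]

theorem j_notMem (C : Cfg el) (L : Loc el s K E) (ψ : K ≃* Equiv.Perm (Fin 6)) : el 63 ∉ K := fun hj => by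
  have h1 : ψ ⟨el 63, hj⟩ = 1 := perm_center fun τ => by
    obtain ⟨g, rfl⟩ := ψ.surjective τ
    exact Commute.map (show Commute (⟨el 63, hj⟩ : K) g from Subtype.ext (L.comm g g.2).eq.symm) ψ
  have h2 : el 63 = el 0 := by
    rw [C.el_zero]
    exact congrArg Subtype.val (ψ.injective (h1.trans (map_one ψ).symm))
  exact absurd (C.inj _ (by norm_num) _ (by norm_num) h2) (by norm_num)

/-- Elements of order dividing eight commuting with the element of order three lie in the complement. -/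
theorem memK (C : Cfg el) (L : Loc el s K E) (ψ : K ≃* Equiv.Perm (Fin 6)) {g : G}
    (hg : Commute g (el 63)) (h8 : g ^ 8 = 1) : g ∈ K := by
  obtain ⟨i, hi⟩ := L.cov g hg
  have h := pow_mem hi 8
  rw [(hg.pow_right i).mul_pow, h8, one_mul, ← pow_mul, pow_eq_pow_mod _ (j_cube C)] at h
  rw [pow_eq_pow_mod i (j_cube C)] at hi
  have : i % 3 < 3 := Nat.mod_lt _ (by norm_num)
  interval_cases hr : i % 3
  · simpa using hi
  · rw [show i * 8 % 3 = 2 by omega] at h
    refine absurd ?_ (j_notMem C L ψ)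
    have := pow_mem h 2
    rwa [← pow_mul, pow_eq_pow_mod _ (j_cube C), show 2 * 2 % 3 = 1 from rfl, pow_one] at this
  · rw [show i * 8 % 3 = 1 by omega, pow_one] at h
    exact absurd h (j_notMem C L ψ)

theorem memK_sq (C : Cfg el) (L : Loc el s K E) (ψ : K ≃* Equiv.Perm (Fin 6)) {g : G}
    (hg : Commute g (el 63)) (h2 : g * g = 1) : g ∈ K :=
  memK C L ψ hg (by rw [show (8 : ℕ) = 2 * 4 from rfl, pow_mul, pow_two, h2, one_pow])

/-- In a quotient of order at most six with a non-commuting inversion. -/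
theorem eq_one_of_quot {Q : Type*} [Group Q] [Finite Q] (hQ : Nat.card Q ≤ 6) {τ σ ξ : Q}
    (t3 : τ ^ 3 = 1) (t1 : τ ≠ 1) (s2 : σ * σ = 1) (hs : σ * τ * σ⁻¹ = τ⁻¹) (x2 : ξ * ξ = 1)
    (hx : Commute ξ (τ * ξ * τ⁻¹)) : ξ = 1 := by
  haveI : Fact (Nat.Prime 3) := ⟨Nat.prime_three⟩
  have ho : orderOf τ = 3 := orderOf_eq_prime t3 t1
  have h4 : τ * τ ≠ 1 := fun h => t1 (by rwa [pow_three', h, one_mul] at t3)
  have hne : ∀ k : ℕ, σ ≠ τ ^ k := fun k e => h4 (by
    rw [e, ((Commute.refl τ).pow_left k).eq, mul_inv_cancel_right] at hs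
    rw [← mul_inv_cancel τ, ← hs])
  have hsemi : ∀ k : ℕ, σ * τ ^ k = τ⁻¹ ^ k * σ := fun k =>
    (SemiconjBy.pow_right (show SemiconjBy σ τ τ⁻¹ from mul_inv_eq_iff_eq_mul.1 hs) k)
  let φ : Fin 3 × Fin 2 → Q := fun p => τ ^ (p.1 : ℕ) * σ ^ (p.2 : ℕ)
  have hinj : Function.Injective φ := by
    rintro ⟨a, b⟩ ⟨a', b'⟩ h
    by_cases hb : b = b'
    · subst hb
      have := mul_right_cancel (show τ ^ (a : ℕ) * σ ^ (b : ℕ) = τ ^ (a' : ℕ) * σ ^ (b : ℕ) from h)
      rw [pow_inj_mod, ho, Nat.mod_eq_of_lt a.2, Nat.mod_eq_of_lt a'.2] at this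
      rw [Fin.ext this]
    · exfalso
      have key : ∀ u v : ℕ, τ ^ u = τ ^ v * σ → False := fun u v e => by
        refine hne (2 * v + u) ?_
        rw [pow_add, e, ← mul_assoc, ← pow_add, show 2 * v + v = 3 * v by ring, pow_mul, t3, one_pow, one_mul]
      fin_cases b <;> fin_cases b' <;> simp [φ] at h hb
      · exact key _ _ h
      · exact key _ _ h.symm
  have hbij : Function.Bijective φ := (Nat.bijective_iff_injective_and_card φ).2 ⟨hinj,
    le_antisymm (Nat.card_le_card_of_injective φ hinj) (by simpa using hQ)⟩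
  obtain ⟨⟨a, b⟩, rfl⟩ := hbij.2 ξ
  fin_cases b
  · have e : τ ^ (2 * (a : ℕ)) = τ ^ 0 := by
      simp only [φ, Fin.zero_eta, Fin.val_zero, pow_zero, mul_one] at x2
      rw [two_mul, pow_add, x2, pow_zero]
    rw [pow_inj_mod, ho] at e
    have := a.2
    simp [φ, show (a : ℕ) = 0 by omega]
  · exfalso
    simp only [φ, Fin.mk_one, Fin.val_one, pow_one] at hx
    set ρ := τ ^ (a : ℕ) with hρ
    have hρt : Commute τ ρ := (Commute.refl τ).pow_right _
    have hσρ : σ * ρ = ρ⁻¹ * σ := by rw [hρ, hsemi, inv_pow]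
    have hσt : σ * τ⁻¹ = τ * σ := by
      rw [← hs, inv_eq_of_mul_eq_one_right s2, ← mul_assoc, ← mul_assoc, s2, one_mul]
    have hη : τ * (ρ * σ) * τ⁻¹ = ρ * (τ * τ) * σ := by
      rw [mul_assoc, mul_assoc ρ, hσt, ← mul_assoc, ← mul_assoc, hρt.eq, mul_assoc ρ τ τ]
    rw [hη] at hx
    have hσt2 : σ * (τ * τ) = (τ * τ)⁻¹ * σ := by
      rw [← mul_assoc, mul_inv_eq_iff_eq_mul.1 hs, mul_assoc, mul_inv_eq_iff_eq_mul.1 hs, _root_.mul_inv_rev,
        mul_assoc]
    have e1 : ρ * σ * (ρ * (τ * τ) * σ) = (τ * τ)⁻¹ := by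
      calc ρ * σ * (ρ * (τ * τ) * σ) = ρ * (σ * ρ) * (τ * τ) * σ := by group
        _ = σ * (τ * τ) * σ := by rw [hσρ]; group
        _ = _ := by rw [hσt2, mul_assoc, s2, mul_one]
    have e2 : ρ * (τ * τ) * σ * (ρ * σ) = τ * τ := by
      calc ρ * (τ * τ) * σ * (ρ * σ) = ρ * (τ * τ) * (σ * ρ) * σ := by group
        _ = ρ * (τ * τ) * ρ⁻¹ * (σ * σ) := by rw [hσρ]; group
        _ = τ * τ := by
          rw [s2, mul_one, (hρt.symm.mul_right hρt.symm).eq, mul_inv_cancel_right]
    have e := hx.eq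
    rw [e1, e2] at e
    apply t1
    calc τ = τ ^ 3 * τ := by rw [t3, one_mul]
      _ = τ * τ * (τ * τ) := by rw [pow_three']; group
      _ = (τ * τ)⁻¹ * (τ * τ) := by rw [e]
      _ = 1 := inv_mul_cancel _

/-- An involution of the complement commuting with the central involution and with its conjugate by the
element of order three lies in the normal subgroup of order eight. -/
theorem mem_E [Finite G] (C : Cfg el) (S : C.Sw s) (L : Loc el s K E) (ψ : K ≃* Equiv.Perm (Fin 6)) {x : G}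
    (hx : x ∈ K) (x2 : x * x = 1) (xz : Commute x (el 81))
    (xt : Commute x (el 9 * x * (el 9)⁻¹)) : x ∈ E := by
  obtain ⟨-, -, c81, z2, c72, c63, c27, c9z, c36, c0, c54, c45, c5463, c549, v1, v2, s2', s1', v9, s9', v19,
    s19'⟩ := chk_local
  have hz : el 81 ∈ K := memK_sq C L ψ ((C.comm_iff (by norm_num) (by norm_num)).2 c81)
    (by rw [C.mul 81 (by norm_num) 81 (by norm_num), z2, C.el_zero])
  have hz1 : (⟨el 81, hz⟩ : K) ≠ 1 := fun h => absurd (C.inj 81 (by norm_num) 0 (by norm_num)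
    (by rw [C.el_zero]; exact congrArg Subtype.val h)) (by norm_num)
  set D := K ⊓ Subgroup.centralizer ({el 81} : Set G) with hD
  have hcard : Nat.card D ≤ 48 := by
    refine le_trans ?_ (card_cent_perm (σ := ψ ⟨el 81, hz⟩) ?_ fun h => hz1 (ψ.injective (h.trans (map_one ψ).symm)))
    · refine Nat.card_le_card_of_injective (fun d => ⟨ψ ⟨d.1, d.2.1⟩, Subgroup.mem_centralizer_singleton_iff.2 ?_⟩) ?_
      · rw [← map_mul, ← map_mul]
        exact congrArg ψ (Subtype.ext (Subgroup.mem_centralizer_singleton_iff.1 d.2.2))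
      · intro d d' h
        exact Subtype.ext (congrArg Subtype.val (ψ.injective (congrArg Subtype.val h)) :)
    · rw [← map_mul, show (⟨el 81, hz⟩ : K) * ⟨el 81, hz⟩ = 1 from Subtype.ext
        (by show el 81 * el 81 = 1; rw [C.mul 81 (by norm_num) 81 (by norm_num), z2, C.el_zero]), map_one]
  have hED : E ≤ D := fun e he => by
    refine ⟨memK C L ψ (L.ecomm e he).1 ?_, Subgroup.mem_centralizer_singleton_iff.2 (L.ecomm e he).2⟩
    have := pow_card_eq_one' (G := E) (x := ⟨e, he⟩)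
    rw [L.ecard] at this
    exact congrArg Subtype.val this
  set N := E.subgroupOf D with hN
  haveI : N.Normal := ⟨fun e he g => L.enorm g (L.comm g g.2.1)
    (Subgroup.mem_centralizer_singleton_iff.1 g.2.2) e he⟩
  have hNc : Nat.card N = 8 := by
    rw [Nat.card_congr (Subgroup.subgroupOfEquivOfLe hED).toEquiv, L.ecard]
  have hQ : Nat.card (D ⧸ N) ≤ 6 := by
    have := N.card_eq_card_quotient_mul_card_subgroup
    rw [hNc] at this
    omega
  -- the element of order three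
  have hj9 : Commute (el 9) (el 63) :=
    (C.comm_iff (by norm_num) (by norm_num)).2 (c72.trans c63.symm)
  have hsj : s * el 63 * s⁻¹ = el 63 := by
    have h := S.act 19 (by norm_num); rwa [v19, s19'] at h
  have hsK : s ∈ K := memK_sq C L ψ (mul_inv_eq_iff_eq_mul.1 hsj) S.sq
  have hs54 : s * el 9 * s⁻¹ = el 54 := by
    have h := S.act 1 (by norm_num); rwa [v1, s1'] at h
  have ht : el 72 ∈ K := by
    obtain ⟨i, hi⟩ := L.cov (el 9) hj9
    rw [pow_eq_pow_mod i (j_cube C)] at hi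
    have : i % 3 < 3 := Nat.mod_lt _ (by norm_num)
    interval_cases hr : i % 3
    · rw [pow_zero, mul_one] at hi
      refine absurd ?_ (j_notMem C L ψ)
      have h54 : el 54 ∈ K := hs54 ▸ mul_mem (mul_mem hsK hi) (inv_mem hsK)
      have h := mul_mem hi h54
      rwa [C.mul 9 (by norm_num) 54 (by norm_num), c54] at h
    · rwa [pow_one, C.mul 9 (by norm_num) 63 (by norm_num), c72] at hi
    · rw [pow_two, ← mul_assoc, C.mul 9 (by norm_num) 63 (by norm_num), C.mul _ (T_lt (by norm_num) (by norm_num)) 63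
        (by norm_num), c27] at hi
      have h18 : el 18 ∈ K := by
        have h := S.act 9 (by norm_num)
        rw [v9, s9'] at h
        exact h ▸ mul_mem (mul_mem hsK hi) (inv_mem hsK)
      have h45 := mul_mem h18 hi
      rw [C.mul 18 (by norm_num) 27 (by norm_num), c45] at h45
      refine absurd ?_ (j_notMem C L ψ)
      have h := mul_mem h45 h45
      rwa [C.mul 45 (by norm_num) 45 (by norm_num), show T 45 45 = 63 by decide +kernel] at h
  have htc : Commute (el 72) (el 81) := (C.comm_iff (by norm_num) (by norm_num)).2 (by decide +kernel)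
  let τ : D := ⟨el 72, ht, Subgroup.mem_centralizer_singleton_iff.2 htc⟩
  let σ : D := ⟨s, hsK, Subgroup.mem_centralizer_singleton_iff.2 S.z⟩
  let ξ : D := ⟨x, hx, Subgroup.mem_centralizer_singleton_iff.2 xz⟩
  have t3 : el 72 ^ 3 = 1 := by
    rw [pow_three', C.mul 72 (by norm_num) 72 (by norm_num), c36, C.mul 36 (by norm_num) 72 (by norm_num), c0,
      C.el_zero]
  have ts : s * el 72 * s⁻¹ = el 36 := by
    rw [← c72, ← C.mul 9 (by norm_num) 63 (by norm_num),
      show s * (el 9 * el 63) * s⁻¹ = s * el 9 * s⁻¹ * (s * el 63 * s⁻¹) by group, hs54, hsj,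
      C.mul 54 (by norm_num) 63 (by norm_num), c5463]
  let π := QuotientGroup.mk' N
  suffices h : π ξ = 1 from (QuotientGroup.eq_one_iff ξ).1 h
  refine eq_one_of_quot hQ (τ := π τ) (σ := π σ) ?_ ?_ ?_ ?_ ?_ ?_
  · rw [← map_pow, show τ ^ 3 = 1 from Subtype.ext t3, map_one]
  · intro h
    have he : el 72 ∈ E := (QuotientGroup.eq_one_iff τ).1 h
    have h8 := pow_card_eq_one' (G := E) (x := ⟨_, he⟩)
    rw [L.ecard] at h8
    have h8' : el 72 ^ 8 = 1 := congrArg Subtype.val h8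
    rw [pow_eq_pow_mod 8 t3, show 8 % 3 = 2 from rfl, pow_two, C.mul 72 (by norm_num) 72 (by norm_num), c36,
      ← C.el_zero] at h8'
    exact absurd (C.inj _ (by norm_num) _ (by norm_num) h8') (by norm_num)
  · rw [← map_mul, show σ * σ = 1 from Subtype.ext S.sq, map_one]
  · rw [← map_inv, ← map_mul, ← map_mul, ← map_inv]
    refine congrArg π (Subtype.ext ?_)
    show s * el 72 * s⁻¹ = (el 72)⁻¹
    rw [ts]
    exact eq_inv_of_mul_eq_one_left (by rw [C.mul 36 (by norm_num) 72 (by norm_num), c0, C.el_zero])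
  · rw [← map_mul, show ξ * ξ = 1 from Subtype.ext x2, map_one]
  · rw [← map_inv, ← map_mul, ← map_mul]
    refine Commute.map (Subtype.ext ?_) π
    show x * (el 72 * x * (el 72)⁻¹) = el 72 * x * (el 72)⁻¹ * x
    have e : el 72 * x * (el 72)⁻¹ = el 9 * x * (el 9)⁻¹ := by
      rw [← c72, ← C.mul 9 (by norm_num) 63 (by norm_num), _root_.mul_inv_rev]
      calc el 9 * el 63 * x * ((el 63)⁻¹ * (el 9)⁻¹) = el 9 * (el 63 * x * (el 63)⁻¹) * (el 9)⁻¹ := by group
        _ = _ := by rw [(L.comm x hx).symm.eq, mul_inv_cancel_right]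
    rw [e]
    exact xt.eq

end Cfsg.Agent.S3342Id.Seven
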