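import Cfsg.Agent.Lib.S3342Id.SixConfig

/-!
S3342: the element joining two triangles of involutions in a subgroup isomorphic to the symmetric group
of degree six.
-/

set_option autoImplicit false

namespace Cfsg.Agent.S3342Id.Six

variable {G : Type*} [Group G]

/-- Two distinct elements with product of order dividing three. -/
def Br (x y : G) : Prop := x ≠ y ∧ x * y * (x * y) * (x * y) = 1

/-- Four involutions forming two commuting triangles. -/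
structure Conf (K : Subgroup G) (a b c d : G) : Prop where
  ma : a ∈ K ∧ a * a = 1 ∧ a ≠ 1
  mb : b ∈ K ∧ b * b = 1 ∧ b ≠ 1
  mc : c ∈ K ∧ c * c = 1 ∧ c ≠ 1
  md : d ∈ K ∧ d * d = 1 ∧ d ≠ 1
  ab : Br a b
  cd : Br c d
  ac : Commute a c
  ad : Commute a d
  bc : Commute b c
  bd : Commute b d
  ne : a ≠ c

/-- The joining involution. -/
structure Join (K : Subgroup G) (a b c d x : G) : Prop where
  mx : x ∈ K ∧ x * x = 1 ∧ x ≠ 1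
  xa : Commute x a
  xc : Commute x c
  xb : Br x b
  xd : Br x d

variable {K : Subgroup G}

/-- The number of an involution. -/
theorem exists_num (ψ : K ≃* Equiv.Perm (Fin 6)) {x : G} (hx : x ∈ K ∧ x * x = 1 ∧ x ≠ 1) :
    ∃ i < 75, ∀ t, ψ ⟨x, hx.1⟩ t = pf i t := by
  refine tbl_surj _ ?_ fun h => hx.2.2 ?_
  · rw [← map_mul, show (⟨x, hx.1⟩ : K) * ⟨x, hx.1⟩ = 1 from Subtype.ext hx.2.1, map_one]
  · have h1 : (⟨x, hx.1⟩ : K) = 1 := ψ.injective (h.trans (map_one ψ).symm)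
    exact congrArg Subtype.val h1

variable (ψ : K ≃* Equiv.Perm (Fin 6))
include ψ

theorem co_iff {x y : G} (hx : x ∈ K) (hy : y ∈ K) {i k : ℕ} (hi : i < 75) (hk : k < 75)
    (hxi : ∀ t, ψ ⟨x, hx⟩ t = pf i t) (hyk : ∀ t, ψ ⟨y, hy⟩ t = pf k t) :
    co i k = true ↔ Commute x y := by
  rw [tbl_co i hi k hk, decide_eq_true_eq]
  have key : (∀ t, (ψ ⟨x, hx⟩ * ψ ⟨y, hy⟩) t = (ψ ⟨y, hy⟩ * ψ ⟨x, hx⟩) t) ↔ Commute x y := by
    rw [← Equiv.ext_iff, ← map_mul, ← map_mul, ψ.injective.eq_iff, Subtype.ext_iff]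
    exact Iff.rfl
  rw [← key]
  simp only [Equiv.Perm.mul_apply, hxi, hyk]

theorem num_eq_iff {x y : G} (hx : x ∈ K) (hy : y ∈ K) {i k : ℕ}
    (hxi : ∀ t, ψ ⟨x, hx⟩ t = pf i t) (hyk : ∀ t, ψ ⟨y, hy⟩ t = pf k t) (h : i = k) : x = y := by
  subst h
  exact congrArg Subtype.val (ψ.injective (Equiv.ext fun t => (hxi t).trans (hyk t).symm))

theorem br_of_Br {x y : G} (hx : x ∈ K) (hy : y ∈ K) {i k : ℕ} (hi : i < 75) (hk : k < 75)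
    (hxi : ∀ t, ψ ⟨x, hx⟩ t = pf i t) (hyk : ∀ t, ψ ⟨y, hy⟩ t = pf k t) (h : Br x y) :
    br i k = true := by
  rw [tbl_br i hi k hk, Bool.and_eq_true, decide_eq_true_eq, Bool.not_eq_true']
  refine ⟨fun t => ?_, Bool.eq_false_iff.2 fun e => h.1 (num_eq_iff ψ hx hy hxi hyk (Nat.eq_of_beq_eq_true e))⟩
  have e : ((ψ ⟨x, hx⟩ * ψ ⟨y, hy⟩ * (ψ ⟨x, hx⟩ * ψ ⟨y, hy⟩) * (ψ ⟨x, hx⟩ * ψ ⟨y, hy⟩))) t = t := by
    rw [← map_mul, ← map_mul, ← map_mul,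
      show (⟨x, hx⟩ : K) * ⟨y, hy⟩ * (⟨x, hx⟩ * ⟨y, hy⟩) * (⟨x, hx⟩ * ⟨y, hy⟩) = 1 from Subtype.ext h.2,
      map_one, Equiv.Perm.one_apply]
  simpa only [Equiv.Perm.mul_apply, hxi, hyk] using e

theorem Br_of_br {x y : G} (hx : x ∈ K) (hy : y ∈ K) {i k : ℕ} (hi : i < 75) (hk : k < 75)
    (hxi : ∀ t, ψ ⟨x, hx⟩ t = pf i t) (hyk : ∀ t, ψ ⟨y, hy⟩ t = pf k t) (h : br i k = true) :
    Br x y := by
  rw [tbl_br i hi k hk, Bool.and_eq_true, decide_eq_true_eq, Bool.not_eq_true'] at h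
  refine ⟨fun e => ?_, ?_⟩
  · subst e
    have hik : ∀ t, pf i t = pf k t := fun t => (hxi t).symm.trans (hyk t)
    by_cases hne : i = k
    · rw [hne] at h; simp at h
    · exact hne ((show ∀ i < 75, ∀ k < 75, (∀ t, pf i t = pf k t) → i = k by decide +kernel) i hi k hk hik)
  · have : (⟨x, hx⟩ : K) * ⟨y, hy⟩ * (⟨x, hx⟩ * ⟨y, hy⟩) * (⟨x, hx⟩ * ⟨y, hy⟩) = 1 := by
      refine ψ.injective (Equiv.ext fun t => ?_)
      simp only [map_mul, map_one, Equiv.Perm.mul_apply, Equiv.Perm.one_apply, hxi, hyk]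
      exact h.1 t
    exact congrArg Subtype.val this

/-- The joining involution exists and is unique. -/
theorem exists_join {a b c d : G} (C : Conf K a b c d) :
    ∃ x, Join K a b c d x ∧ ∀ y, Join K a b c d y → y = x := by
  obtain ⟨ia, ha, ea⟩ := exists_num ψ C.ma
  obtain ⟨ib, hb, eb⟩ := exists_num ψ C.mb
  obtain ⟨ic, hc, ec⟩ := exists_num ψ C.mc
  obtain ⟨id, hd, ed⟩ := exists_num ψ C.md
  have h1 := br_of_Br ψ C.ma.1 C.mb.1 ha hb ea eb C.ab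
  have h2 := br_of_Br ψ C.mc.1 C.md.1 hc hd ec ed C.cd
  have h3 := (co_iff ψ C.ma.1 C.mc.1 ha hc ea ec).2 C.ac
  have h4 := (co_iff ψ C.ma.1 C.md.1 ha hd ea ed).2 C.ad
  have h5 := (co_iff ψ C.mb.1 C.mc.1 hb hc eb ec).2 C.bc
  have h6 := (co_iff ψ C.mb.1 C.md.1 hb hd eb ed).2 C.bd
  have hcf : conf ia ib ic id = true := by
    simp only [conf, h1, h2, h3, h4, h5, h6, Bool.true_and, Bool.not_eq_true']
    exact Bool.eq_false_iff.2 fun e => C.ne (num_eq_iff ψ C.ma.1 C.mc.1 ea ec (Nat.eq_of_beq_eq_true e))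
  obtain ⟨ix, hix⟩ := List.length_eq_one_iff.1 (chk_one ia ha ib hb h1 ic hc (by simp [h3, h5]) id hd hcf)
  have hmem : ∀ y, y ∈ cands ia ib ic id ↔ y = ix := fun y => by rw [hix]; exact List.mem_singleton
  have hx := (hmem ix).2 rfl
  simp only [cands, List.mem_filter, List.mem_range, Bool.and_eq_true] at hx
  obtain ⟨hx75, ⟨⟨q1, q2⟩, q3⟩, q4⟩ := hx
  obtain ⟨σ, hσ⟩ : ∃ σ : Equiv.Perm (Fin 6), ∀ t, σ t = pf ix t :=
    ⟨⟨pf ix, pf ix, fun t => (show ∀ i < 75, ∀ t, pf i (pf i t) = t by decide +kernel) ix hx75 t,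
      fun t => (show ∀ i < 75, ∀ t, pf i (pf i t) = t by decide +kernel) ix hx75 t⟩, fun _ => rfl⟩
  obtain ⟨⟨x, hxK⟩, rfl⟩ := ψ.surjective σ
  refine ⟨x, ⟨⟨hxK, ?_, ?_⟩, (co_iff ψ hxK C.ma.1 hx75 ha hσ ea).1 q1, (co_iff ψ hxK C.mc.1 hx75 hc hσ ec).1 q2,
    Br_of_br ψ hxK C.mb.1 hx75 hb hσ eb q3, Br_of_br ψ hxK C.md.1 hx75 hd hσ ed q4⟩, fun y Y => ?_⟩
  · have : (⟨x, hxK⟩ : K) * ⟨x, hxK⟩ = 1 := by
      refine ψ.injective (Equiv.ext fun t => ?_)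
      rw [map_mul, map_one, Equiv.Perm.mul_apply, hσ, hσ, Equiv.Perm.one_apply]
      exact (show ∀ i < 75, ∀ t, pf i (pf i t) = t by decide +kernel) ix hx75 t
    exact congrArg Subtype.val this
  · intro h1x
    refine (show ∀ i < 75, ¬ ∀ t, pf i t = t by decide +kernel) ix hx75 fun t => ?_
    rw [← hσ, show (⟨x, hxK⟩ : K) = 1 from Subtype.ext h1x, map_one, Equiv.Perm.one_apply]
  · obtain ⟨iy, hy, ey⟩ := exists_num ψ Y.mx
    refine num_eq_iff ψ Y.mx.1 hxK ey hσ ((hmem iy).1 ?_)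
    simp only [cands, List.mem_filter, List.mem_range, Bool.and_eq_true]
    exact ⟨hy, ⟨⟨(co_iff ψ Y.mx.1 C.ma.1 hy ha ey ea).2 Y.xa, (co_iff ψ Y.mx.1 C.mc.1 hy hc ey ec).2 Y.xc⟩,
      br_of_Br ψ Y.mx.1 C.mb.1 hy hb ey eb Y.xb⟩, br_of_Br ψ Y.mx.1 C.md.1 hy hd ey ed Y.xd⟩

/-- Joining involutions of shifted configurations commute. -/
theorem join_comm {a b c d e f x y : G} (C : Conf K a b c d) (X : Join K a b c d x)
    (me : e ∈ K ∧ e * e = 1 ∧ e ≠ 1) (mf : f ∈ K ∧ f * f = 1 ∧ f ≠ 1)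
    (ea' : Br e a) (eb' : Br e b) (ec' : Commute e c) (ed' : Commute e d)
    (fc' : Br f c) (fd' : Br f d) (fa' : Commute f a) (fb' : Commute f b)
    (Y : Join K e a f c y) : Commute x y := by
  obtain ⟨ia, ha, ea⟩ := exists_num ψ C.ma
  obtain ⟨ib, hb, eb⟩ := exists_num ψ C.mb
  obtain ⟨ic, hc, ec⟩ := exists_num ψ C.mc
  obtain ⟨id, hd, ed⟩ := exists_num ψ C.md
  obtain ⟨ie, he, ee⟩ := exists_num ψ me
  obtain ⟨jf, hf, ef⟩ := exists_num ψ mf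
  obtain ⟨ix, hx, ex⟩ := exists_num ψ X.mx
  obtain ⟨iy, hy, ey⟩ := exists_num ψ Y.mx
  have h1 := br_of_Br ψ C.ma.1 C.mb.1 ha hb ea eb C.ab
  have h2 := br_of_Br ψ C.mc.1 C.md.1 hc hd ec ed C.cd
  have h3 := (co_iff ψ C.ma.1 C.mc.1 ha hc ea ec).2 C.ac
  have h4 := (co_iff ψ C.ma.1 C.md.1 ha hd ea ed).2 C.ad
  have h5 := (co_iff ψ C.mb.1 C.mc.1 hb hc eb ec).2 C.bc
  have h6 := (co_iff ψ C.mb.1 C.md.1 hb hd eb ed).2 C.bd
  have hcf : conf ia ib ic id = true := by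
    simp only [conf, h1, h2, h3, h4, h5, h6, Bool.true_and, Bool.not_eq_true']
    exact Bool.eq_false_iff.2 fun e => C.ne (num_eq_iff ψ C.ma.1 C.mc.1 ea ec (Nat.eq_of_beq_eq_true e))
  refine (co_iff ψ X.mx.1 Y.mx.1 hx hy ex ey).1 (chk_shift ha hb hc hd he hf h1 (by simp [h3, h5]) hcf ?_ ?_ ?_ ?_)
  · simp [br_of_Br ψ me.1 C.ma.1 he ha ee ea ea', br_of_Br ψ me.1 C.mb.1 he hb ee eb eb',
      (co_iff ψ me.1 C.mc.1 he hc ee ec).2 ec', (co_iff ψ me.1 C.md.1 he hd ee ed).2 ed']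
  · simp [br_of_Br ψ mf.1 C.mc.1 hf hc ef ec fc', br_of_Br ψ mf.1 C.md.1 hf hd ef ed fd',
      (co_iff ψ mf.1 C.ma.1 hf ha ef ea).2 fa', (co_iff ψ mf.1 C.mb.1 hf hb ef eb).2 fb']
  · simp only [cands, List.mem_filter, List.mem_range, Bool.and_eq_true]
    exact ⟨hx, ⟨⟨(co_iff ψ X.mx.1 C.ma.1 hx ha ex ea).2 X.xa, (co_iff ψ X.mx.1 C.mc.1 hx hc ex ec).2 X.xc⟩,
      br_of_Br ψ X.mx.1 C.mb.1 hx hb ex eb X.xb⟩, br_of_Br ψ X.mx.1 C.md.1 hx hd ex ed X.xd⟩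
  · simp only [cands, List.mem_filter, List.mem_range, Bool.and_eq_true]
    exact ⟨hy, ⟨⟨(co_iff ψ Y.mx.1 me.1 hy he ey ee).2 Y.xa, (co_iff ψ Y.mx.1 mf.1 hy hf ey ef).2 Y.xc⟩,
      br_of_Br ψ Y.mx.1 C.ma.1 hy ha ey ea Y.xb⟩, br_of_Br ψ Y.mx.1 C.mc.1 hy hc ey ec Y.xd⟩

end Cfsg.Agent.S3342Id.Six
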