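import Cfsg.Agent.Lib.S3342Id.Named
import Cfsg.Agent.Lib.S3342Id.InE
import Cfsg.Agent.Lib.S3342Id.SixGroup
import Cfsg.Agent.Lib.S3342Id.E7Central
import Cfsg.Agent.Lib.S3342Id.Sp62Pres
import Cfsg.Agent.Lib.S3342Id.AutBranch

/-!
S3342: a seventh involution and the copy of `Sp₆(2)` it generates with the six reflections.
-/

set_option autoImplicit false
set_option maxRecDepth 20000
set_option synthInstance.maxSize 10000
set_option linter.style.haveILetI false

namespace Cfsg.Agent.S3342Id.Seven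

open Cfsg.Agent.Hayden Cfsg.Agent.CosetCert Cfsg.Agent.CosetData Cfsg.Agent.FischerPresented

variable {G : Type*} [Group G]

theorem w4 {g : ℕ → G} {a b : ℕ} (ha : g a * g a = 1) (hb : g b * g b = 1) (h : Commute (g a) (g b)) :
    wprod g [a, b, a, b] = 1 := by
  simp only [wprod_cons, wprod_nil, mul_one]
  rw [show g a * (g b * (g a * g b)) = g a * (g b * g a) * g b by group, ← h.eq, ← mul_assoc, ha, one_mul, hb]

theorem w6 {g : ℕ → G} {a b : ℕ} (h : g a * g b * (g a * g b) * (g a * g b) = 1) :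
    wprod g [a, b, a, b, a, b] = 1 := by
  simp only [wprod_cons, wprod_nil, mul_one]
  rw [← h]
  group

theorem br_swap {x y : G} (h : x * y * (x * y) * (x * y) = 1) : y * x * (y * x) * (y * x) = 1 := by
  calc y * x * (y * x) * (y * x) = x⁻¹ * (x * y * (x * y) * (x * y)) * x := by group
    _ = 1 := by rw [h]; group

theorem br_conj {g x y : G} (h : Six.Br x y) : Six.Br (g * x * g⁻¹) (g * y * g⁻¹) :=
  ⟨fun e => h.1 (mul_left_cancel (mul_right_cancel e)), by
    calc g * x * g⁻¹ * (g * y * g⁻¹) * (g * x * g⁻¹ * (g * y * g⁻¹)) * (g * x * g⁻¹ * (g * y * g⁻¹))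
        = g * (x * y * (x * y) * (x * y)) * g⁻¹ := by group
      _ = 1 := by rw [h.2]; group⟩

theorem join_conj {K : Subgroup G} {g a b c d a' b' c' d' x : G} (X : Six.Join K a b c d x)
    (ha : g * a * g⁻¹ = a') (hb : g * b * g⁻¹ = b') (hc : g * c * g⁻¹ = c') (hd : g * d * g⁻¹ = d')
    (hm : g * x * g⁻¹ ∈ K) : Six.Join K a' b' c' d' (g * x * g⁻¹) := by
  subst ha hb hc hd
  refine ⟨⟨hm, ?_, fun h => X.mx.2.2 ?_⟩, (Commute.conj_iff g).2 X.xa, (Commute.conj_iff g).2 X.xc,
    br_conj X.xb, br_conj X.xd⟩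
  · rw [show g * x * g⁻¹ * (g * x * g⁻¹) = g * (x * x) * g⁻¹ by group, X.mx.2.1]
    group
  · calc x = g⁻¹ * (g * x * g⁻¹) * g := by group
      _ = 1 := by rw [h]; group

variable [Finite G] {el : ℕ → G} {C : Cfg el} {s : G} {f : Cfsg.PSp 2 (ZMod 3) →* G} {n : G}
  {K E : Subgroup G}

theorem chk_vi19 : vi 19 = 63 ∧ vi (app swMap 19) = 63 ∧ T 162 162 = 81 ∧ T 459 459 = 81 := by decide +kernel

/-- The six reflections by number, with four more. -/
def r (f : Cfsg.PSp 2 (ZMod 3) →* G) (n : G) (i : ℕ) : G := O f n (rc i)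

theorem rc_ok {i : ℕ} (h : i < 10) : isSp (rc i) = true ∧ eqv (dm (rc i) (rc i)) 1 = true := by
  have := List.all_eq_true.1 rc_sp i (List.mem_range.2 h)
  simpa using this

theorem r_sq (D : Std C s f n) {i : ℕ} (h : i < 10) : r f n i * r f n i = 1 :=
  D.toExt.O_sq (rc_ok h).1 (rc_ok h).2

theorem r_br (D : Std C s f n) {i k : ℕ} (h : (i, k) ∈ braids) (hi : i < 10) (hk : k < 10) :
    Six.Br (r f n i) (r f n k) := by
  have := List.all_eq_true.1 braids_ok _ h
  simp only [Bool.and_eq_true, Bool.not_eq_true'] at this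
  exact ⟨D.toExt.O_ne (rc_ok hi).1 (rc_ok hk).1 this.2, D.toExt.O_braid (rc_ok hi).1 (rc_ok hk).1 this.1⟩

theorem r_co (D : Std C s f n) {i k : ℕ} (h : (i, k) ∈ comms) (hi : i < 10) (hk : k < 10) :
    Commute (r f n i) (r f n k) :=
  have e := List.all_eq_true.1 comms_ok (i, k) h
  D.toExt.O_comm (a := rc i) (b := rc k) (rc_ok hi).1 (rc_ok hk).1 e

theorem r_move (D : Std C s f n) {p i k : ℕ} (h : (p, i, k) ∈ moves) (hi : i < 10) (hk : k < 10) :
    P f p * r f n i * (P f p)⁻¹ = r f n k := by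
  have := List.all_eq_true.1 moves_ok _ h
  simp only [Bool.and_eq_true] at this
  exact D.toExt.P_conj_O this.1 (rc_ok hi).1 (rc_ok hk).1 this.2

theorem r_inverts (D : Std C s f n) {i : ℕ} (h : i ∈ ([1, 3] : List ℕ)) :
    r f n i * el 63 * (r f n i)⁻¹ = (el 63)⁻¹ := by
  obtain ⟨hall, hj', hprod, hone, hsp1, -⟩ := inverts_ok
  have hi : i < 10 := by simp at h; omega
  rw [← D.P_j]
  have e := D.toExt.O_conj_P (rc_ok hi).1 named_isSp.2.2.2.2.2.1 hj' (rc_ok hi).2
    (List.all_eq_true.1 hall i h)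
  rw [r, e]
  refine eq_inv_of_mul_eq_one_left ?_
  rw [P_mul hj' named_isSp.2.2.2.2.2.1 hsp1 hprod, P_one hsp1 hone]

/-- The seventh involution: its relations with the reflections. -/
theorem exists_seventh (D : Std C s f n) (L : Loc el s K E) (ψ : K ≃* Equiv.Perm (Fin 6)) :
    ∃ x, x ∈ K ∧ x ∈ E ∧ x * x = 1 ∧ x ≠ 1 ∧ (∀ i ∈ [0, 1, 2, 3, 4], Commute x (r f n i)) ∧
      x * r f n 5 * (x * r f n 5) * (x * r f n 5) = 1 := by
  have hj : ∀ i ∈ [0, 5, 6, 7, 8, 9], Commute (r f n i) (el 63) := fun i hi => by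
    have hm : (14762500, i, i) ∈ moves := by fin_cases hi <;> simp [moves]
    have h10 : i < 10 := by fin_cases hi <;> norm_num
    have e := r_move D hm h10 h10
    rw [D.P_j] at e
    exact (mul_inv_eq_iff_eq_mul.1 e).symm
  have hm : ∀ i ∈ [0, 5, 6, 7, 8, 9], r f n i ∈ K ∧ r f n i * r f n i = 1 ∧ r f n i ≠ 1 := fun i hi => by
    have h10 : i < 10 := by fin_cases hi <;> norm_num
    exact ⟨memK_sq C L ψ (hj i hi) (r_sq D h10), r_sq D h10, D.toExt.O_ne_one _⟩
  have cb : Six.Br (r f n 0) (r f n 6) := r_br D (by simp [braids]) (by norm_num) (by norm_num)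
  have hconf : Six.Conf K (r f n 0) (r f n 6) (r f n 7) (r f n 5) :=
    ⟨hm 0 (by simp), hm 6 (by simp), hm 7 (by simp), hm 5 (by simp), cb,
      r_br D (by simp [braids]) (by norm_num) (by norm_num),
      r_co D (by simp [comms]) (by norm_num) (by norm_num),
      r_co D (by simp [comms]) (by norm_num) (by norm_num),
      r_co D (by simp [comms]) (by norm_num) (by norm_num),
      r_co D (by simp [comms]) (by norm_num) (by norm_num),
      D.toExt.O_ne (rc_ok (by norm_num)).1 (rc_ok (by norm_num)).1 inverts_ok.2.2.2.2.2⟩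
  obtain ⟨x, X, huniq⟩ := Six.exists_join ψ hconf
  obtain ⟨hxK, x2, x1⟩ := X.mx
  have hxj := L.comm x hxK
  have hconjK : ∀ g, Commute (g * x * g⁻¹) (el 63) → g * x * g⁻¹ ∈ K := fun g hg =>
    memK_sq C L ψ hg (by rw [show g * x * g⁻¹ * (g * x * g⁻¹) = g * (x * x) * g⁻¹ by group, x2]; group)
  have hfix : ∀ g, Commute g (el 63) → Commute (g * x * g⁻¹) (el 63) := fun g hg =>
    (hg.mul_left hxj).mul_left hg.inv_left
  have hinvk : ∀ i ∈ ([1, 3] : List ℕ), Commute (r f n i * x * (r f n i)⁻¹) (el 63) := fun i hi => by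
    have h := (Commute.conj_iff (r f n i)).2 hxj
    rw [r_inverts D hi] at h
    simpa using h.inv_right
  -- the central involution
  have hz63 : Commute (el 81) (el 63) := (C.comm_iff (by norm_num) (by norm_num)).2 (by decide +kernel)
  have hzmove : ∀ i k, (28816156, i, k) ∈ moves → i < 10 → k < 10 →
      el 81 * r f n i * (el 81)⁻¹ = r f n k := fun i k h hi hk => D.P_z ▸ r_move D h hi hk
  have hxz : Commute x (el 81) := by
    have Y := join_conj X (hzmove 0 7 (by simp [moves]) (by norm_num) (by norm_num))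
      (hzmove 6 5 (by simp [moves]) (by norm_num) (by norm_num))
      (hzmove 7 0 (by simp [moves]) (by norm_num) (by norm_num))
      (hzmove 5 6 (by simp [moves]) (by norm_num) (by norm_num)) (hconjK _ (hfix _ hz63))
    exact (mul_inv_eq_iff_eq_mul.1 (huniq _ ⟨Y.mx, Y.xc, Y.xa, Y.xd, Y.xb⟩)).symm
  -- the reflections inverting
  have hxr : ∀ i ∈ ([1, 3] : List ℕ), Commute x (r f n i) := fun i hi => by
    have hi10 : i < 10 := by fin_cases hi <;> norm_num
    have hc : ∀ k ∈ [0, 5, 6, 7], r f n i * r f n k * (r f n i)⁻¹ = r f n k := fun k hk => by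
      have : Commute (r f n i) (r f n k) := r_co D (by fin_cases hi <;> fin_cases hk <;> simp [comms]) hi10
        (by fin_cases hk <;> norm_num)
      rw [this.eq, mul_inv_cancel_right]
    exact (mul_inv_eq_iff_eq_mul.1 (huniq _ (join_conj X (hc 0 (by simp)) (hc 6 (by simp)) (hc 7 (by simp))
      (hc 5 (by simp)) (hconjK _ (hinvk i hi))))).symm
  -- the shifted configuration
  have htmove : ∀ i k, (14762494, i, k) ∈ moves → i < 10 → k < 10 →
      el 9 * r f n i * (el 9)⁻¹ = r f n k := fun i k h hi hk => D.P_t ▸ r_move D h hi hk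
  have ht63 : Commute (el 9) (el 63) := (C.comm_iff (by norm_num) (by norm_num)).2 (by decide +kernel)
  have Y := join_conj X (htmove 0 8 (by simp [moves]) (by norm_num) (by norm_num))
    (htmove 6 0 (by simp [moves]) (by norm_num) (by norm_num))
    (htmove 7 9 (by simp [moves]) (by norm_num) (by norm_num))
    (htmove 5 7 (by simp [moves]) (by norm_num) (by norm_num)) (hconjK _ (hfix _ ht63))
  have hxt := Six.join_comm ψ hconf X (hm 8 (by simp)) (hm 9 (by simp))
    (r_br D (by simp [braids]) (by norm_num) (by norm_num))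
    (r_br D (by simp [braids]) (by norm_num) (by norm_num))
    (r_co D (by simp [comms]) (by norm_num) (by norm_num))
    (r_co D (by simp [comms]) (by norm_num) (by norm_num))
    (r_br D (by simp [braids]) (by norm_num) (by norm_num))
    (r_br D (by simp [braids]) (by norm_num) (by norm_num))
    (r_co D (by simp [comms]) (by norm_num) (by norm_num))
    (r_co D (by simp [comms]) (by norm_num) (by norm_num)) Y
  have hxE : x ∈ E := mem_E C D.sw L ψ hxK x2 hxz hxt
  obtain ⟨-, -, c162, c459⟩ := chk_vi19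
  have h162 : Commute x (el 162) := (L.eq4 6 (by norm_num) c162 x hxE).1
  have h459 : Commute x (s * el 459 * s⁻¹) := (L.eq4 17 (by norm_num) c459 x hxE).2
  have hprop : ∀ p k, Commute x (P f p) → (p, 1, k) ∈ moves → k < 10 → Commute x (r f n k) :=
    fun p k hp h hk => by
      rw [← r_move D h (by norm_num) hk]
      exact (hp.mul_right (hxr 1 (by simp))).mul_right hp.inv_right
  refine ⟨x, hxK, hxE, x2, x1, fun i hi => ?_, X.xd.2⟩
  fin_cases hi
  · exact X.xa
  · exact hxr 1 (by simp)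
  · exact hprop _ 2 (D.P_p3 ▸ h162) (by simp [moves]) (by norm_num)
  · exact hxr 3 (by simp)
  · exact hprop _ 4 (D.P_p5 ▸ h162.mul_right h459) (by simp [moves]) (by norm_num)

/-- The seven involutions, numbered as in the presentation of `Sp₆(2)`. -/
def g62 (f : Cfsg.PSp 2 (ZMod 3) →* G) (n x : G) (i : ℕ) : G :=
  [r f n 1, r f n 3, r f n 4, r f n 5, x, r f n 2, r f n 0].getD i 1

/-- The renumbering for the presentation of type `E₇`. -/
def perm7 (i : ℕ) : ℕ := [4, 3, 2, 1, 5, 6, 0].getD i 7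

theorem long_word : [0, 1, 2, 3, 4, 5, 6, 0, 1, 2, 3, 4, 5, 6, 0, 1, 2, 3, 4, 5, 6, 0, 1, 2, 3, 4, 5, 6, 0, 1, 2,
    3, 4, 5, 6, 0, 1, 2, 3, 4, 5, 6, 0, 1, 2, 3, 4, 5, 6, 0, 1, 2, 3, 4, 5, 6, 0, 1, 2, 3, 4, 5, 6] =
    rep 9 [0, 1, 2, 3, 4, 5, 6] := by decide +kernel

/-- The seven involutions satisfy the presentation, and generate everything. -/
theorem g62_spec (D : Std C s f n) {x : G} (x2 : x * x = 1)
    (hco : ∀ i ∈ [0, 1, 2, 3, 4], Commute x (r f n i))
    (h5 : x * r f n 5 * (x * r f n 5) * (x * r f n 5) = 1) :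
    (∀ i, g62 f n x i * g62 f n x i = 1) ∧ (∀ w ∈ ChainS62.base, wprod (g62 f n x) w = 1) ∧
      ∀ H : Subgroup G, (∀ i < 7, g62 f n x i ∈ H) ↔ f.range ≤ H ∧ n ∈ H ∧ x ∈ H := by
  set g := g62 f n x with hg
  have q : ∀ {i}, i < 10 → r f n i * r f n i = 1 := fun h => r_sq D h
  have hinv : ∀ i, g i * g i = 1 := by
    intro i
    match i with
    | 0 => exact q (by norm_num)
    | 1 => exact q (by norm_num)
    | 2 => exact q (by norm_num)
    | 3 => exact q (by norm_num)
    | 4 => exact x2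
    | 5 => exact q (by norm_num)
    | 6 => exact q (by norm_num)
    | i + 7 => exact mul_one 1
  have co : ∀ {i k}, (i, k) ∈ comms → i < 10 → k < 10 → Commute (r f n i) (r f n k) := fun h hi hk =>
    r_co D h hi hk
  have br : ∀ {i k}, (i, k) ∈ braids → i < 10 → k < 10 →
      r f n i * r f n k * (r f n i * r f n k) * (r f n i * r f n k) = 1 := fun h hi hk => (r_br D h hi hk).2
  have hx : ∀ {i}, i < 5 → Commute x (r f n i) := fun {i} h => hco i (by interval_cases i <;> simp)
  have c20 : Commute (r f n 4) (r f n 1) := (co (i := 1) (k := 4) (by simp [comms]) (by norm_num) (by norm_num)).symm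
  -- the relations of Coxeter type
  have hcox : ∀ w ∈ ChainS62.base.take 21, wprod g w = 1 := by
    simp only [ChainS62.base, List.take_succ_cons, List.take_zero, List.forall_mem_cons, List.not_mem_nil,
      IsEmpty.forall_iff, implies_true, and_true]
    refine ⟨w6 (br (i := 1) (k := 3) (by simp [braids]) (by norm_num) (by norm_num)),
      w4 (hinv 0) (hinv 2) c20.symm,
      w4 (hinv 0) (hinv 3) (co (i := 1) (k := 5) (by simp [comms]) (by norm_num) (by norm_num)),
      w4 (hinv 0) (hinv 4) (hx (i := 1) (by norm_num)).symm,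
      w4 (hinv 0) (hinv 5) (co (i := 1) (k := 2) (by simp [comms]) (by norm_num) (by norm_num)),
      w4 (hinv 0) (hinv 6) (co (i := 1) (k := 0) (by simp [comms]) (by norm_num) (by norm_num)),
      w6 (br (i := 3) (k := 4) (by simp [braids]) (by norm_num) (by norm_num)),
      w4 (hinv 1) (hinv 3) (co (i := 3) (k := 5) (by simp [comms]) (by norm_num) (by norm_num)),
      w4 (hinv 1) (hinv 4) (hx (i := 3) (by norm_num)).symm,
      w6 (br (i := 3) (k := 2) (by simp [braids]) (by norm_num) (by norm_num)),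
      w4 (hinv 1) (hinv 6) (co (i := 3) (k := 0) (by simp [comms]) (by norm_num) (by norm_num)),
      w6 (br (i := 4) (k := 5) (by simp [braids]) (by norm_num) (by norm_num)),
      w4 (hinv 2) (hinv 4) (hx (i := 4) (by norm_num)).symm,
      w4 (hinv 2) (hinv 5) (co (i := 4) (k := 2) (by simp [comms]) (by norm_num) (by norm_num)),
      w4 (hinv 2) (hinv 6) (co (i := 4) (k := 0) (by simp [comms]) (by norm_num) (by norm_num)),
      w6 (br_swap h5),
      w4 (hinv 3) (hinv 5) (co (i := 5) (k := 2) (by simp [comms]) (by norm_num) (by norm_num)),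
      w4 (hinv 3) (hinv 6) (co (i := 5) (k := 0) (by simp [comms]) (by norm_num) (by norm_num)),
      w4 (hinv 4) (hinv 5) (hx (i := 2) (by norm_num)),
      w4 (hinv 4) (hinv 6) (hx (i := 0) (by norm_num)),
      w6 (br (i := 2) (k := 0) (by simp [braids]) (by norm_num) (by norm_num))⟩
  have hgen : ∀ H : Subgroup G, (∀ i < 7, g i ∈ H) ↔ f.range ≤ H ∧ n ∈ H ∧ x ∈ H := by
    intro H
    constructor
    · intro h
      obtain ⟨h1, h2⟩ := D.gen_six (H := H) fun i hi => by
        interval_cases i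
        exacts [h 6 (by norm_num), h 0 (by norm_num), h 5 (by norm_num), h 1 (by norm_num), h 2 (by norm_num),
          h 3 (by norm_num)]
      exact ⟨h1, h2, h 4 (by norm_num)⟩
    · rintro ⟨h1, h2, h3⟩ i hi
      have hr : ∀ k, r f n k ∈ H := fun k => mul_mem h2 (h1 ⟨_, rfl⟩)
      interval_cases i
      exacts [hr 1, hr 3, hr 4, hr 5, h3, hr 2, hr 0]
  refine ⟨hinv, ?_, hgen⟩
  -- the ninth power of the Coxeter element
  let g7 : ℕ → G := fun i => g (perm7 i)
  have hinv7 : ∀ i, g7 i * g7 i = 1 := fun i => hinv _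
  have sw4 : ∀ {a b}, wprod g [a, b, a, b] = 1 → wprod g [b, a, b, a] = 1 := fun {a b} h => by
    have := wprod_reverse hinv [a, b, a, b]
    rw [h, inv_one] at this
    exact this
  have sw6 : ∀ {a b}, wprod g [a, b, a, b, a, b] = 1 → wprod g [b, a, b, a, b, a] = 1 := fun {a b} h => by
    have := wprod_reverse hinv [a, b, a, b, a, b]
    rw [h, inv_one] at this
    exact this
  have hmap : ∀ w : List ℕ, wprod g7 w = wprod g (w.map perm7) := fun w => by
    simp only [wprod, List.map_map]; rfl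
  have hb7 : ∀ w ∈ ChainE7.base, wprod g7 w = 1 := by
    intro w hw
    rw [hmap]
    have : w.map perm7 ∈ ChainS62.base.take 21 ∨ (w.map perm7).reverse ∈ ChainS62.base.take 21 :=
      (show ∀ w ∈ ChainE7.base, w.map perm7 ∈ ChainS62.base.take 21 ∨
        (w.map perm7).reverse ∈ ChainS62.base.take 21 by decide +kernel) w hw
    rcases this with h | h
    · exact hcox _ h
    · have e := wprod_reverse hinv (w.map perm7)
      rw [hcox _ h] at e
      exact inv_eq_one.1 e.symm
  have hcent := central_e7 g7 hinv7 hb7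
  set ω := wprod g7 cox7
  have hω : ω = 1 := by
    have hmem : ∀ i < 7, g i ∈ Subgroup.centralizer ({ω} : Set G) := fun i hi => by
      rw [Subgroup.mem_centralizer_singleton_iff]
      have : ∀ i < 7, ∃ k < 7, perm7 k = i := by decide +kernel
      obtain ⟨k, hk, rfl⟩ := this i hi
      exact (hcent k hk).symm.eq
    obtain ⟨h1, -, -⟩ := (hgen _).1 hmem
    have hbot := centralizer_eq_bot C D.sw (fun i hi => h1 (D.all i hi)) (h1 ⟨_, D.es⟩)
    rw [← Subgroup.mem_bot, ← hbot, Subgroup.mem_centralizer_iff]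
    exact fun y hy => Subgroup.mem_centralizer_singleton_iff.1 hy
  intro w hw
  have : w ∈ ChainS62.base.take 21 ∨ w = rep 9 [0, 1, 2, 3, 4, 5, 6] := by
    rw [← long_word]
    exact (show ∀ w ∈ ChainS62.base, w ∈ ChainS62.base.take 21 ∨ w = [0, 1, 2, 3, 4, 5, 6, 0, 1, 2, 3, 4, 5, 6,
      0, 1, 2, 3, 4, 5, 6, 0, 1, 2, 3, 4, 5, 6, 0, 1, 2, 3, 4, 5, 6, 0, 1, 2, 3, 4, 5, 6, 0, 1, 2, 3, 4, 5, 6,
      0, 1, 2, 3, 4, 5, 6, 0, 1, 2, 3, 4, 5, 6] by decide +kernel) w hw
  rcases this with h | rfl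
  · exact hcox w h
  · rw [← hω]
    show wprod g (rep 9 [0, 1, 2, 3, 4, 5, 6]) = wprod g7 cox7
    rw [cox7, wprod_rep, wprod_rep, hmap, show ([6, 3, 2, 1, 0, 4, 5] : List ℕ).map perm7 =
      [0, 1, 2, 3, 4, 5, 6] by decide]

/-- The copy of `Sp₆(2)` determined by the configuration and the local structure. -/
theorem exists_sp62 (C : Cfg el) {s m : G} (S : C.Sw s) (N : C.Neg s m)
    (hcomm : ∀ k < 24, ∀ l < 24, Commute (el (27 * k)) (s * el (27 * l) * s⁻¹))
    (L : Loc el s K E) (ψ : K ≃* Equiv.Perm (Fin 6)) {F : Type*} [Field F] [Fintype F]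
    (hF : Fintype.card F = 2) :
    ∃ x, x ∈ K ∧ x ∈ E ∧ x * x = 1 ∧ x ≠ 1 ∧
      Nonempty (Subgroup.closure (el '' {i | i < 648} ∪ {s, m, x}) ≃* Matrix.symplecticGroup (Fin 3) F) := by
  obtain ⟨f, n, hf, h0, h1, hx4, hs, hall, ⟨v, hv, hnm⟩, Nn, hout, hconj⟩ := exists_psp_neg C S N hcomm
  have D : Std C s f n := ⟨⟨hf, Nn.sq, hconj, hout⟩, S, h0, h1, hx4, hs, hall⟩
  obtain ⟨x, hxK, hxE, x2, x1, hco, h5⟩ := exists_seventh D L ψ
  refine ⟨x, hxK, hxE, x2, x1, ?_⟩
  obtain ⟨hinv, hb, hgen⟩ := g62_spec D x2 hco h5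
  set g := g62 f n x
  set H := Subgroup.closure (el '' {i | i < 648} ∪ {s, m, x})
  have he : ∀ i < 648, el i ∈ H := fun i hi => Subgroup.subset_closure (Or.inl ⟨i, hi, rfl⟩)
  have hsH : s ∈ H := Subgroup.subset_closure (Or.inr (by simp))
  have hnH : n ∈ H := by
    rw [hnm]
    exact mul_mem (Subgroup.subset_closure (Or.inr (by simp))) (he _ (chk_j.1 v hv))
  have hmem := (hgen H).2 ⟨D.range_le (fun k hk => he _ (by omega)) hsH (he 1 (by norm_num)), hnH,
    Subgroup.subset_closure (Or.inr (by simp))⟩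
  have hall7 : ∀ i, g i ∈ H := fun i => by
    by_cases hi : i < 7
    · exact hmem i hi
    · obtain ⟨k, rfl⟩ : ∃ k, i = k + 7 := ⟨i - 7, by omega⟩
      exact one_mem H
  let g' : ℕ → H := fun i => ⟨g i, hall7 i⟩
  have hle : H ≤ Subgroup.closure (g '' {i | i < 7}) := by
    obtain ⟨k1, k2, k3⟩ := (hgen (Subgroup.closure (g '' {i | i < 7}))).1
      fun i hi => Subgroup.subset_closure ⟨i, hi, rfl⟩
    rw [Subgroup.closure_le]
    rintro y (⟨i, hi, rfl⟩ | h | h | h)
    · exact k1 (hall i hi)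
    · exact h ▸ k1 ⟨_, hs⟩
    · rw [SetLike.mem_coe, h, show m = n * (el (vi v))⁻¹ by rw [hnm, mul_inv_cancel_right]]
      exact mul_mem k2 (inv_mem (k1 (hall _ (chk_j.1 v hv))))
    · exact (h : y = x) ▸ k3
  refine nonempty_iso_sp62 g' (fun i => Subtype.ext (hinv i)) (fun w hw => Subtype.ext ?_) ?_ ?_ hF
  · have := map_list_prod H.subtype (w.map g')
    rw [List.map_map] at this
    exact this.trans (hb w hw)
  · exact fun h => D.toExt.O_ne_one _ (congrArg Subtype.val h :)
  · refine Subgroup.map_injective H.subtype_injective ?_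
    rw [MonoidHom.map_closure, Set.image_image, ← MonoidHom.range_eq_map, Subgroup.range_subtype]
    exact le_antisymm ((Subgroup.closure_le _).2 fun _ ⟨i, _, e⟩ => e ▸ hall7 i) hle

end Cfsg.Agent.S3342Id.Seven
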