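import Cfsg.Agent.Lib.S3342CentZ.Card
import Cfsg.Agent.Lib.S3342Id.SixU
import Cfsg.Agent.Lib.S3342Id.Seventh

/-!
S3342: the core of order eight at the element of order three with complement isomorphic to the symmetric
group of degree six.
-/

set_option autoImplicit false
set_option maxRecDepth 20000
set_option synthInstance.maxSize 10000
set_option linter.style.haveILetI false
set_option linter.unusedSectionVars false

namespace Cfsg.Agent.S3342Id.Six

variable {G : Type*} [Group G] {K : Subgroup G} (ψ : K ≃* Equiv.Perm (Fin 6))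
include ψ

/-- An element has a number. -/
def HasNum (x : G) (i : ℕ) : Prop := ∃ hx : x ∈ K, i < 75 ∧ ∀ t, ψ ⟨x, hx⟩ t = pf i t

theorem exists_hasNum {x : G} (hx : x ∈ K) (x2 : x * x = 1) (x1 : x ≠ 1) : ∃ i, HasNum ψ x i :=
  let ⟨i, hi, h⟩ := exists_num ψ ⟨hx, x2, x1⟩
  ⟨i, hx, hi, h⟩

theorem hasNum_of_lt {i : ℕ} (hi : i < 75) : ∃ x, HasNum ψ x i ∧ x * x = 1 ∧ x ≠ 1 := by
  have hinv : ∀ t, pf i (pf i t) = t := (show ∀ i < 75, ∀ t, pf i (pf i t) = t by decide +kernel) i hi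
  obtain ⟨⟨x, hx⟩, hσ⟩ := ψ.surjective ⟨pf i, pf i, hinv, hinv⟩
  have hσ' : ∀ t, ψ ⟨x, hx⟩ t = pf i t := fun t => by rw [hσ]; rfl
  refine ⟨x, ⟨hx, hi, hσ'⟩, ?_, fun h => ?_⟩
  · have : (⟨x, hx⟩ : K) * ⟨x, hx⟩ = 1 := ψ.injective (Equiv.ext fun t => by
      rw [map_mul, map_one, Equiv.Perm.mul_apply, hσ', hσ', Equiv.Perm.one_apply, hinv])
    exact congrArg Subtype.val this
  · refine (show ∀ i < 75, ¬ ∀ t, pf i t = t by decide +kernel) i hi fun t => ?_
    rw [← hσ', show (⟨x, hx⟩ : K) = 1 from Subtype.ext h, map_one, Equiv.Perm.one_apply]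

variable {ψ}

theorem HasNum.eq {x y : G} {i : ℕ} (hx : HasNum ψ x i) (hy : HasNum ψ y i) : x = y :=
  num_eq_iff ψ hx.1 hy.1 hx.2.2 hy.2.2 rfl

theorem HasNum.num_eq {x : G} {i k : ℕ} (h1 : HasNum ψ x i) (h2 : HasNum ψ x k) : i = k := by
  refine (show ∀ i < 75, ∀ k < 75, (∀ t, pf i t = pf k t) → i = k by decide +kernel) i h1.2.1 k h2.2.1 fun t => ?_
  rw [← h1.2.2, ← h2.2.2]

theorem HasNum.co {x y : G} {i k : ℕ} (hx : HasNum ψ x i) (hy : HasNum ψ y k) :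
    Six.co i k = true ↔ Commute x y :=
  co_iff ψ hx.1 hy.1 hx.2.1 hy.2.1 hx.2.2 hy.2.2

theorem HasNum.conj {x y : G} {i k : ℕ} (hx : HasNum ψ x i) (hy : HasNum ψ y k) (x2 : x * x = 1) :
    HasNum ψ (x * y * x⁻¹) (cjn i k) := by
  have h := List.all_eq_true.1 (List.all_eq_true.1 cjn_ok i (List.mem_range.2 hx.2.1)) k (List.mem_range.2 hy.2.1)
  simp only [Bool.and_eq_true, Nat.blt_eq, decide_eq_true_eq] at h
  rw [inv_eq_of_mul_eq_one_right x2]
  refine ⟨mul_mem (mul_mem hx.1 hy.1) hx.1, h.1, fun t => ?_⟩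
  rw [show (⟨x * y * x, mul_mem (mul_mem hx.1 hy.1) hx.1⟩ : K) = ⟨x, hx.1⟩ * ⟨y, hy.1⟩ * ⟨x, hx.1⟩ from rfl,
    map_mul, map_mul, Equiv.Perm.mul_apply, Equiv.Perm.mul_apply, hx.2.2, hy.2.2, hx.2.2, h.2]

/-- An involution with two involutions in its centraliser whose product has order three. -/
structure Trip (K : Subgroup G) (z a b : G) : Prop where
  hz : z ∈ K ∧ z * z = 1 ∧ z ≠ 1
  ha : a ∈ K ∧ a * a = 1 ∧ a ≠ 1
  hb : b ∈ K ∧ b * b = 1 ∧ b ≠ 1
  za : Commute a z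
  zb : Commute b z
  br : Br a b

/-- The defining condition. -/
def InU (z a b u : G) : Prop := Commute u z ∧ Commute u (a * b * u * (a * b)⁻¹)

/-- The norm under the element of order three. -/
def nrmAB (a b u : G) : G :=
  u * (a * b * u * (a * b)⁻¹) * (a * b * (a * b) * u * (a * b * (a * b))⁻¹)

variable {z a b : G}

theorem Trip.nums (T : Trip K z a b) : ∃ i j k, HasNum ψ z i ∧ HasNum ψ a j ∧ HasNum ψ b k ∧
    j ∈ (List.range 75).filter (fun a => Six.co a i) ∧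
    k ∈ (List.range 75).filter (fun b => cfg i j b) := by
  obtain ⟨i, hi⟩ := exists_hasNum ψ T.hz.1 T.hz.2.1 T.hz.2.2
  obtain ⟨j, hj⟩ := exists_hasNum ψ T.ha.1 T.ha.2.1 T.ha.2.2
  obtain ⟨k, hk⟩ := exists_hasNum ψ T.hb.1 T.hb.2.1 T.hb.2.2
  have e1 : Six.co j i = true := (hj.co hi).2 T.za
  refine ⟨i, j, k, hi, hj, hk, List.mem_filter.2 ⟨List.mem_range.2 hj.2.1, e1⟩,
    List.mem_filter.2 ⟨List.mem_range.2 hk.2.1, ?_⟩⟩
  simp only [cfg, Bool.and_eq_true]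
  exact ⟨⟨e1, (hk.co hi).2 T.zb⟩, br_of_Br ψ hj.1 hk.1 hj.2.1 hk.2.1 hj.2.2 hk.2.2 T.br⟩

theorem tau_num {j k l : ℕ} {u : G} (hj : HasNum ψ a j) (hk : HasNum ψ b k) (hu : HasNum ψ u l)
    (a2 : a * a = 1) (b2 : b * b = 1) : HasNum ψ (a * b * u * (a * b)⁻¹) (tcj j k l) := by
  rw [show a * b * u * (a * b)⁻¹ = a * (b * u * b⁻¹) * a⁻¹ by group]
  exact hj.conj (hk.conj hu b2) a2

/-- The members of the subgroup. -/
theorem inU_iff (T : Trip K z a b) {i : ℕ} (hi : HasNum ψ z i) {u : G} {l : ℕ} (hu : HasNum ψ u l) :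
    InU z a b u ↔ l ∈ uz i := by
  obtain ⟨i', j, k, hi', hj, hk, hjm, hkm⟩ := T.nums (ψ := ψ)
  obtain rfl := hi'.num_eq hi
  have h := List.all_eq_true.1 (List.all_eq_true.1 (List.all_eq_true.1 uz_ok i' (List.mem_range.2 hi.2.1)) j hjm) k hkm
  simp only [Bool.and_eq_true, List.all_eq_true, List.mem_range, Bool.or_eq_true, Bool.not_eq_true',
    Bool.and_eq_false_iff, decide_eq_true_eq, List.contains_iff_mem] at h
  have ht := tau_num hj hk hu T.ha.2.1 T.hb.2.1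
  constructor
  · rintro ⟨h1, h2⟩
    rcases h.2 l hu.2.1 with (e | e) | e
    · rw [(hu.co hi).2 h1] at e; exact Bool.noConfusion e
    · rw [(hu.co ht).2 h2] at e; exact Bool.noConfusion e
    · exact e
  · intro hl
    obtain ⟨e1, e2⟩ := h.1.2 l hl
    exact ⟨(hu.co hi).1 e1, (hu.co ht).1 e2⟩

theorem inU_vz (T : Trip K z a b) {i : ℕ} (hi : HasNum ψ z i) {u : G} {l : ℕ} (hu : HasNum ψ u l)
    (hU : InU z a b u) (hn : nrmAB a b u = 1) : l ∈ vz i := by
  have hl := (inU_iff T hi hu).1 hU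
  obtain ⟨i', j, k, hi', hj, hk, hjm, hkm⟩ := T.nums (ψ := ψ)
  obtain rfl := hi'.num_eq hi
  have h := List.all_eq_true.1 (List.all_eq_true.1 (List.all_eq_true.1 vz_ok i' (List.mem_range.2 hi.2.1)) j hjm) k hkm
  simp only [Bool.and_eq_true, List.all_eq_true, Bool.or_eq_true, Bool.not_eq_true', decide_eq_false_iff_not,
    List.contains_iff_mem] at h
  rcases h.1 l hl with e | e
  · exfalso
    refine e fun x => ?_
    have ht := tau_num hj hk hu T.ha.2.1 T.hb.2.1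
    have ht2 := tau_num hj hk ht T.ha.2.1 T.hb.2.1
    have hn' : u * (a * b * u * (a * b)⁻¹) * (a * b * (a * b * u * (a * b)⁻¹) * (a * b)⁻¹) = 1 := by
      rw [← hn, nrmAB]; group
    have hK : (⟨u, hu.1⟩ : K) * ⟨_, ht.1⟩ * ⟨_, ht2.1⟩ = 1 := Subtype.ext hn'
    have := congrArg (fun σ : Equiv.Perm (Fin 6) => σ x) ((congrArg ψ hK).trans (map_one ψ))
    simpa only [map_mul, Equiv.Perm.mul_apply, hu.2.2, ht.2.2, ht2.2.2, Equiv.Perm.one_apply] using this
  · exact e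

/-- The sets of two neighbours are disjoint. -/
theorem vz_disjoint (T : Trip K z a b) {i j l : ℕ} (hi : HasNum ψ z i) (hj : HasNum ψ a j)
    (h1 : l ∈ vz i) (h2 : l ∈ vz j) : False := by
  obtain ⟨i', j', k, hi', hj', -, hjm, hkm⟩ := T.nums (ψ := ψ)
  obtain rfl := hi'.num_eq hi
  obtain rfl := hj'.num_eq hj
  have h := List.all_eq_true.1 (List.all_eq_true.1 (List.all_eq_true.1 vz_ok i' (List.mem_range.2 hi.2.1)) j' hjm) k hkm
  simp only [Bool.and_eq_true, List.all_eq_true, Bool.not_eq_true'] at h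
  have := h.2 l h1
  rw [List.contains_iff_mem.2 h2] at this
  exact Bool.noConfusion this

/-- The subgroup. -/
def coreU (T : Trip K z a b) (ψ : K ≃* Equiv.Perm (Fin 6)) : Subgroup G where
  carrier := {u | u = 1 ∨ ∃ i l, HasNum ψ z i ∧ HasNum ψ u l ∧ l ∈ uz i}
  one_mem' := Or.inl rfl
  mul_mem' := by
    rintro u v (rfl | ⟨i, l, hi, hu, hl⟩) hv
    · rwa [one_mul]
    rcases hv with rfl | ⟨i', k, hi', hv, hk⟩
    · rw [mul_one]; exact Or.inr ⟨i, l, hi, hu, hl⟩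
    obtain rfl := hi'.num_eq hi
    have h := List.all_eq_true.1 uz_mul i' (List.mem_range.2 hi.2.1)
    simp only [List.all_eq_true, Bool.and_eq_true, Bool.or_eq_true, List.any_eq_true, Nat.blt_eq,
      decide_eq_true_eq] at h
    rcases ((h l hl).2 k hk).2 with e | ⟨k', hk', e⟩
    · left
      obtain rfl := Nat.eq_of_beq_eq_true e
      rw [hu.eq hv]
      obtain ⟨x, hx, x2, -⟩ := hasNum_of_lt ψ hu.2.1
      rw [hv.eq hx, x2]
    · refine Or.inr ⟨i', k', hi', ⟨mul_mem hu.1 hv.1, (h k' hk').1, fun t => ?_⟩, hk'⟩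
      rw [show (⟨u * v, mul_mem hu.1 hv.1⟩ : K) = ⟨u, hu.1⟩ * ⟨v, hv.1⟩ from rfl, map_mul,
        Equiv.Perm.mul_apply, hv.2.2, hu.2.2, e]
  inv_mem' := by
    rintro u (rfl | ⟨i, l, hi, hu, hl⟩)
    · exact Or.inl inv_one
    · obtain ⟨x, hx, x2, -⟩ := hasNum_of_lt ψ hu.2.1
      right
      rw [hu.eq hx, inv_eq_of_mul_eq_one_right x2]
      exact ⟨i, l, hi, hx, hl⟩

theorem mem_coreU_iff (T : Trip K z a b) {u : G} :
    u ∈ coreU T ψ ↔ u = 1 ∨ u ∈ K ∧ u * u = 1 ∧ u ≠ 1 ∧ InU z a b u := by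
  constructor
  · rintro (rfl | ⟨i, l, hi, hu, hl⟩)
    · exact Or.inl rfl
    obtain ⟨x, hx, x2, x1⟩ := hasNum_of_lt ψ hu.2.1
    obtain rfl := hu.eq hx
    exact Or.inr ⟨hu.1, x2, x1, (inU_iff T hi hu).2 hl⟩
  · rintro (rfl | ⟨hK, u2, u1, hU⟩)
    · exact Or.inl rfl
    obtain ⟨i, hi⟩ := exists_hasNum ψ T.hz.1 T.hz.2.1 T.hz.2.2
    obtain ⟨l, hl⟩ := exists_hasNum ψ hK u2 u1
    exact Or.inr ⟨i, l, hi, hl, (inU_iff T hi hl).1 hU⟩

theorem card_coreU (T : Trip K z a b) : Nat.card (coreU T ψ) = 8 := by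
  classical
  obtain ⟨i, j, k, hi, -, -, hjm, hkm⟩ := T.nums (ψ := ψ)
  have h := List.all_eq_true.1 (List.all_eq_true.1 (List.all_eq_true.1 uz_ok i (List.mem_range.2 hi.2.1)) j hjm) k hkm
  simp only [Bool.and_eq_true, decide_eq_true_eq] at h
  obtain ⟨⟨⟨⟨h7, -⟩, hnd⟩, -⟩, -⟩ := h
  have hlt : ∀ l ∈ uz i, l < 75 := fun l hl => by
    have h := List.all_eq_true.1 uz_mul i (List.mem_range.2 hi.2.1)
    simp only [List.all_eq_true, Bool.and_eq_true, Nat.blt_eq] at h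
    exact (h l hl).1
  have he : ∀ l : {l // l ∈ uz i}, ∃ x, HasNum ψ x l.1 ∧ x * x = 1 ∧ x ≠ 1 := fun l => hasNum_of_lt ψ (hlt _ l.2)
  choose x hx hx2 hx1 using he
  let F : Option {l // l ∈ uz i} → coreU T ψ := fun o => match o with
    | none => 1
    | some l => ⟨x l, Or.inr ⟨i, l.1, hi, hx l, l.2⟩⟩
  have hF : Function.Bijective F := by
    constructor
    · rintro (_ | l) (_ | l') e
      · rfl
      · exact absurd (congrArg Subtype.val e).symm (hx1 l')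
      · exact absurd (congrArg Subtype.val e) (hx1 l)
      · have e' : x l = x l' := congrArg Subtype.val e
        exact congrArg some (Subtype.ext ((hx l).num_eq (e' ▸ hx l')))
    · rintro ⟨u, rfl | ⟨i', l, hi', hu, hl⟩⟩
      · exact ⟨none, rfl⟩
      · obtain rfl := hi'.num_eq hi
        exact ⟨some ⟨l, hl⟩, Subtype.ext ((hx _).eq hu)⟩
  rw [← Nat.card_congr (Equiv.ofBijective F hF),
    Nat.card_congr (Equiv.optionCongr (Equiv.subtypeEquivRight fun l => (List.mem_toFinset).symm)),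
    Finite.card_option, Nat.card_eq_finsetCard, List.toFinset_card_of_nodup hnd, Nat.eq_of_beq_eq_true h7]

theorem coreU_conj (T : Trip K z a b) {g : G} (hg : g ∈ K) (hgz : Commute g z) {u : G} (hu : u ∈ coreU T ψ) :
    g * u * g⁻¹ ∈ coreU T ψ := by
  obtain ⟨i, hi⟩ := exists_hasNum ψ T.hz.1 T.hz.2.1 T.hz.2.2
  have cz : g * z * g⁻¹ = z := by rw [hgz.eq, mul_inv_cancel_right]
  have cj : ∀ x, x ∈ K ∧ x * x = 1 ∧ x ≠ 1 → g * x * g⁻¹ ∈ K ∧ g * x * g⁻¹ * (g * x * g⁻¹) = 1 ∧ g * x * g⁻¹ ≠ 1 :=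
    fun x ⟨h1, h2, h3⟩ => ⟨mul_mem (mul_mem hg h1) (inv_mem hg), by
      rw [show g * x * g⁻¹ * (g * x * g⁻¹) = g * (x * x) * g⁻¹ by group, h2]; group,
      fun e => h3 (conj_eq_one_iff.1 e)⟩
  have T' : Trip K z (g * a * g⁻¹) (g * b * g⁻¹) :=
    ⟨T.hz, cj a T.ha, cj b T.hb, by have h := (Commute.conj_iff g).2 T.za; rwa [cz] at h,
      by have h := (Commute.conj_iff g).2 T.zb; rwa [cz] at h, Seven.br_conj T.br⟩
  rcases (mem_coreU_iff T).1 hu with rfl | ⟨hK, u2, u1, hU⟩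
  · rw [mul_one, mul_inv_cancel]; exact one_mem _
  obtain ⟨hK', u2', u1'⟩ := cj u ⟨hK, u2, u1⟩
  obtain ⟨l, hl⟩ := exists_hasNum ψ hK' u2' u1'
  refine Or.inr ⟨i, l, hi, hl, (inU_iff T' hi hl).1 ⟨?_, ?_⟩⟩
  · have h := (Commute.conj_iff g).2 hU.1
    rwa [cz] at h
  · have h := (Commute.conj_iff g).2 hU.2
    rwa [show g * (a * b * u * (a * b)⁻¹) * g⁻¹ = g * a * g⁻¹ * (g * b * g⁻¹) * (g * u * g⁻¹) *
      (g * a * g⁻¹ * (g * b * g⁻¹))⁻¹ by group] at h

end Cfsg.Agent.S3342Id.Six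

namespace Cfsg.Agent.S3342Id.Seven

open Cfsg.Agent.Hayden Cfsg.Agent.S3342CentZ
open Cfsg.Agent.ThreeTI.Grid (rep)

variable {G : Type*} [Group G] [Finite G] {el : ℕ → G}

theorem chk_core : T 81 63 = T 63 81 ∧ T 36 63 = T 63 36 ∧ T 36 81 = T 81 36 ∧ T (T 36 36) 36 = 0 ∧
    app swMap 10 = vneg 10 ∧ vi 10 = 36 ∧ vi 19 = 63 ∧ app swMap 19 = 19 := by decide +kernel

/-- The core at the element of order three, with the properties asked by the centraliser of the involution. -/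
theorem exists_core (C : Cfg el) {s m : G} (S : C.Sw s) (N : C.Neg s m) {K : Subgroup G}
    (comm : ∀ g ∈ K, Commute g (el 63)) (cov : ∀ g, Commute g (el 63) → ∃ i : ℕ, g * el 63 ^ i ∈ K)
    (ψ : K ≃* Equiv.Perm (Fin 6)) :
    ∃ E : Subgroup G, Core63 C S N E ∧ (∀ u ∈ E, u * u = 1) ∧ Nat.card (img el E) ≤ 4 ∧ Nat.card E = 8 ∧
      (∀ n : G, n * el 81 * n⁻¹ = s → n * el 36 * n⁻¹ = (el 1)⁻¹ → n * el 63 * n⁻¹ = (el 63)⁻¹ →
        ∀ d ∈ E, nrm el d = 1 → n * d * n⁻¹ ∈ E → nrm el (n * d * n⁻¹) = 1 → d = 1) := by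
  obtain ⟨c81, c36, c3681, c363, csw10, v10, v19, csw19⟩ := chk_core
  have jK : el 63 ∉ K := fun hj => by
    have h1 : ψ ⟨el 63, hj⟩ = 1 := perm_center fun τ => by
      obtain ⟨g, rfl⟩ := ψ.surjective τ
      exact Commute.map (show Commute (⟨el 63, hj⟩ : K) g from Subtype.ext (comm g g.2).eq.symm) ψ
    have h2 : el 63 = el 0 := by
      rw [C.el_zero]; exact congrArg Subtype.val (ψ.injective (h1.trans (map_one ψ).symm))
    exact absurd (C.inj _ (by norm_num) _ (by norm_num) h2) (by norm_num)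
  have invK : ∀ g, Commute g (el 63) → g * g = 1 → g ∈ K := by
    intro g hg g2
    obtain ⟨i, hi⟩ := cov g hg
    have h := mul_mem hi hi
    rw [← pow_two, (hg.pow_right i).mul_pow, pow_two g, g2, one_mul, ← pow_mul, pow_eq_pow_mod _ (j_cube C)] at h
    rw [pow_eq_pow_mod i (j_cube C)] at hi
    have : i % 3 < 3 := Nat.mod_lt _ (by norm_num)
    interval_cases hr : i % 3
    · simpa using hi
    · rw [show i * 2 % 3 = 2 by omega] at h
      refine absurd ?_ jK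
      have := pow_mem h 2
      rwa [← pow_mul, pow_eq_pow_mod _ (j_cube C), show 2 * 2 % 3 = 1 from rfl, pow_one] at this
    · rw [show i * 2 % 3 = 1 by omega, pow_one] at h
      exact absurd h jK
  have zj : Commute (el 81) (el 63) := (C.comm_iff (by norm_num) (by norm_num)).2 c81
  have pj : Commute (el 36) (el 63) := (C.comm_iff (by norm_num) (by norm_num)).2 c36
  have pz : Commute (el 36) (el 81) := (C.comm_iff (by norm_num) (by norm_num)).2 c3681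
  have sj : Commute s (el 63) := by
    have h := S.act 19 (by norm_num)
    rw [csw19, v19] at h
    exact mul_inv_eq_iff_eq_mul.1 h
  have si : s⁻¹ = s := inv_eq_of_mul_eq_one_right S.sq
  have sp : s * el 36 * s⁻¹ = (el 36)⁻¹ := by
    have h := S.act 10 (by norm_num)
    rwa [csw10, Cfg.orb_inv C (by norm_num), v10] at h
  have p3 : el 36 ^ 3 = 1 := by
    rw [pow_three', C.mul 36 (by norm_num) 36 (by norm_num), C.mul _ (T_lt (by norm_num) (by norm_num)) 36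
      (by norm_num), c363, C.el_zero]
  have p1 : el 36 ≠ 1 := fun h => absurd (C.inj 36 (by norm_num) 0 (by norm_num) (h.trans C.el_zero.symm)) (by norm_num)
  obtain ⟨b, hb⟩ : ∃ b, b = s * el 36 := ⟨_, rfl⟩
  have b2 : b * b = 1 := by
    calc b * b = s * el 36 * s⁻¹ * el 36 := by rw [hb, si, mul_assoc (s * el 36)]
      _ = 1 := by rw [sp, inv_mul_cancel]
  have sb : s * b = el 36 := by rw [hb, ← mul_assoc, S.sq, one_mul]
  have z1 : el 81 ≠ 1 := z_ne_one C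
  have s1 : s ≠ 1 := fun h => by
    rw [h, one_mul, inv_one, mul_one] at sp
    exact p1 (by
      calc el 36 = el 36 ^ 3 * (el 36 * el 36)⁻¹ := by rw [pow_three']; group
        _ = (el 36 * el 36)⁻¹ := by rw [p3, one_mul]
        _ = 1 := by
          conv_lhs => arg 1; arg 2; rw [sp]
          rw [mul_inv_cancel, inv_one])
  have b1 : b ≠ 1 := fun h => by
    have e : el 36 = s := by rw [← sb, h, mul_one]
    rw [e, si, S.sq, one_mul] at sp
    exact p1 (e.trans (by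
      calc s = s ^ 3 := by rw [pow_three, S.sq, mul_one]
        _ = 1 := by rw [← e, p3]))
  have bj : Commute b (el 63) := hb ▸ sj.mul_left pj
  have hbr : Six.Br s b := ⟨fun e => p1 (by rw [← sb, ← e, S.sq]), by rw [sb, ← pow_three', p3]⟩
  have Tz : Six.Trip K (el 81) s b :=
    ⟨⟨invK _ zj C.z_sq, C.z_sq, z1⟩, ⟨invK _ sj S.sq, S.sq, s1⟩, ⟨invK _ bj b2, b2, b1⟩, S.z,
      hb ▸ Commute.mul_left S.z pz, hbr⟩
  set E := Six.coreU Tz ψ with hE
  have hmem : ∀ {u}, u ∈ E ↔ u = 1 ∨ u ∈ K ∧ u * u = 1 ∧ u ≠ 1 ∧ Six.InU (el 81) s b u := fun {u} =>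
    Six.mem_coreU_iff Tz
  have E2 : ∀ u ∈ E, u * u = 1 := fun u hu => by
    rcases hmem.1 hu with rfl | h
    exacts [one_mul 1, h.2.1]
  have EK : ∀ u ∈ E, Commute u (el 63) ∧ Commute u (el 81) := fun u hu => by
    rcases hmem.1 hu with rfl | h
    exacts [⟨Commute.one_left _, Commute.one_left _⟩, ⟨comm u h.1, h.2.2.2.1⟩]
  have E8 : Nat.card E = 8 := Six.card_coreU Tz
  have zE : el 81 ∈ E := hmem.2 (Or.inr ⟨Tz.hz.1, C.z_sq, z1, Commute.refl _, by
    rw [sb, pz.eq, mul_inv_cancel_right]⟩)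
  have hkz : ∀ g, Commute g (el 81) → Commute g (el 63) → ∃ i : ℕ, g * el 63 ^ i ∈ K ∧ Commute (g * el 63 ^ i) (el 81) :=
    fun g hgz hgj => by
      obtain ⟨i, hi⟩ := cov g hgj
      exact ⟨i, hi, hgz.mul_left (zj.symm.pow_left i)⟩
  have hnor : ∀ g, Commute g (el 81) → Commute g (el 63) → ∀ u ∈ E, g * u * g⁻¹ ∈ E := by
    intro g hgz hgj u hu
    obtain ⟨i, hi, hiz⟩ := hkz g hgz hgj
    have h := Six.coreU_conj Tz hi hiz hu
    rwa [show g * el 63 ^ i * u * (g * el 63 ^ i)⁻¹ = g * (el 63 ^ i * u * (el 63 ^ i)⁻¹) * g⁻¹ by group,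
      ((EK u hu).1.pow_right i).symm.eq, mul_inv_cancel_right] at h
  -- the decomposition of the centraliser inside
  set D := K ⊓ Subgroup.centralizer ({el 81} : Set G) with hD
  have hD48 : Nat.card D ≤ 48 := by
    refine le_trans ?_ (card_cent_perm (σ := ψ ⟨el 81, Tz.hz.1⟩) ?_ fun h => z1 (congrArg Subtype.val
      (ψ.injective (h.trans (map_one ψ).symm) :)))
    · refine Nat.card_le_card_of_injective (fun d => ⟨ψ ⟨d.1, d.2.1⟩, Subgroup.mem_centralizer_singleton_iff.2 ?_⟩) ?_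
      · rw [← map_mul, ← map_mul]
        exact congrArg ψ (Subtype.ext (Subgroup.mem_centralizer_singleton_iff.1 d.2.2))
      · intro d d' h
        exact Subtype.ext (congrArg Subtype.val (ψ.injective (congrArg Subtype.val h)) :)
    · rw [← map_mul, show (⟨el 81, Tz.hz.1⟩ : K) * ⟨el 81, Tz.hz.1⟩ = 1 from Subtype.ext C.z_sq, map_one]
  have pK : el 36 ∈ K := sb ▸ mul_mem Tz.ha.1 Tz.hb.1
  have pD : el 36 ∈ D := ⟨pK, Subgroup.mem_centralizer_singleton_iff.2 pz.eq⟩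
  have sD : s ∈ D := ⟨Tz.ha.1, Subgroup.mem_centralizer_singleton_iff.2 S.z⟩
  let w : Fin 3 × Bool → G := fun x => el 36 ^ (x.1 : ℕ) * (if x.2 then s else 1)
  have pE : ∀ k : ℕ, el 36 ^ k ∈ E → el 36 ^ k = 1 := fun k hk => by
    have h2 := E2 _ hk
    calc el 36 ^ k = el 36 ^ k * (el 36 ^ k * el 36 ^ k) := by rw [h2, mul_one]
      _ = (el 36 ^ k) ^ 3 := (pow_three _).symm
      _ = 1 := by rw [← pow_mul, mul_comm, pow_mul, p3, one_pow]
  have sE : ∀ k : ℕ, el 36 ^ k * s ∉ E := fun k hk => by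
    have h1 := hnor (el 36) pz pj _ hk
    have h2 := mul_mem h1 (inv_mem hk)
    have e : el 36 * (el 36 ^ k * s) * (el 36)⁻¹ * (el 36 ^ k * s)⁻¹ = el 36 ^ 2 := by
      calc el 36 * (el 36 ^ k * s) * (el 36)⁻¹ * (el 36 ^ k * s)⁻¹
          = el 36 ^ k * el 36 * (s * el 36 * s⁻¹)⁻¹ * (el 36 ^ k)⁻¹ := by group
        _ = _ := by rw [sp, inv_inv]; group
    rw [e] at h2
    have h3 := pE 2 h2
    refine p1 ?_
    calc el 36 = el 36 ^ 2 * el 36 * (el 36 ^ 2)⁻¹ := by rw [h3]; group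
      _ = el 36 ^ 3 * (el 36 ^ 2)⁻¹ := by group
      _ = 1 := by rw [p3, h3, inv_one, mul_one]
  have hinj : ∀ x y, w x * (w y)⁻¹ ∈ E → x = y := by
    rintro ⟨i, a⟩ ⟨k, c⟩ h
    have hexp : ∀ j : ℕ, el 36 ^ ((i : ℕ) + 2 * k) = el 36 ^ (i : ℕ) * (el 36 ^ (k : ℕ))⁻¹ := fun _ => by
      rw [pow_add, eq_mul_inv_iff_mul_eq, mul_assoc, ← pow_add, show 2 * (k : ℕ) + k = 3 * k by ring, pow_mul, p3,
        one_pow, mul_one]
    have hsemi : ∀ j : ℕ, s * el 36 ^ j = (el 36 ^ j)⁻¹ * s := fun j => by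
      refine mul_inv_eq_iff_eq_mul.1 ?_
      rw [← conj_pow, sp, inv_pow]
    rcases a with _ | _ <;> rcases c with _ | _ <;> simp only [w, if_true, Bool.false_eq_true, if_false, mul_one] at h
    · rw [← hexp 0] at h
      have e := pE _ h
      rw [hexp 0, mul_inv_eq_one] at e
      rw [pow_inj_mod, orderOf_eq_prime (hp := ⟨Nat.prime_three⟩) p3 p1, Nat.mod_eq_of_lt i.2,
        Nat.mod_eq_of_lt k.2] at e
      rw [Fin.ext e]
    · exfalso
      rw [_root_.mul_inv_rev, si, ← inv_pow, ← mul_assoc, mul_assoc (el 36 ^ (i : ℕ)), inv_pow,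
        ← inv_inv (el 36 ^ (k : ℕ))] at h
      rw [inv_inv (el 36 ^ (k : ℕ))] at h
      have e : el 36 ^ (i : ℕ) * (s * (el 36 ^ (k : ℕ))⁻¹) = el 36 ^ ((i : ℕ) + k) * s := by
        rw [pow_add, mul_assoc, show s * (el 36 ^ (k : ℕ))⁻¹ = el 36 ^ (k : ℕ) * s by
          rw [eq_comm, eq_mul_inv_iff_mul_eq, mul_assoc, hsemi, mul_inv_cancel_left]]
      rw [e] at h
      exact sE _ h
    · exfalso
      rw [mul_assoc, show s * (el 36 ^ (k : ℕ))⁻¹ = el 36 ^ (k : ℕ) * s by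
        rw [eq_comm, eq_mul_inv_iff_mul_eq, mul_assoc, hsemi, mul_inv_cancel_left], ← mul_assoc, ← pow_add] at h
      exact sE _ h
    · rw [_root_.mul_inv_rev, mul_assoc, mul_inv_cancel_left, ← hexp 0] at h
      have e := pE _ h
      rw [hexp 0, mul_inv_eq_one] at e
      rw [pow_inj_mod, orderOf_eq_prime (hp := ⟨Nat.prime_three⟩) p3 p1, Nat.mod_eq_of_lt i.2,
        Nat.mod_eq_of_lt k.2] at e
      rw [Fin.ext e]
  have hED : ∀ u ∈ E, u ∈ D := fun u hu =>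
    ⟨invK u (EK u hu).1 (E2 u hu), Subgroup.mem_centralizer_singleton_iff.2 (EK u hu).2⟩
  have hwD : ∀ x, w x ∈ D := fun x => mul_mem (pow_mem pD _) (by split; exacts [sD, one_mem D])
  let F : E × (Fin 3 × Bool) → D := fun x => ⟨x.1 * w x.2, mul_mem (hED _ x.1.2) (hwD _)⟩
  have hF : Function.Surjective F := by
    refine (Nat.bijective_iff_injective_and_card F).2 ⟨?_, ?_⟩ |>.2
    · rintro ⟨u, x⟩ ⟨v, y⟩ h
      have h' : (u : G) * w x = (v : G) * w y := congrArg Subtype.val h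
      have hxy : x = y := hinj x y (by
        have : w x * (w y)⁻¹ = (u : G)⁻¹ * v := by
          rw [mul_inv_eq_iff_eq_mul, mul_assoc, ← h', inv_mul_cancel_left]
        rw [this]
        exact mul_mem (inv_mem u.2) v.2)
      subst hxy
      exact Prod.ext (Subtype.ext (mul_right_cancel h')) rfl
    · have hc : Nat.card (E × (Fin 3 × Bool)) = 48 := by
        rw [Nat.card_prod, E8, Nat.card_prod, Nat.card_fin, Nat.card_eq_fintype_card, Fintype.card_bool]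
      refine le_antisymm ?_ (hD48.trans_eq hc.symm)
      refine Nat.card_le_card_of_injective F ?_
      rintro ⟨u, x⟩ ⟨v, y⟩ h
      have h' : (u : G) * w x = (v : G) * w y := congrArg Subtype.val h
      have hxy : x = y := hinj x y (by
        have : w x * (w y)⁻¹ = (u : G)⁻¹ * v := by
          rw [mul_inv_eq_iff_eq_mul, mul_assoc, ← h', inv_mul_cancel_left]
        rw [this]
        exact mul_mem (inv_mem u.2) v.2)
      subst hxy
      exact Prod.ext (Subtype.ext (mul_right_cancel h')) rfl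
  refine ⟨E, ⟨fun u hu => ⟨(EK u hu).2, by rw [v19]; exact (EK u hu).1⟩, zE, ?_, ?_, ?_⟩, E2, ?_, E8, ?_⟩
  · intro g hgz hgj
    rw [v19] at hgj
    exact hnor g hgz hgj
  · rw [E8]; norm_num
  · intro g hgz hgj
    rw [v19] at hgj
    obtain ⟨i, hi, hiz⟩ := hkz g hgz hgj
    obtain ⟨⟨u, ⟨k, c⟩⟩, hu⟩ := hF ⟨_, hi, Subgroup.mem_centralizer_singleton_iff.2 hiz.eq⟩
    have hu' : (u : G) * w (k, c) = g * el 63 ^ i := congrArg Subtype.val hu
    obtain ⟨a36, a63, as, -, -⟩ := emb_el C S N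
    refine ⟨u, u.2, rep (1, 0) ^ (k : ℕ) * (if c then rep (2, 0) else 1) * (rep (0, 1) ^ i)⁻¹, ?_⟩
    rw [map_mul, map_mul, map_inv, map_pow, map_pow, a36, a63, apply_ite (emb C S N), as, map_one, ← mul_assoc,
      eq_mul_inv_iff_mul_eq, ← hu']
  · have hz : el 81 ∈ cz el := Subgroup.mem_centralizer_singleton_iff.2 rfl
    set H := E.subgroupOf (cz el) with hH
    have hH8 : Nat.card H = 8 := by
      rw [Nat.card_congr (Subgroup.subgroupOfEquivOfLe fun u hu =>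
        Subgroup.mem_centralizer_singleton_iff.2 (EK u hu).2).toEquiv, E8]
    set f := (QuotientGroup.mk' (zs el)).domRestrict H
    have hker : 2 ≤ Nat.card f.ker := by
      haveI : Nontrivial f.ker :=
        ⟨⟨1, one_mem _⟩, ⟨⟨⟨el 81, hz⟩, zE⟩, (QuotientGroup.eq_one_iff _).2 (Subgroup.mem_zpowers _)⟩, fun e =>
          z1 (congrArg (fun x : f.ker => ((x.1 : cz el) : G)) e).symm⟩
      exact Finite.one_lt_card
    have hr : f.range = img el E := by rw [img, MonoidHom.domRestrict_range]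
    have := f.ker.card_mul_index
    rw [Subgroup.index_ker, hr, hH8] at this
    have h2 := Nat.mul_le_mul_right (Nat.card (img el E)) hker
    omega
  · intro n hnz hnp hnj d hd hnd hd' hnd'
    by_contra d1
    rcases hmem.1 hd with e | ⟨dK, d2, -, dU⟩
    · exact d1 e
    rcases hmem.1 hd' with e | ⟨dK', d2', -, dU'⟩
    · exact d1 (conj_eq_one_iff.1 e)
    have hnK : ∀ y ∈ K, y * y = 1 → n * y * n⁻¹ ∈ K := fun y hy y2 => by
      refine invK _ ?_ (by rw [show n * y * n⁻¹ * (n * y * n⁻¹) = n * (y * y) * n⁻¹ by group, y2]; group)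
      have h := (Commute.conj_iff n).2 (comm y hy)
      rw [hnj] at h
      simpa using h.inv_right
    have cj : ∀ y, y ∈ K ∧ y * y = 1 ∧ y ≠ 1 → n * y * n⁻¹ ∈ K ∧ n * y * n⁻¹ * (n * y * n⁻¹) = 1 ∧ n * y * n⁻¹ ≠ 1 :=
      fun y ⟨h1, h2, h3⟩ => ⟨hnK y h1 h2, by
        rw [show n * y * n⁻¹ * (n * y * n⁻¹) = n * (y * y) * n⁻¹ by group, h2]; group,
        fun e => h3 (conj_eq_one_iff.1 e)⟩
    have Ts : Six.Trip K s (n * s * n⁻¹) (n * b * n⁻¹) :=
      ⟨Tz.ha, cj s Tz.ha, cj b Tz.hb, by have h := (Commute.conj_iff n).2 Tz.za; rwa [hnz] at h,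
        by have h := (Commute.conj_iff n).2 Tz.zb; rwa [hnz] at h, br_conj hbr⟩
    obtain ⟨i, hi⟩ := Six.exists_hasNum ψ Tz.hz.1 C.z_sq z1
    obtain ⟨k, hk⟩ := Six.exists_hasNum ψ Tz.ha.1 S.sq s1
    obtain ⟨l, hl⟩ := Six.exists_hasNum ψ dK' d2' fun e => d1 (conj_eq_one_iff.1 e)
    have hnrm : ∀ y, Six.nrmAB s b y = nrm el y := fun y => by rw [Six.nrmAB, sb]; rfl
    refine Six.vz_disjoint Tz hi hk (Six.inU_vz Tz hi hl dU' ((hnrm _).trans hnd'))
      (Six.inU_vz Ts hk hl ⟨?_, ?_⟩ ?_)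
    · have h := (Commute.conj_iff n).2 dU.1
      rwa [hnz] at h
    · have h := (Commute.conj_iff n).2 dU.2
      rwa [show n * (s * b * d * (s * b)⁻¹) * n⁻¹ = n * s * n⁻¹ * (n * b * n⁻¹) * (n * d * n⁻¹) *
        (n * s * n⁻¹ * (n * b * n⁻¹))⁻¹ by group] at h
    · calc Six.nrmAB (n * s * n⁻¹) (n * b * n⁻¹) (n * d * n⁻¹) = n * Six.nrmAB s b d * n⁻¹ := by
            simp only [Six.nrmAB]; group
        _ = 1 := by rw [hnrm, hnd]; group

end Cfsg.Agent.S3342Id.Seven
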