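import Cfsg.Agent.Lib.S3342Id.SpCheck
import Mathlib.GroupTheory.Sylow

/-!
S3342: subgroups of `Sp₆(2)` of order prime to three without conjugates of the central involution have
fewer than three hundred and fifteen elements.
-/

set_option autoImplicit false
set_option maxRecDepth 100000

namespace Cfsg.Agent.S3342Id.Closure.Big

open Cfsg.Agent.CosetCert Cfsg.Agent.S3342Id Cfsg.Agent.S3342Id.Closure Matrix

theorem rep_lE {g : ℕ} (hg : g < 8) : Rep (lE g) (lC g) := by
  have h := List.all_eq_true.1 code_ok.1 g (List.mem_range.2 hg)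
  simp only [Bool.and_eq_true, List.all_eq_true, Nat.blt_eq] at h
  exact Nat.eq_of_beq_eq_true h.1 ▸ rep_word h.2

theorem rep_rE {x : ℕ} (hx : x < 64) : Rep (rE x) (rC x) := by
  have h := List.all_eq_true.1 code_ok.2 x (List.mem_range.2 hx)
  simp only [Bool.and_eq_true, List.all_eq_true, Nat.blt_eq] at h
  exact Nat.eq_of_beq_eq_true h.1 ▸ rep_word h.2

theorem lE_mul {g h : ℕ} (hg : g < 8) (hh : h < 8) : gmul g h < 8 ∧ lE g * lE h = lE (gmul g h) := by
  have e := List.all_eq_true.1 (List.all_eq_true.1 mul_ok.1 g (List.mem_range.2 hg)) h (List.mem_range.2 hh)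
  simp only [Bool.and_eq_true, Nat.blt_eq] at e
  exact ⟨e.1, eq_of_code (rep_mul (rep_lE hg) (rep_lE hh)) (rep_lE e.1) (Nat.eq_of_beq_eq_true e.2)⟩

theorem rE_lE {g x : ℕ} (hg : g < 8) (hx : x < 64) : actX g x < 64 ∧ rE x * lE g = lE g * rE (actX g x) := by
  have e := List.all_eq_true.1 (List.all_eq_true.1 mul_ok.2.1 g (List.mem_range.2 hg)) x (List.mem_range.2 hx)
  simp only [Bool.and_eq_true, Nat.blt_eq] at e
  exact ⟨e.1, eq_of_code (rep_mul (rep_rE hx) (rep_lE hg)) (rep_mul (rep_lE hg) (rep_rE e.1))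
    (Nat.eq_of_beq_eq_true e.2)⟩

theorem rE_mul {x y : ℕ} (hx : x < 64) (hy : y < 64) : rE x * rE y = rE (x ^^^ y) := by
  have e := List.all_eq_true.1 (List.all_eq_true.1 xor_ok x (List.mem_range.2 hx)) y (List.mem_range.2 hy)
  exact eq_of_code (rep_mul (rep_rE hx) (rep_rE hy)) (rep_rE (xor_lt hx hy)) (Nat.eq_of_beq_eq_true e)

theorem lE_zero : lE 0 = 1 :=
  rep_inj (Nat.eq_of_beq_eq_true one_ok.2.1 ▸ rep_lE (by norm_num)) rep_one

theorem rE_zero : rE 0 = 1 :=
  rep_inj (Nat.eq_of_beq_eq_true one_ok.2.2.1 ▸ rep_rE (by norm_num)) rep_one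

theorem rE_inv {x : ℕ} (hx : x < 64) : (rE x)⁻¹ = rE x :=
  inv_eq_of_mul_eq_one_right (by rw [rE_mul hx hx, Nat.xor_self, rE_zero])

theorem eq_zero_of_prod {g x : ℕ} (hg : g < 8) (hx : x < 64) (h : lE g * rE x = 1) : g = 0 ∧ x = 0 := by
  have e := List.all_eq_true.1 one_ok.1 (64 * g + x) (List.mem_range.2 (by omega))
  simp only [Bool.or_eq_true, Bool.not_eq_true'] at e
  rcases e with e | e
  · have := Nat.eq_of_beq_eq_true e
    omega
  · exfalso
    have hc : sC (64 * g + x) = cmul (lC g) (rC x) := by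
      unfold sC
      rw [show (64 * g + x) / 64 = g by omega, show (64 * g + x) % 64 = x by omega]
    have hr : Rep 1 (sC (64 * g + x)) := by
      rw [hc]
      exact h ▸ rep_mul (rep_lE hg) (rep_rE hx)
    rw [rep_unique hr rep_one, Nat.beq_refl] at e
    exact Bool.noConfusion e

theorem prod_inj {g h x y : ℕ} (hg : g < 8) (hh : h < 8) (hx : x < 64) (hy : y < 64)
    (e : lE g * rE x = lE h * rE y) : g = h ∧ x = y := by
  obtain ⟨k, hk, hkg⟩ := List.any_eq_true.1 (List.all_eq_true.1 mul_ok.2.2 g (List.mem_range.2 hg))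
  have hk8 := List.mem_range.1 hk
  obtain ⟨-, h1⟩ := lE_mul hk8 hg
  rw [Nat.eq_of_beq_eq_true hkg, lE_zero] at h1
  obtain ⟨hl, h2⟩ := lE_mul hk8 hh
  have e' := congrArg (fun A => lE k * A * rE x) e
  simp only [mul_assoc, rE_mul hx hx, Nat.xor_self, rE_zero, mul_one, rE_mul hy hx] at e'
  rw [← mul_assoc, h1, h2] at e'
  obtain ⟨ea, eb⟩ := eq_zero_of_prod hl (xor_lt hy hx) e'.symm
  refine ⟨?_, ((Nat.xor_eq_zero_iff).1 eb).symm⟩
  rw [(Nat.xor_eq_zero_iff).1 eb] at e
  have e2 := mul_right_cancel e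
  by_contra hne
  have hkh : lE k * lE h = 1 := by rw [h2, ea, lE_zero]
  exact hne (by
    have hgh : lE g = lE h := e2
    have hrep : lC g = lC h := rep_unique (rep_lE hg) (hgh ▸ rep_lE hh)
    exact (by decide +kernel : ∀ a < 8, ∀ b < 8, lC a = lC b → a = b) g hg h hh hrep)

/-- The Sylow subgroup. -/
def SS : Subgroup Sp62 where
  carrier := {A | ∃ g < 8, ∃ x < 64, lE g * rE x = A}
  mul_mem' := by
    rintro _ _ ⟨g, hg, x, hx, rfl⟩ ⟨h, hh, y, hy, rfl⟩
    obtain ⟨h1, e1⟩ := lE_mul hg hh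
    obtain ⟨h2, e2⟩ := rE_lE hh hx
    refine ⟨_, h1, _, xor_lt h2 hy, ?_⟩
    rw [← e1, ← rE_mul h2 hy]
    calc lE g * lE h * (rE (actX h x) * rE y) = lE g * (lE h * rE (actX h x)) * rE y := by group
      _ = lE g * rE x * (lE h * rE y) := by rw [← e2]; group
  one_mem' := ⟨0, by norm_num, 0, by norm_num, by rw [lE_zero, rE_zero, mul_one]⟩
  inv_mem' := by
    rintro _ ⟨g, hg, x, hx, rfl⟩
    obtain ⟨k, hk, hkg⟩ := List.any_eq_true.1 (List.all_eq_true.1 mul_ok.2.2 g (List.mem_range.2 hg))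
    have hk8 := List.mem_range.1 hk
    obtain ⟨-, h1⟩ := lE_mul hk8 hg
    rw [Nat.eq_of_beq_eq_true hkg, lE_zero] at h1
    obtain ⟨h2, e2⟩ := rE_lE hk8 hx
    refine ⟨k, hk8, _, h2, ?_⟩
    rw [← e2, _root_.mul_inv_rev, rE_inv hx, ← eq_inv_of_mul_eq_one_left h1]

theorem card_SS : Nat.card SS = 512 := by
  have e : Fin 8 × Fin 64 ≃ SS := Equiv.ofBijective
    (fun p => ⟨lE p.1 * rE p.2, p.1, p.1.2, p.2, p.2.2, rfl⟩)
    ⟨fun p q h => by
      obtain ⟨h1, h2⟩ := prod_inj p.1.2 q.1.2 p.2.2 q.2.2 (congrArg Subtype.val h)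
      exact Prod.ext (Fin.ext h1) (Fin.ext h2),
      fun ⟨_, g, hg, x, hx, rfl⟩ => ⟨(⟨g, hg⟩, ⟨x, hx⟩), rfl⟩⟩
  rw [← Nat.card_congr e, Nat.card_prod, Nat.card_fin, Nat.card_fin]

/-- A two-subgroup has a conjugate in `SS`. -/
theorem exists_conj_SS {P : Subgroup Sp62} (h2 : IsPGroup 2 P) : ∃ m, ∀ x ∈ P, m * x * m⁻¹ ∈ SS := by
  haveI : Fact (Nat.Prime 2) := ⟨Nat.prime_two⟩
  have hidx : SS.index = 2835 := by
    have := SS.card_mul_index
    rw [card_SS, card_sp62] at this
    omega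
  set S := (IsPGroup.of_card (p := 2) (n := 9) (G := SS) card_SS).toSylow (by rw [hidx]; norm_num) with hS
  obtain ⟨T, hT⟩ := IsPGroup.exists_le_sylow h2
  obtain ⟨g, hg⟩ := MulAction.exists_smul_eq Sp62 T S
  refine ⟨g, fun x hx => ?_⟩
  have hx' : g * x * g⁻¹ ∈ ((g • T : Sylow 2 Sp62) : Subgroup Sp62) := by
    rw [Sylow.coe_subgroup_smul]
    exact Subgroup.smul_mem_pointwise_smul _ (MulAut.conj g) (T : Subgroup Sp62) (hT hx)
  rw [hg] at hx'
  exact hx'

/-- No conjugate of the central involution. -/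
def Free (U : Subgroup Sp62) : Prop := ∀ m, m * zb * m⁻¹ ∉ U

theorem rep_zb : Rep zb (wcd zw) := rep_word (by decide)

theorem code_conj (m : Sp62) : ∃ d ∈ SpData.cls, Rep (m * zb * m⁻¹) d := by
  have hm : m ∈ Subgroup.closure (tg '' {x | x < 7}) := closure_tg ▸ Subgroup.mem_top m
  suffices H : ∀ A : Sp62, (∃ d ∈ SpData.cls, Rep A d) → ∃ d ∈ SpData.cls, Rep (m * A * m⁻¹) d by
    exact H zb ⟨_, List.contains_iff_mem.1 cls_ok.2.1, rep_zb⟩
  have step : ∀ i < 7, ∀ B : Sp62, (∃ d ∈ SpData.cls, Rep B d) →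
      ∃ d ∈ SpData.cls, Rep (tg i * B * (tg i)⁻¹) d := by
    rintro i hi B ⟨d, hd, hr⟩
    have := List.all_eq_true.1 (List.all_eq_true.1 cls_ok.1 d hd) i (List.mem_range.2 hi)
    refine ⟨_, List.contains_iff_mem.1 this, ?_⟩
    rw [inv_eq_of_mul_eq_one_right (show tg i * tg i = 1 from tv_sq _)]
    have hw := rep_word (w := [i]) fun j hj => by rw [List.mem_singleton] at hj; omega
    rw [show tg i = wprod tg [i] by simp [wprod_cons, wprod_nil]]
    exact rep_mul (rep_mul hw hr) hw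
  induction hm using Subgroup.closure_induction_left with
  | one => intro A hA; simpa using hA
  | mul_left g hg m _ ih =>
    obtain ⟨i, hi, rfl⟩ := hg
    intro A hA
    rw [show tg i * m * A * (tg i * m)⁻¹ = tg i * (m * A * m⁻¹) * (tg i)⁻¹ by group]
    exact step i hi _ (ih A hA)
  | inv_mul_cancel g hg m _ ih =>
    obtain ⟨i, hi, rfl⟩ := hg
    intro A hA
    rw [inv_eq_of_mul_eq_one_right (show tg i * tg i = 1 from tv_sq _),
      show tg i * m * A * (tg i * m)⁻¹ = tg i * (m * A * m⁻¹) * (tg i)⁻¹ by group]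
    exact step i hi _ (ih A hA)

/-- The class is small. -/
theorem class_le : 4608 ≤ Nat.card (Subgroup.centralizer ({zb} : Set Sp62)) := by
  classical
  choose d hd hr using code_conj
  haveI := Fintype.ofFinite Sp62
  set C := Subgroup.centralizer ({zb} : Set Sp62)
  have hfib : ∀ c ∈ SpData.cls.toFinset, ((Finset.univ : Finset Sp62).filter fun m => d m = c).card ≤
      Nat.card C := by
    intro c _
    rcases ((Finset.univ : Finset Sp62).filter fun m => d m = c).eq_empty_or_nonempty with e | ⟨m0, hm0⟩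
    · simp [e]
    have hmem : ∀ m ∈ (Finset.univ : Finset Sp62).filter (fun m => d m = c), m0⁻¹ * m ∈ C := by
      intro m hm
      simp only [Finset.mem_filter] at hm hm0
      refine Subgroup.mem_centralizer_singleton_iff.2 ?_
      have e := eq_of_code (hr m) (hr m0) (hm.2.trans hm0.2.symm)
      calc m0⁻¹ * m * zb = m0⁻¹ * (m * zb * m⁻¹) * m := by group
        _ = zb * (m0⁻¹ * m) := by rw [e]; group
    rw [← Nat.card_eq_finsetCard]
    exact Nat.card_le_card_of_injective (fun m => (⟨_, hmem m m.2⟩ : C))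
      fun m m' h => Subtype.ext (mul_left_cancel (congrArg Subtype.val h))
  have h := Finset.card_le_mul_card_image_of_maps_to (s := (Finset.univ : Finset Sp62)) (f := d)
    (t := SpData.cls.toFinset) (fun m _ => List.mem_toFinset.2 (hd m)) _ hfib
  rw [Finset.card_univ, ← Nat.card_eq_fintype_card, card_sp62] at h
  have h315 := (SpData.cls.toFinset_card_le).trans (Nat.eq_of_beq_eq_true cls_ok.2.2).le
  have := h.trans (Nat.mul_le_mul_left _ h315)
  omega

/-- Every involution commutes with an element of order three. -/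
theorem exists_three {t : Sp62} (t2 : t * t = 1) (t1 : t ≠ 1) : ∃ f, orderOf f = 3 ∧ Commute f t := by
  haveI : Fact (Nat.Prime 2) := ⟨Nat.prime_two⟩
  haveI : Fact (Nat.Prime 3) := ⟨Nat.prime_three⟩
  obtain ⟨m, hmt⟩ := exists_conj_SS (P := Subgroup.zpowers t) (IsPGroup.of_card (n := 1) (by
      rw [Nat.card_zpowers, orderOf_eq_prime (by rw [sq, t2]) t1, pow_one]))
  obtain ⟨g, hg, x, hx, e⟩ := hmt t (Subgroup.mem_zpowers t)
  set i := 64 * g + x with hidef
  have hC : sC i = cmul (lC g) (rC x) := by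
    unfold sC
    rw [show i / 64 = g by omega, show i % 64 = x by omega]
  have hR : Rep (m * t * m⁻¹) (sC i) := by rw [hC, ← e]; exact rep_mul (rep_lE hg) (rep_rE hx)
  have hi := List.all_eq_true.1 wit_ok.1 i (List.mem_range.2 (by omega))
  simp only [Bool.or_eq_true, Bool.not_eq_true', List.any_eq_true] at hi
  rcases hi with (h | h) | ⟨p, hp, hpi⟩
  · refine absurd ?_ t1
    have := Nat.eq_of_beq_eq_true h
    obtain ⟨rfl, rfl⟩ : g = 0 ∧ x = 0 := by omega
    rw [lE_zero, rE_zero, mul_one] at e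
    exact conj_eq_one_iff.1 e.symm
  · have h2 := rep_mul hR hR
    rw [show m * t * m⁻¹ * (m * t * m⁻¹) = m * (t * t) * m⁻¹ by group, t2, mul_one, mul_inv_cancel] at h2
    rw [rep_unique h2 rep_one, Nat.beq_refl] at h
    exact Bool.noConfusion h
  have hq := List.all_eq_true.1 wit_ok.2 p hp
  simp only [Bool.and_eq_true, List.all_eq_true, Nat.blt_eq, Bool.not_eq_true'] at hq
  obtain ⟨h7, ⟨hne, h3⟩, hc⟩ := hq
  have hr := rep_word h7
  set q := wprod tg p.2
  have q3 : q ^ 3 = 1 := by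
    rw [pow_three]
    exact eq_of_code (rep_mul hr (rep_mul hr hr)) rep_one (Nat.eq_of_beq_eq_true h3)
  have q1 : q ≠ 1 := fun h => by
    have hr' : Rep 1 (wcd p.2) := h ▸ hr
    rw [rep_unique hr' rep_one, Nat.beq_refl] at hne
    exact Bool.noConfusion hne
  rw [Nat.eq_of_beq_eq_true hpi] at hc
  have hqc : Commute q (m * t * m⁻¹) :=
    eq_of_code (rep_mul hr hR) (rep_mul hR hr) (Nat.eq_of_beq_eq_true hc)
  refine ⟨m⁻¹ * q * m, ?_, ?_⟩
  · rw [show m⁻¹ * q * m = MulAut.conj m⁻¹ q by simp [MulAut.conj_apply]]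
    rw [MulEquiv.orderOf_eq, orderOf_eq_prime q3 q1]
  · simpa [mul_assoc] using (Commute.conj_iff m⁻¹).2 hqc

/-- A free subgroup of the Sylow subgroup has at most thirty-two elements. -/
theorem card_le_thirty_two {P : Subgroup Sp62} (hP : P ≤ SS) (hF : Free P) : Nat.card P ≤ 32 := by
  classical
  set V := (Finset.range 64).filter fun x => rE x ∈ P with hVdef
  have hV : ∀ {x}, x ∈ V ↔ x < 64 ∧ rE x ∈ P := fun {x} => by simp [hVdef]
  have hxor : ∀ x ∈ V, ∀ y ∈ V, x ^^^ y ∈ V := fun x hx y hy => by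
    obtain ⟨hx1, hx2⟩ := hV.1 hx
    obtain ⟨hy1, hy2⟩ := hV.1 hy
    exact hV.2 ⟨xor_lt hx1 hy1, rE_mul hx1 hy1 ▸ mul_mem hx2 hy2⟩
  have hmod : ∀ x ∈ V, ∀ y ∈ V, x % 8 = y % 8 → x = y := by
    intro x hx y hy e
    by_contra hne
    obtain ⟨hz1, hz2⟩ := hV.1 (hxor x hx y hy)
    have hz8 : (x ^^^ y) % 8 = 0 := by
      rw [show (8 : ℕ) = 2 ^ 3 by norm_num, Nat.xor_mod_two_pow, show (2 : ℕ) ^ 3 = 8 by norm_num, e,
        Nat.xor_self]
    set k := (x ^^^ y) / 8 with hk
    have hk8 : k < 8 := by omega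
    have hk0 : k ≠ 0 := fun h => hne ((Nat.xor_eq_zero_iff).1 (by omega))
    have hc := List.all_eq_true.1 conjs_ok k (List.mem_range.2 hk8)
    simp only [Bool.or_eq_true, List.any_eq_true, Bool.and_eq_true, List.all_eq_true, Nat.blt_eq] at hc
    rcases hc with h | ⟨p, -, ⟨⟨h1, h7⟩, h2⟩⟩
    · exact hk0 (Nat.eq_of_beq_eq_true h)
    have h8 : p.1 = x ^^^ y := (Nat.eq_of_beq_eq_true h1).trans (by omega)
    rw [h8] at h2
    refine hF (wprod tg p.2) ?_
    have e' := eq_of_code (rep_mul (rep_rE hz1) (rep_word h7)) (rep_mul (rep_word h7) rep_zb)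
      (Nat.eq_of_beq_eq_true h2)
    rwa [← e', mul_inv_cancel_right]
  have hVc : V.card ≤ 8 := by
    rw [← Finset.card_range 8]
    exact Finset.card_le_card_of_injOn (fun x => x % 8)
      (fun x _ => Finset.mem_coe.2 (Finset.mem_range.2 (Nat.mod_lt _ (by norm_num))))
      fun x hx y hy e => hmod x hx y hy e
  haveI := Fintype.ofFinite P
  have hdec : ∀ u : P, ∃ g x, g < 8 ∧ x < 64 ∧ lE g * rE x = (u : Sp62) := fun u => by
    obtain ⟨g, hg, x, hx, e⟩ := hP u.2
    exact ⟨g, x, hg, hx, e⟩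
  choose gg xx hg hx he using hdec
  have hfib : ∀ g ∈ Finset.range 8, ((Finset.univ : Finset P).filter fun u => gg u = g).card ≤ V.card := by
    intro g _
    rcases ((Finset.univ : Finset P).filter fun u => gg u = g).eq_empty_or_nonempty with e | ⟨u0, hu0⟩
    · simp [e]
    simp only [Finset.mem_filter] at hu0
    refine Finset.card_le_card_of_injOn (fun u => xx u0 ^^^ xx u) (fun u hu => ?_) ?_
    · simp only [Finset.mem_coe, Finset.mem_filter] at hu ⊢
      refine hV.2 ⟨xor_lt (hx _) (hx _), ?_⟩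
      have h1 := mul_mem (inv_mem u0.2) u.2
      rwa [← he u0, ← he u, hu.2, hu0.2, _root_.mul_inv_rev, rE_inv (hx _), mul_assoc, inv_mul_cancel_left,
        rE_mul (hx _) (hx _)] at h1
    · intro u hu v hv e
      simp only [Finset.mem_coe, Finset.mem_filter] at hu hv
      refine Subtype.ext ?_
      rw [← he u, ← he v, hu.2, hv.2, Nat.xor_right_inj.1 e]
  have hsum := Finset.card_eq_sum_card_fiberwise (s := (Finset.univ : Finset P)) (f := gg)
    (t := Finset.range 8) (fun u _ => Finset.mem_coe.2 (Finset.mem_range.2 (hg u)))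
  rw [Finset.card_univ, ← Nat.card_eq_fintype_card] at hsum
  have h64 : Nat.card P ≤ 64 := by
    rw [hsum]
    calc _ ≤ ∑ _g ∈ Finset.range 8, V.card := Finset.sum_le_sum hfib
      _ ≤ 64 := by rw [Finset.sum_const, Finset.card_range, smul_eq_mul]; omega
  have hd := Subgroup.card_dvd_of_le hP
  rw [card_SS, show 512 = 2 ^ 9 by norm_num] at hd
  obtain ⟨k, hk, hkc⟩ := (Nat.dvd_prime_pow Nat.prime_two).1 hd
  by_contra h32
  have hcard : Nat.card P = 64 := by
    rw [hkc] at h32 h64 ⊢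
    interval_cases k <;> simp_all
  -- every fibre is inhabited and the kernel is a complement
  have hV8 : V.card = 8 := by
    by_contra hne
    have : Nat.card P ≤ 56 := by
      rw [hsum]
      calc _ ≤ ∑ _g ∈ Finset.range 8, V.card := Finset.sum_le_sum hfib
        _ ≤ 56 := by rw [Finset.sum_const, Finset.card_range, smul_eq_mul]; omega
    omega
  have hfull : ∀ g < 8, ∃ u : P, gg u = g := by
    intro g hg8
    by_contra hno
    have hlt : ∑ g ∈ Finset.range 8, ((Finset.univ : Finset P).filter fun u => gg u = g).card <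
        ∑ _g ∈ Finset.range 8, V.card := by
      refine Finset.sum_lt_sum hfib ⟨g, Finset.mem_range.2 hg8, ?_⟩
      rw [Finset.filter_eq_empty_iff.2 fun u _ h => hno ⟨u, h⟩, Finset.card_empty]
      omega
    rw [← hsum, Finset.sum_const, Finset.card_range, smul_eq_mul, hV8] at hlt
    omega
  have hsurj : ∀ d < 8, ∃ v ∈ V, v % 8 = d := by
    intro d hd8
    have h := Finset.surj_on_of_inj_on_of_card_le (s := V) (t := Finset.range 8) (fun x _ => x % 8)
      (fun x _ => Finset.mem_range.2 (Nat.mod_lt _ (by norm_num))) (fun x y hx hy e => hmod x hx y hy e)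
      (by rw [Finset.card_range, hV8]) d (Finset.mem_range.2 hd8)
    obtain ⟨v, hv, e⟩ := h
    exact ⟨v, hv, e.symm⟩
  obtain ⟨v1, hv1, e1⟩ := hsurj 1 (by norm_num)
  obtain ⟨v2, hv2, e2⟩ := hsurj 2 (by norm_num)
  obtain ⟨v4, hv4, e4⟩ := hsurj 4 (by norm_num)
  obtain ⟨v0, hv0, -⟩ := hsurj 0 (by norm_num)
  set s := v1 / 8 + 8 * (v2 / 8) + 64 * (v4 / 8) with hs
  have hb1 := (hV.1 hv1).1
  have hb2 := (hV.1 hv2).1
  have hb4 := (hV.1 hv4).1
  have hzero : 0 ∈ V := by simpa using hxor v0 hv0 v0 hv0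
  have hvx : ∀ d, vx s d ∈ V := by
    intro d
    unfold vx
    rw [show 1 + 8 * (s % 8) = v1 by omega, show 2 + 8 * (s / 8 % 8) = v2 by omega,
      show 4 + 8 * (s / 64 % 8) = v4 by omega]
    split <;> split <;> split <;>
      exact hxor _ (hxor _ (by assumption) _ (by assumption)) _ (by assumption)
  have hs512 : s < 512 := by omega
  have hc := List.all_eq_true.1 compl_ok.1 s (List.mem_range.2 hs512)
  simp only [List.any_eq_true, List.mem_range, Bool.not_eq_true'] at hc
  obtain ⟨g, hg8, d, hd8, hbad⟩ := hc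
  obtain ⟨hv64, hvP⟩ := hV.1 (hvx d)
  obtain ⟨ha64, hact⟩ := rE_lE hg8 hv64
  obtain ⟨u, hu⟩ := hfull g hg8
  have hyV : actX g (vx s d) ∈ V := by
    refine hV.2 ⟨ha64, ?_⟩
    have h1 := mul_mem (mul_mem (inv_mem u.2) hvP) u.2
    rw [← he u, hu, _root_.mul_inv_rev, rE_inv (hx u),
      show rE (xx u) * (lE g)⁻¹ * rE (vx s d) * (lE g * rE (xx u)) =
        rE (xx u) * (lE g)⁻¹ * (rE (vx s d) * lE g) * rE (xx u) by group, hact,
      show rE (xx u) * (lE g)⁻¹ * (lE g * rE (actX g (vx s d))) * rE (xx u) =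
        rE (xx u) * rE (actX g (vx s d)) * rE (xx u) by group,
      rE_mul (hx u) ha64, rE_mul (xor_lt (hx u) ha64) (hx u), Nat.xor_comm (xx u), Nat.xor_assoc,
      Nat.xor_self, Nat.xor_zero] at h1
    exact h1
  have hm := List.all_eq_true.1 (List.all_eq_true.1 compl_ok.2 s (List.mem_range.2 hs512))
    (actX g (vx s d) % 8) (List.mem_range.2 (Nat.mod_lt _ (by norm_num)))
  simp only [Bool.and_eq_true] at hm
  rw [hmod _ (hvx _) _ hyV (Nat.eq_of_beq_eq_true hm.2), Nat.beq_refl] at hbad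
  exact Bool.noConfusion hbad

theorem dvd_thirty_five {c : ℕ} (hd : c ∣ 1451520) (h3 : ¬ 3 ∣ c) (hge : 315 ≤ c)
    (h32 : 2 ^ c.factorization 2 ≤ 32) :
    35 ∣ c ∧ c ∣ 1120 := by
  have hord := Nat.ordProj_mul_ordCompl_eq_self c 2
  have hcop := Nat.not_dvd_ordCompl Nat.prime_two (show c ≠ 0 by omega)
  generalize c / 2 ^ c.factorization 2 = q at hord hcop
  have hqd : q ∣ 35 := by
    have h1 : q ∣ 2 ^ 9 * (3 ^ 4 * 35) := (Dvd.intro_left _ hord).trans (by norm_num; exact hd)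
    have h2 : q ∣ 3 ^ 4 * 35 :=
      (((Nat.Prime.coprime_iff_not_dvd Nat.prime_two).2 hcop).symm.pow_right 9).dvd_of_dvd_mul_left h1
    exact (((Nat.Prime.coprime_iff_not_dvd Nat.prime_three).2
      fun h => h3 (h.trans (Dvd.intro_left _ hord))).symm.pow_right 4).dvd_of_dvd_mul_left h2
  have hfac : c.factorization 2 ≤ 5 :=
    (Nat.pow_le_pow_iff_right (le_refl 2)).1 (le_of_le_of_eq h32 (by norm_num))
  generalize c.factorization 2 = k at hord h32 hfac
  have hq35 : q = 35 := by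
    have hq : q ≤ 35 := Nat.le_of_dvd (by norm_num) hqd
    by_contra hne
    have : q ≤ 7 := by interval_cases q <;> omega
    have := Nat.mul_le_mul h32 this
    omega
  subst hq35
  refine ⟨Dvd.intro_left _ hord, hord ▸ ?_⟩
  rw [show 1120 = 2 ^ 5 * 35 by norm_num]
  exact Nat.mul_dvd_mul_right (Nat.pow_dvd_pow 2 hfac) 35

/-- A subgroup of order prime to three free of the class has fewer than `315` elements. -/
theorem card_lt {U : Subgroup Sp62} (h3 : ¬ 3 ∣ Nat.card U) (hF : Free U) : Nat.card U < 315 := by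
  classical
  by_contra hge
  haveI : Fact (Nat.Prime 2) := ⟨Nat.prime_two⟩
  haveI : Fact (Nat.Prime 5) := ⟨by norm_num⟩
  haveI : Fact (Nat.Prime 7) := ⟨by norm_num⟩
  obtain ⟨T⟩ := (inferInstance : Nonempty (Sylow 2 U))
  set P := (T : Subgroup U).map U.subtype with hPdef
  have hPU : P ≤ U := Subgroup.map_subtype_le _
  have hPc : Nat.card P = 2 ^ (Nat.card U).factorization 2 :=
    (Nat.card_congr ((T : Subgroup U).equivMapOfInjective _ U.subtype_injective).toEquiv).symm.trans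
      T.card_eq_multiplicity
  obtain ⟨m, hmP⟩ := exists_conj_SS (IsPGroup.of_card hPc)
  set P' := P.map (MulAut.conj m).toMonoidHom with hP'def
  have hP'W : P' ≤ SS := by
    rintro _ ⟨x, hx, rfl⟩
    exact hmP x hx
  have hP'F : Free P' := by
    rintro c ⟨x, hx, e⟩
    refine hF (m⁻¹ * c) ?_
    have : x = m⁻¹ * c * zb * (m⁻¹ * c)⁻¹ := by
      calc x = m⁻¹ * ((MulAut.conj m).toMonoidHom x) * m := by
            show x = m⁻¹ * (m * x * m⁻¹) * m
            group
        _ = _ := by rw [e]; group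
    exact this ▸ hPU hx
  have hP'c : Nat.card P' = 2 ^ (Nat.card U).factorization 2 :=
    (Nat.card_congr (P.equivMapOfInjective _ (MulAut.conj m).injective).toEquiv).symm.trans hPc
  obtain ⟨h35, h1120⟩ := dvd_thirty_five (card_sp62 ▸ Subgroup.card_subgroup_dvd_card U) h3
    (not_lt.1 hge) (hP'c ▸ card_le_thirty_two hP'W hP'F)
  obtain ⟨S⟩ := (inferInstance : Nonempty (Sylow 7 U))
  have hSc : Nat.card (S : Subgroup U) = 7 := by
    rw [S.card_eq_multiplicity]
    have h1 : (Nat.card U).factorization 7 ≤ 1 := by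
      by_contra h
      have h49 : 7 ^ 2 ∣ Nat.card U :=
        (Nat.pow_dvd_pow 7 (by omega)).trans (Nat.ordProj_dvd (Nat.card U) 7)
      have := h49.trans h1120
      norm_num at this
    have h0 : 0 < (Nat.card U).factorization 7 :=
      (Nat.Prime.dvd_iff_one_le_factorization (by norm_num) (Nat.card_pos (α := U)).ne').1
        (dvd_trans (by norm_num) h35)
    rw [show (Nat.card U).factorization 7 = 1 by omega, pow_one]
  set N := Subgroup.normalizer ((S : Subgroup U) : Set U) with hN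
  have hn7 : Nat.card (Sylow 7 U) ∈ [1, 8] := by
    have h1 : Nat.card (Sylow 7 U) ∣ 160 := by
      refine S.card_dvd_index.trans ?_
      have := (S : Subgroup U).card_mul_index
      rw [hSc] at this
      have h7 : 7 * (S : Subgroup U).index ∣ 7 * 160 := this ▸ h1120
      exact (Nat.mul_dvd_mul_iff_left (show 0 < 7 by norm_num)).1 h7
    have hm : Nat.card (Sylow 7 U) % 7 = 1 := card_sylow_modEq_one 7 U
    have hle := Nat.le_of_dvd (by norm_num) h1
    generalize Nat.card (Sylow 7 U) = n at h1 hm hle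
    have key : ∀ n ≤ 160, n ∣ 160 → n % 7 = 1 → n ∈ [1, 8] := by decide +kernel
    exact key n hle h1 hm
  have h5N : 5 ∣ Nat.card N := by
    have h1 := N.card_mul_index
    rw [show N.index = Nat.card (Sylow 7 U) from (Sylow.card_eq_index_normalizer S).symm] at h1
    have h5 : 5 ∣ Nat.card N * Nat.card (Sylow 7 U) := by rw [h1]; exact dvd_trans (by norm_num) h35
    rcases (Nat.Prime.dvd_mul (by norm_num)).1 h5 with h | h
    · exact h
    · simp only [List.mem_cons, List.not_mem_nil, or_false] at hn7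
      rcases hn7 with e | e <;> rw [e] at h <;> norm_num at h
  obtain ⟨g, hg⟩ := exists_prime_orderOf_dvd_card' (G := N) 5 h5N
  obtain ⟨f, hf⟩ := exists_prime_orderOf_dvd_card' (G := ↥(S : Subgroup U)) 7 (by rw [hSc])
  have hff : orderOf (f : U) = 7 := by rw [Subgroup.orderOf_coe, hf]
  have hgg : orderOf (g : U) = 5 := by rw [Subgroup.orderOf_coe, hg]
  have hgen : Subgroup.zpowers (f : U) = S :=
    Subgroup.eq_of_le_of_card_ge (Subgroup.zpowers_le.2 f.2) (by rw [Nat.card_zpowers, hff, hSc])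
  obtain ⟨k, hk7, hk⟩ : ∃ k < 7, (f : U) ^ k = g * f * (g : U)⁻¹ := by
    have hmem : (g : U) * f * (g : U)⁻¹ ∈ Subgroup.zpowers (f : U) := by
      rw [hgen]
      exact (Subgroup.mem_normalizer_iff.1 g.2 f).1 f.2
    have h := (mem_zpowers_iff_mem_range_orderOf (x := (f : U))).1 hmem
    simpa [hff] using h
  have hpow : ∀ i, (g : U) ^ i * f * ((g : U) ^ i)⁻¹ = (f : U) ^ (k ^ i) := by
    intro i
    induction i with
    | zero => simp
    | succ i ih =>
      rw [pow_succ', show (g : U) * (g : U) ^ i * f * ((g : U) * (g : U) ^ i)⁻¹ =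
        g * ((g : U) ^ i * f * ((g : U) ^ i)⁻¹) * (g : U)⁻¹ by group, ih, ← conj_pow, ← hk, ← pow_mul, pow_succ']
  have h5 := hpow 5
  rw [show (g : U) ^ 5 = 1 by rw [← hgg, pow_orderOf_eq_one], one_mul, inv_one, mul_one] at h5
  have hmod : k ^ 5 % 7 = 1 := by
    have := h5.symm
    conv_rhs at this => rw [← pow_one (f : U)]
    rw [pow_eq_pow_iff_modEq, hff] at this
    exact this
  have hk1 : k = 1 := by interval_cases k <;> first | rfl | norm_num at hmod
  rw [hk1, pow_one] at hk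
  refine no_thirty_five (f := ((g : U) : Sp62)) (g := ((f : U) : Sp62))
    (by rw [Subgroup.orderOf_coe, hgg]) (by rw [Subgroup.orderOf_coe, hff]) ?_
  exact (show Commute (g : U) (f : U) from eq_mul_inv_iff_mul_eq.1 hk |>.symm).map U.subtype

end Cfsg.Agent.S3342Id.Closure.Big
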