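import Cfsg.Agent.Lib.S3342Id.Top
import Cfsg.Agent.Lib.S3342Id.SpBound

/-!
S3342: the closure of the configuration generating `Sp₆(2)`.
-/

set_option autoImplicit false
set_option maxRecDepth 20000
set_option synthInstance.maxSize 10000
set_option linter.style.haveILetI false

namespace Cfsg.Agent.S3342Id.Closure

open Cfsg.Agent.Hayden Cfsg.Agent.Hayden.Cfg Cfsg.Agent.CosetCert Cfsg.Agent.S3342Id Cfsg.Agent.S3342Id.Seven
open Matrix

/-- The word of the element of order three. -/
def w63 : List ℕ :=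
  let u := wordOf (steps.getD 0 [])
  let s := wordOf (steps.getD 3 [])
  s ++ (u ++ u) ++ s ++ (u ++ u)

theorem w63_six : (w63.all fun i => six.contains i) = true := by decide +kernel

theorem w63_code : Nat.beq (wcd w63) (wcd [0, 1]) = true := by decide +kernel

/-- The first two transvection vectors. -/
def pairBase : (Fin 3 ⊕ Fin 3 → ZMod 2) × (Fin 3 ⊕ Fin 3 → ZMod 2) := (sv (vc 0), sv (vc 1))

/-- Codes of the pairs with form one. -/
def pairList : List ℕ := (List.range 4096).filter fun p => bc (p / 64) (p % 64)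

theorem pairList_length : Nat.beq pairList.length 2016 = true := by decide +kernel

theorem pair_moved : bc (vc 0) (vc 1) = true ∧ wc [0, 1] (vc 0) ≠ vc 0 ∧ wc [0, 1, 0, 1] (vc 0) ≠ vc 0 ∧
    Nat.beq (cmul (wcd [0, 1]) (cmul (wcd [0, 1]) (wcd [0, 1]))) c1 = true := by decide +kernel

/-- A product of two non-commuting transvections has a large centraliser. -/
theorem cent_pair : 2160 ≤ Nat.card (Subgroup.centralizer ({tg 0 * tg 1} : Set Sp62)) := by
  classical
  obtain ⟨hbc, hm1, hm2, h3⟩ := pair_moved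
  set f₀ := tg 0 * tg 1 with hf0
  set C := Subgroup.centralizer ({f₀} : Set Sp62)
  have hw : f₀ = wprod tg [0, 1] := by rw [hf0]; simp [wprod_cons, wprod_nil]
  have f3 : f₀ ^ 3 = 1 := by
    rw [pow_three, hw]
    exact eq_of_code (rep_mul (rep_word (by decide)) (rep_mul (rep_word (by decide)) (rep_word (by decide))))
      rep_one (Nat.eq_of_beq_eq_true h3)
  have key : ∀ A : Sp62, ∃ p ∈ pairList, A.1 *ᵥ pairBase.1 = sv (p / 64) ∧ A.1 *ᵥ pairBase.2 = sv (p % 64) := by
    intro A
    obtain ⟨a, ha, e1⟩ := sv_cover (A.1 *ᵥ pairBase.1)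
    obtain ⟨b, hb, e2⟩ := sv_cover (A.1 *ᵥ pairBase.2)
    refine ⟨64 * a + b, List.mem_filter.2 ⟨List.mem_range.2 (by omega), ?_⟩, ?_⟩
    · rw [show (64 * a + b) / 64 = a by omega, show (64 * a + b) % 64 = b by omega]
      have h := form_act A pairBase.1 pairBase.2
      rw [← e1, ← e2, bc_form' a ha b hb, show pairBase = (sv (vc 0), sv (vc 1)) from rfl,
        bc_form' _ (by decide) _ (by decide), hbc] at h
      revert h
      cases bc a b <;> decide
    · rw [show (64 * a + b) / 64 = a by omega, show (64 * a + b) % 64 = b by omega]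
      exact ⟨e1.symm, e2.symm⟩
  choose p hp hp1 hp2 using key
  haveI := Fintype.ofFinite Sp62
  have hfib : ∀ q ∈ pairList.toFinset, ((Finset.univ : Finset Sp62).filter fun A => p A = q).card * 3 ≤
      Nat.card C := by
    intro q _
    rcases ((Finset.univ : Finset Sp62).filter fun A => p A = q).eq_empty_or_nonempty with e | ⟨A₀, hA₀⟩
    · simp [e]
    simp only [Finset.mem_filter] at hA₀
    have hfix : ∀ A ∈ (Finset.univ : Finset Sp62).filter (fun A => p A = q),
        (A₀⁻¹ * A).1 *ᵥ pairBase.1 = pairBase.1 ∧ (A₀⁻¹ * A).1 *ᵥ pairBase.2 = pairBase.2 := by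
      intro A hA
      simp only [Finset.mem_filter] at hA
      constructor
      · rw [act_mul, hp1 A, hA.2, ← hA₀.2, ← hp1 A₀, ← act_mul, inv_mul_cancel, act_one]
      · rw [act_mul, hp2 A, hA.2, ← hA₀.2, ← hp2 A₀, ← act_mul, inv_mul_cancel, act_one]
    have hcomm : ∀ B : Sp62, B.1 *ᵥ pairBase.1 = pairBase.1 → B.1 *ᵥ pairBase.2 = pairBase.2 → Commute B f₀ := by
      intro B h1 h2
      refine Commute.mul_right ?_ ?_
      · have := conj_tv B pairBase.1
        rw [h1] at this
        exact this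
      · have := conj_tv B pairBase.2
        rw [h2] at this
        exact this
    have hfree : ∀ i < 3, (f₀ ^ i).1 *ᵥ pairBase.1 = pairBase.1 → i = 0 := by
      intro i hi h
      interval_cases i
      · rfl
      · exfalso
        rw [pow_one, hw, show pairBase.1 = sv (vc 0) from rfl, (sv_wc _ (by decide) _ (by decide)).1] at h
        exact hm1 (sv_inj _ (sv_wc _ (by decide) _ (by decide)).2 _ (by decide) h)
      · exfalso
        rw [pow_two, hw, ← wprod_append, show pairBase.1 = sv (vc 0) from rfl,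
          (sv_wc _ (by decide) _ (by decide)).1] at h
        exact hm2 (sv_inj _ (sv_wc _ (by decide) _ (by decide)).2 _ (by decide) h)
    let F : ↥((Finset.univ : Finset Sp62).filter fun A => p A = q) × Fin 3 → C := fun x =>
      ⟨f₀ ^ (x.2 : ℕ) * (A₀⁻¹ * x.1.1), mul_mem (pow_mem (Subgroup.mem_centralizer_singleton_iff.2 rfl) _)
        (Subgroup.mem_centralizer_singleton_iff.2 (hcomm _ (hfix _ x.1.2).1 (hfix _ x.1.2).2).eq)⟩
    have hF : Function.Injective F := by
      rintro ⟨a, i⟩ ⟨b, j⟩ h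
      have h' : f₀ ^ (i : ℕ) * (A₀⁻¹ * a.1) = f₀ ^ (j : ℕ) * (A₀⁻¹ * b.1) := congrArg Subtype.val h
      have hu := congrArg (fun B : Sp62 => (f₀ ^ (3 - (j : ℕ)) * B).1 *ᵥ pairBase.1) h'
      simp only [← mul_assoc, ← pow_add] at hu
      rw [show 3 - (j : ℕ) + j = 3 by omega, f3, one_mul, mul_assoc, act_mul, (hfix _ a.2).1,
        (hfix _ b.2).1, pow_eq_pow_mod _ f3] at hu
      have h0 := hfree _ (Nat.mod_lt _ (by norm_num)) hu
      have hij : i = j := Fin.ext (by omega)
      subst hij
      exact Prod.ext (Subtype.ext (mul_left_cancel (mul_left_cancel h'))) rfl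
    have := Nat.card_le_card_of_injective F hF
    rwa [Nat.card_prod, Nat.card_eq_finsetCard, Nat.card_fin] at this
  have hsum := Finset.card_eq_sum_card_fiberwise (s := (Finset.univ : Finset Sp62)) (f := p)
    (t := pairList.toFinset) (fun A _ => Finset.mem_coe.2 (List.mem_toFinset.2 (hp A)))
  have h1 : Nat.card Sp62 * 3 ≤ 2016 * Nat.card C := by
    rw [Nat.card_eq_fintype_card, ← Finset.card_univ, hsum, Finset.sum_mul]
    refine (Finset.sum_le_card_nsmul _ _ _ hfib).trans ?_
    rw [smul_eq_mul]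
    exact Nat.mul_le_mul_right _
      ((pairList.toFinset_card_le).trans (Nat.eq_of_beq_eq_true pairList_length).le)
  rw [card_sp62] at h1
  omega
where
  bc_form' : ∀ x < 64, ∀ y < 64, Cfsg.sympForm 3 (ZMod 2) (sv x) (sv y) = if bc x y then 1 else 0 := bc_form

theorem zb_sq : Big.zb * Big.zb = 1 := z0_sq

variable {G : Type*} [Group G] [Finite G] {el : ℕ → G} (C : Cfg el) {s m : G} {K E : Subgroup G}
include C

/-- The type of eight, large core: the symplectic group of dimension six over two elements. -/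
theorem nonempty_sp62_big (S : C.Sw s) (N : C.Neg s m) (hO : ∀ v < 27, C.Orb v ↔ v ∈ O8)
    (hcomm : ∀ k < 24, ∀ l < 24, Commute (el (27 * k)) (s * el (27 * l) * s⁻¹))
    (L : Loc el s K E) (ψ : K ≃* Equiv.Perm (Fin 6))
    (hcz : Nat.card (Subgroup.centralizer ({el 81} : Set G)) ≤ 4608)
    (h10 : cg el 10 ≤ Subgroup.normalizer (C.VJ : Set G))
    {F : Type*} [Field F] [Fintype F] (hF : Fintype.card F = 2) :
    Nonempty (G ≃* Matrix.symplecticGroup (Fin 3) F) := by
  obtain ⟨f, n, hf, h0, h1, hx4, hs, hall, ⟨v, hv, hnm⟩, Nn, hout, hconj⟩ := exists_psp_neg C S N hcomm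
  have D : Std C s f n := ⟨⟨hf, Nn.sq, hconj, hout⟩, S, h0, h1, hx4, hs, hall⟩
  obtain ⟨x, -, -, x2, -, hco, h5⟩ := exists_seventh D L ψ
  obtain ⟨hinv, hb, hgen⟩ := g62_spec D x2 hco h5
  obtain ⟨φ, hφg⟩ := exists_hom_sp62 (g62 f n x) hinv hb
  have hφ : Function.Injective φ := by
    rw [← MonoidHom.ker_eq_bot_iff]
    haveI := isSimpleGroup_sp62
    rcases IsSimpleGroup.eq_bot_or_eq_top_of_normal φ.ker inferInstance with h | h
    · exact h
    · refine absurd ?_ (D.toExt.O_ne_one (rc 1))
      have e : φ (tg 0) = 1 := (h ▸ Subgroup.mem_top (tg 0) : tg 0 ∈ φ.ker)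
      rw [hφg 0 (by norm_num)] at e
      exact e
  have hval : ∀ w : List ℕ, (∀ i ∈ w, i ∈ six) → φ (wprod tg w) = wprod (g6 f n) w := by
    intro w hw
    induction w with
    | nil => exact map_one φ
    | cons i w ih =>
      rw [wprod_cons, wprod_cons, map_mul, ih fun j hj => hw j (List.mem_cons_of_mem _ hj)]
      congr 1
      have hi := hw i List.mem_cons_self
      rw [hφg i (six_lt i hi)]
      fin_cases hi <;> rfl
  have hstep : ∀ k < 4, wprod (g6 f n) (wordOf (steps.getD k [])) = [el 27, el 243, el 1, s].getD k 1 :=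
    fun k hk => by
      obtain ⟨hm, hP⟩ := D.base.last_get hk
      rw [← P_last D.toExt _ hm, hP]
  have hzG : φ Big.zb = el 81 := by
    rw [show Big.zb = wprod tg w81 from rfl, hval _ w81_six, ← words_chk.2, wprod_append, hstep 1 (by norm_num)]
    show el 243 * el 243 = el 81
    rw [C.mul 243 (by norm_num) 243 (by norm_num), Seven.chk_named.2.2.2.1]
  have hj : φ (tg 0 * tg 1) = el 63 := by
    have e : (tg 0 * tg 1 : Sp62) = wprod tg w63 := by
      rw [show tg 0 * tg 1 = wprod tg [0, 1] by simp [wprod_cons, wprod_nil]]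
      exact eq_of_code (rep_word (by decide)) (rep_word fun i hi => six_lt i
        (List.contains_iff_mem.1 (List.all_eq_true.1 w63_six i hi))) (Nat.eq_of_beq_eq_true w63_code).symm
    rw [e, hval _ fun i hi => List.contains_iff_mem.1 (List.all_eq_true.1 w63_six i hi), w63]
    simp only [wprod_append, hstep 0 (by norm_num), hstep 3 (by norm_num)]
    show s * (el 27 * el 27) * s * (el 27 * el 27) = el 63
    obtain ⟨k1, k2, k3, -, -, k4⟩ := Seven.chk_named
    have e54 : el 27 * el 27 = el 54 := by rw [C.mul 27 (by norm_num) 27 (by norm_num), k4]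
    have e9 : s * el 54 * s = el 9 := by
      have h := S.act 18 (by norm_num)
      rw [k1, k2, inv_eq_of_mul_eq_one_right S.sq] at h
      exact h
    rw [e54, e9, C.mul 9 (by norm_num) 54 (by norm_num), k3]
  let φ' : (⊤ : Subgroup Sp62) →* G := φ.comp (⊤ : Subgroup Sp62).subtype
  have hφ' : Function.Injective φ' := hφ.comp (Subgroup.subtype_injective _)
  have hrange : φ'.range = φ.range := by
    ext y
    exact ⟨fun ⟨a, e⟩ => ⟨_, e⟩, fun ⟨a, e⟩ => ⟨⟨a, trivial⟩, e⟩⟩
  obtain ⟨hLM, hnM, hxM⟩ := (hgen φ.range).1 fun i hi => ⟨tg i, hφg i hi⟩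
  have hM : ∀ i < 648, el i ∈ φ'.range := fun i hi => hrange ▸ hLM (hall i hi)
  have hsM : s ∈ φ'.range := hrange ▸ hLM ⟨_, hs⟩
  have hmM : m ∈ φ'.range := by
    rw [hrange, show m = n * (el (vi v))⁻¹ by rw [hnm, mul_inv_cancel_right]]
    exact mul_mem hnM (inv_mem (hLM (hall _ (chk_j.1 v hv))))
  have hOM : ∀ v < 27, C.Orb v → ∃ h ∈ φ'.range, h * el 9 * h⁻¹ = el (vi v) := fun v hv ho =>
    orb_eight C S N hM hsM hmM v ((hO v hv).1 ho)
  have hN := norm_le C hM hOM
  have hMc : Nat.card φ'.range = 1451520 := by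
    rw [← Nat.card_congr (MonoidHom.ofInjective hφ').toEquiv, Subgroup.card_top, card_sp62]
  -- the centraliser of the element of order three
  have h19 : cg el 19 ≤ φ'.range := by
    set Cj := Subgroup.centralizer ({tg 0 * tg 1} : Set Sp62)
    have h63 : vi 19 = 63 := by decide +kernel
    have hle : Cj.map φ ≤ cg el 19 := by
      rintro _ ⟨a, ha, rfl⟩
      refine Subgroup.mem_centralizer_singleton_iff.2 ?_
      rw [h63, ← hj, ← map_mul, ← map_mul, Subgroup.mem_centralizer_singleton_iff.1 ha]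
    have hsmall : Nat.card (cg el 19) ≤ 2160 := by
      have hK : Nat.card K = 720 := by
        rw [Nat.card_congr ψ.toEquiv, Nat.card_perm, Nat.card_fin]; rfl
      have hmem : ∀ k : K, ∀ i : ℕ, (k : G) * (el 63 ^ i)⁻¹ ∈ cg el 19 := fun k i => by
        refine Subgroup.mem_centralizer_singleton_iff.2 ?_
        rw [h63]
        exact ((L.comm k k.2).mul_left ((Commute.refl (el 63)).pow_left i).inv_left).eq
      have := Nat.card_le_card_of_surjective
        (fun x : K × Fin 3 => (⟨_, hmem x.1 x.2⟩ : cg el 19)) fun g => by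
          have hg : Commute (g : G) (el 63) := by
            have := Subgroup.mem_centralizer_singleton_iff.1 g.2
            rwa [h63] at this
          obtain ⟨i, hi⟩ := L.cov g hg
          refine ⟨(⟨_, hi⟩, ⟨i % 3, Nat.mod_lt _ (by norm_num)⟩), Subtype.ext ?_⟩
          show (g : G) * el 63 ^ i * (el 63 ^ (i % 3))⁻¹ = g
          rw [← pow_eq_pow_mod i (j_cube C), mul_inv_cancel_right]
      rwa [Nat.card_prod, hK, Nat.card_fin] at this
    rw [← Subgroup.eq_of_le_of_card_ge hle (by
      rw [Subgroup.card_map_of_injective hφ]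
      exact hsmall.trans cent_pair)]
    rintro _ ⟨a, -, rfl⟩
    exact hrange ▸ ⟨a, rfl⟩
  have htop : φ'.range = ⊤ := by
    refine top_of_hom φ' hφ' (Subgroup.mem_top Big.zb) zb_sq z0_ne hzG ?_ ?_ ?_
      (controls C S hM hsM hOM (h10.trans hN) h19 (by rw [hMc]; norm_num))
    · rw [top_inf_eq]
      exact hcz.trans Big.class_le
    · intro t _ t2 t1
      obtain ⟨y, hy, hc⟩ := Big.exists_three t2 t1
      exact ⟨y, trivial, hy, hc⟩
    · intro U _ hU3 hUf
      have h315 := Big.card_lt hU3 fun a => hUf a trivial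
      calc Nat.card (Subgroup.centralizer ({el 81} : Set G)) * Nat.card U ≤ 4608 * 314 :=
            Nat.mul_le_mul hcz (by omega)
        _ < Nat.card (⊤ : Subgroup Sp62) := by rw [Subgroup.card_top, card_sp62]; norm_num
  have hsurj : Function.Surjective φ := MonoidHom.range_eq_top.1 (hrange ▸ htop)
  exact ⟨(MulEquiv.ofBijective φ ⟨hφ, hsurj⟩).symm.trans (sp62Congr (ZMod.ringEquivOfPrime F Nat.prime_two hF))⟩

end Cfsg.Agent.S3342Id.Closure
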