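import Mathlib

/-!
S3342: an involution fixing exactly one point of a coset space gives a large two-point stabiliser.
-/

set_option autoImplicit false

namespace Cfsg.Agent.S3342Id.Closure

variable {G : Type*} [Group G] [Finite G]

/-- The two-point stabiliser. -/
def inter (M : Subgroup G) (g : G) : Subgroup G := M ⊓ M.map (MulAut.conj g).toMonoidHom

omit [Finite G] in
theorem mem_inter {M : Subgroup G} {g u : G} : u ∈ inter M g ↔ u ∈ M ∧ g⁻¹ * u * g ∈ M := by
  rw [inter, Subgroup.mem_inf]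
  refine and_congr_right fun _ => ⟨?_, fun h => ⟨_, h, by
    show g * (g⁻¹ * u * g) * g⁻¹ = u
    group⟩⟩
  rintro ⟨m, hm, rfl⟩
  show g⁻¹ * (g * m * g⁻¹) * g ∈ M
  rwa [show g⁻¹ * (g * m * g⁻¹) * g = m by group]

omit [Finite G] in
/-- An element of order three and an involution whose centraliser is inside control fusion. -/
theorem unique_point {M : Subgroup G} {z : G} (hC : Subgroup.centralizer ({z} : Set G) ≤ M)
    (h3 : ∀ f ∈ M, orderOf f = 3 → ∀ g, g * f * g⁻¹ ∈ M → g ∈ M)
    (hinv : ∀ t ∈ M, t * t = 1 → t ≠ 1 → ∃ f ∈ M, orderOf f = 3 ∧ Commute f t)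
    (z2 : z * z = 1) (z1 : z ≠ 1) {g : G} (h : g * z * g⁻¹ ∈ M) : g ∈ M := by
  obtain ⟨f, hf, hf3, hfc⟩ := hinv _ h (by
    rw [show g * z * g⁻¹ * (g * z * g⁻¹) = g * (z * z) * g⁻¹ by group, z2]
    group) fun e => z1 (conj_eq_one_iff.1 e)
  have hc : g⁻¹ * f * g ∈ M := hC (Subgroup.mem_centralizer_singleton_iff.2 (by
    have := (Commute.conj_iff g⁻¹).2 hfc
    rw [inv_inv, show g⁻¹ * (g * z * g⁻¹) * g = z by group] at this
    exact this.eq))
  exact inv_mem_iff.1 (h3 f hf hf3 g⁻¹ (by rwa [inv_inv]))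

/-- Counting swapped pairs. -/
theorem exists_big_inter {M : Subgroup G} (hM : M ≠ ⊤) {z : G} (z2 : z * z = 1)
    (huniq : ∀ g, g * z * g⁻¹ ∈ M → g ∈ M) :
    ∃ g ∉ M, Nat.card M ≤ Nat.card (Subgroup.centralizer ({z} : Set G)) * Nat.card (inter M g) ∧
      (∀ u ∈ inter M g, ∀ m ∈ M, u ≠ m * z * m⁻¹) := by
  classical
  haveI := Fintype.ofFinite G
  let Z := MulAction.orbit (ConjAct G) z
  haveI := Fintype.ofFinite Z
  haveI := Fintype.ofFinite (G ⧸ M)
  have hfix : ∀ (g x : G), (g * z * g⁻¹) • (x : G ⧸ M) = x → (g : G ⧸ M) = x := by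
    intro g x h
    rw [MulAction.Quotient.smul_coe, smul_eq_mul, QuotientGroup.eq] at h
    have h' : x⁻¹ * g * z * (x⁻¹ * g)⁻¹ ∈ M := by
      rw [show x⁻¹ * g * z * (x⁻¹ * g)⁻¹ = ((g * z * g⁻¹ * x)⁻¹ * x)⁻¹ by group]
      exact inv_mem h
    rw [QuotientGroup.eq]
    have := inv_mem (huniq _ h')
    simpa using this
  have hinvol : ∀ t : Z, (t : G) * t = 1 := fun t => by
    obtain ⟨c, hc⟩ := t.2
    rw [← hc]
    show ConjAct.ofConjAct c * z * (ConjAct.ofConjAct c)⁻¹ * (ConjAct.ofConjAct c * z * (ConjAct.ofConjAct c)⁻¹) = 1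
    rw [show ∀ y : G, y * z * y⁻¹ * (y * z * y⁻¹) = y * (z * z) * y⁻¹ from fun y => by group, z2]
    group
  set s : Finset (Z × (G ⧸ M)) := Finset.univ.filter fun p => (p.1 : G) • p.2 ≠ p.2
  set P : Finset ((G ⧸ M) × (G ⧸ M)) := Finset.univ.filter fun p => p.1 ≠ p.2
  have hN : 1 < Fintype.card (G ⧸ M) := by
    rw [← Nat.card_eq_fintype_card]
    exact Subgroup.one_lt_index_of_ne_top hM
  have hscard : Fintype.card Z * (Fintype.card (G ⧸ M) - 1) ≤ s.card := by
    have hsub : (Finset.univ : Finset Z).sigma (fun t => Finset.univ.filter fun α : G ⧸ M => (t : G) • α ≠ α) =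
        s.map (Equiv.sigmaEquivProd Z (G ⧸ M)).symm.toEmbedding := by
      ext ⟨t, α⟩
      simp [s]
    rw [← Finset.card_map (Equiv.sigmaEquivProd Z (G ⧸ M)).symm.toEmbedding, ← hsub, Finset.card_sigma]
    refine le_trans (le_of_eq ?_) (Finset.card_nsmul_le_sum _ _ (Fintype.card (G ⧸ M) - 1) fun t _ => ?_)
    · simp
    obtain ⟨c, hc⟩ := t.2
    have : (Finset.univ.filter fun α : G ⧸ M => ¬ (t : G) • α ≠ α) ⊆ {((ConjAct.ofConjAct c : G) : G ⧸ M)} := by
      intro α hα
      simp only [Finset.mem_filter, Finset.mem_univ, true_and, not_not] at hα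
      induction α using QuotientGroup.induction_on with | _ x => ?_
      rw [Finset.mem_singleton]
      rw [← hc] at hα
      exact (hfix _ _ hα).symm
    have h1 := Finset.card_le_card this
    rw [Finset.card_singleton] at h1
    have h2 := Finset.card_filter_add_card_filter_not (s := (Finset.univ : Finset (G ⧸ M)))
      (p := fun α => (t : G) • α ≠ α)
    rw [Finset.card_univ] at h2
    omega
  have hPcard : P.card = Fintype.card (G ⧸ M) * (Fintype.card (G ⧸ M) - 1) := by
    have : P = Finset.univ.offDiag := by ext ⟨a, b⟩; simp [P]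
    rw [this, Finset.offDiag_card, Finset.card_univ, Nat.mul_sub, mul_one]
  have hPne : P.Nonempty := by
    rw [← Finset.card_pos, hPcard]
    exact Nat.mul_pos (by omega) (by omega)
  obtain ⟨⟨α, β⟩, hp, hbig⟩ : ∃ p ∈ P, Fintype.card Z ≤
      Fintype.card (G ⧸ M) * (s.filter fun q => (q.2, (q.1 : G) • q.2) = p).card := by
    by_contra hcon
    push Not at hcon
    have hsum : s.card = ∑ p ∈ P, (s.filter fun q => (q.2, (q.1 : G) • q.2) = p).card :=
      Finset.card_eq_sum_card_fiberwise fun q hq => by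
        simp only [Finset.mem_coe, Finset.mem_filter, s, P, Finset.mem_univ, true_and] at hq ⊢
        exact fun e => hq e.symm
    have : Fintype.card (G ⧸ M) * s.card < P.card * Fintype.card Z := by
      rw [hsum, Finset.mul_sum, ← smul_eq_mul P.card]
      calc ∑ p ∈ P, Fintype.card (G ⧸ M) * (s.filter fun q => (q.2, (q.1 : G) • q.2) = p).card
          < ∑ _p ∈ P, Fintype.card Z := Finset.sum_lt_sum_of_nonempty hPne hcon
        _ = _ := Finset.sum_const _
    rw [hPcard, mul_assoc] at this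
    have := Nat.mul_le_mul_left (Fintype.card (G ⧸ M)) hscard
    rw [mul_comm (Fintype.card Z)] at this
    omega
  obtain ⟨a, rfl⟩ := QuotientGroup.mk_surjective α
  obtain ⟨b, rfl⟩ := QuotientGroup.mk_surjective β
  have hab : (a : G ⧸ M) ≠ b := (Finset.mem_filter.1 hp).2
  set g := a⁻¹ * b with hg
  have hgM : g ∉ M := fun h => hab (QuotientGroup.eq.2 h)
  refine ⟨g, hgM, ?_, ?_⟩
  · set F := s.filter fun q : Z × (G ⧸ M) => (q.2, (q.1 : G) • q.2) = ((a : G ⧸ M), (b : G ⧸ M))
    have hcardF : F.card ≤ Nat.card (inter M g) := by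
      by_cases hF : F = ∅
      · simp [hF]
      obtain ⟨⟨t0, α0⟩, ht0⟩ := Finset.nonempty_iff_ne_empty.2 hF
      have key : ∀ q ∈ F, q.2 = (a : G ⧸ M) ∧ a⁻¹ * ((t0 : G) * (q.1 : G)) * a ∈ inter M g := by
        rintro ⟨t, α⟩ hq
        obtain ⟨-, e⟩ := Finset.mem_filter.1 hq
        obtain ⟨-, e0⟩ := Finset.mem_filter.1 ht0
        simp only [Prod.mk.injEq] at e e0
        obtain ⟨rfl, e⟩ := e
        obtain ⟨rfl, e0⟩ := e0
        have ea : ((t0 : G) * (t : G)) • (a : G ⧸ M) = a := by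
          rw [mul_smul, e, ← e0, ← mul_smul, hinvol, one_smul]
        have eb : ((t0 : G) * (t : G)) • (b : G ⧸ M) = b := by
          rw [mul_smul, ← e, ← mul_smul (t : G), hinvol, one_smul, e0, e]
        rw [MulAction.Quotient.smul_coe, smul_eq_mul, QuotientGroup.eq] at ea eb
        refine ⟨rfl, mem_inter.2 ⟨?_, ?_⟩⟩
        · rw [show a⁻¹ * ((t0 : G) * t) * a = (((t0 : G) * t * a)⁻¹ * a)⁻¹ by group]
          exact inv_mem ea
        · rw [hg, show (a⁻¹ * b)⁻¹ * (a⁻¹ * ((t0 : G) * t) * a) * (a⁻¹ * b) =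
            (((t0 : G) * t * b)⁻¹ * b)⁻¹ by group]
          exact inv_mem eb
      refine le_trans (le_of_eq (Nat.card_eq_finsetCard F).symm)
        (Nat.card_le_card_of_injective (fun q : F => (⟨_, (key q q.2).2⟩ : inter M g)) ?_)
      intro q q' h
      refine Subtype.ext (Prod.ext (Subtype.ext ?_) ((key q q.2).1.trans (key q' q'.2).1.symm))
      exact mul_left_cancel (mul_left_cancel (mul_right_cancel (congrArg Subtype.val h)))
    have hZ : Fintype.card Z * Nat.card (Subgroup.centralizer ({z} : Set G)) = Nat.card G := by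
      have h := (MulAction.stabilizer (ConjAct G) z).index_mul_card
      rw [MulAction.index_stabilizer, ← Nat.card_coe_set_eq] at h
      rw [← Nat.card_eq_fintype_card, show Nat.card G = Nat.card (ConjAct G) from rfl]
      convert h using 2
      exact Nat.card_congr
        { toFun := fun x => ⟨ConjAct.toConjAct x.1, by
            rw [MulAction.mem_stabilizer_iff, ConjAct.smul_def, ConjAct.ofConjAct_toConjAct,
              (Subgroup.mem_centralizer_singleton_iff.1 x.2), mul_inv_cancel_right]⟩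
          invFun := fun x => ⟨ConjAct.ofConjAct x.1, Subgroup.mem_centralizer_singleton_iff.2 (by
            have h := MulAction.mem_stabilizer_iff.1 x.2
            rw [ConjAct.smul_def] at h
            exact mul_inv_eq_iff_eq_mul.1 h)⟩
          left_inv := fun x => rfl
          right_inv := fun x => rfl }
    have hG : Fintype.card (G ⧸ M) * Nat.card M = Nat.card G := by
      rw [← Nat.card_eq_fintype_card, ← Subgroup.card_eq_card_quotient_mul_card_subgroup]
    refine Nat.le_of_mul_le_mul_left ?_ (show 0 < Fintype.card (G ⧸ M) by omega)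
    rw [hG, ← hZ]
    calc Fintype.card Z * Nat.card (Subgroup.centralizer ({z} : Set G))
        ≤ Fintype.card (G ⧸ M) * Nat.card (inter M g) * Nat.card (Subgroup.centralizer ({z} : Set G)) :=
          Nat.mul_le_mul_right _ (hbig.trans (Nat.mul_le_mul_left _ hcardF))
      _ = _ := by ring
  · intro u hu m hm e
    obtain ⟨-, h⟩ := mem_inter.1 hu
    rw [e, show g⁻¹ * (m * z * m⁻¹) * g = g⁻¹ * m * z * (g⁻¹ * m)⁻¹ by group] at h
    have h' := mul_mem (huniq _ h) (inv_mem hm)
    rw [mul_inv_cancel_right] at h'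
    exact hgM (inv_mem_iff.1 h')

end Cfsg.Agent.S3342Id.Closure
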