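import Cfsg.Agent.Lib.Hayden.Local
import Cfsg.Agent.Lib.Hayden.Swap

/-!
S3342: a subgroup containing the centralisers of the points controls the fusion of elements of order three.
-/

set_option autoImplicit false
set_option maxRecDepth 20000
set_option synthInstance.maxSize 10000
set_option linter.style.haveILetI false

namespace Cfsg.Agent.S3342Id.Closure

open Cfsg.Agent.Hayden Cfsg.Agent.Hayden.Cfg

/-- Each point from an earlier one: by conjugation with a tabled element (`i < 648`), by the exchange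
(`648`) or by inversion (`649`). -/
def route : List (ℕ × ℕ × ℕ) :=
  [(2, 1, 649), (18, 1, 648), (9, 2, 648), (14, 9, 6), (17, 9, 3), (22, 18, 3), (25, 18, 6),
   (20, 10, 649), (12, 10, 6), (15, 10, 3), (21, 20, 3), (24, 20, 6), (5, 12, 648), (8, 15, 648),
   (4, 21, 648), (7, 24, 648), (3, 4, 3), (6, 4, 87), (11, 19, 649), (13, 11, 6), (16, 11, 3),
   (23, 19, 3), (26, 19, 6)]

/-- The route is valid from a list of known points. -/
def routeOK : List ℕ → List (ℕ × ℕ × ℕ) → Bool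
  | known, [] => (List.range 27).all fun v => Nat.beq v 0 || known.contains v
  | known, (v, w, i) :: l => known.contains w && Nat.blt v 27 && Nat.blt w 27 &&
      (if i < 648 then Nat.beq (cj i (vi w)) (vi v)
        else if i = 648 then Nat.beq (app swMap w) v else Nat.beq (vneg w) v) &&
      routeOK (v :: known) l

theorem route_ok : routeOK [1, 10, 19] route = true := by decide +kernel

theorem chk_three_conj : ∀ j < 27, ∃ k < 24, cj (27 * k) j < 81 ∧ cj (27 * k) j % 9 < 3 := by decide +kernel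

theorem orbit_four : ∀ v ∈ O4, v = 1 ∨ v = 18 ∨ cj 3 (vi 18) = vi v ∨ cj 6 (vi 18) = vi v := by decide +kernel

theorem orbit_eight : ∀ v ∈ O8, v ∈ O4 ∨ ∃ w ∈ O4, v = vneg w := by decide +kernel

theorem fus_consts : app swMap 1 = 18 ∧ vi 1 = 9 := by decide +kernel

variable {G : Type*} [Group G] {el : ℕ → G} (C : Cfg el)
include C

theorem conj_el {M : Subgroup G} (hall : ∀ i < 648, el i ∈ M) {i w v : ℕ} (hi : i < 648) (hw : w < 27)
    (h : cj i (vi w) = vi v) : ∃ g ∈ M, g * el (vi w) * g⁻¹ = el (vi v) :=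
  ⟨el i, hall i hi, by rw [C.conj hi (chk_j.1 w hw), h]⟩

/-- In the type of four the orbit is fused inside. -/
theorem orb_four {s : G} (S : C.Sw s) {M : Subgroup G} (hall : ∀ i < 648, el i ∈ M) (hs : s ∈ M) :
    ∀ v ∈ O4, ∃ h ∈ M, h * el 9 * h⁻¹ = el (vi v) := by
  intro v hv
  obtain ⟨c1, c9⟩ := fus_consts
  have e18 : s * el 9 * s⁻¹ = el (vi 18) := by
    have h := S.act 1 (by norm_num)
    rwa [c1, c9] at h
  have step : ∀ i < 648, cj i (vi 18) = vi v → ∃ h ∈ M, h * el 9 * h⁻¹ = el (vi v) := fun i hi h => by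
    obtain ⟨g, hg, e⟩ := conj_el C hall hi (by norm_num) h
    exact ⟨g * s, mul_mem hg hs, by rw [← e, ← e18]; group⟩
  rcases orbit_four v hv with rfl | rfl | h | h
  · exact ⟨1, one_mem M, by rw [c9]; group⟩
  · exact ⟨s, hs, e18⟩
  · exact step 3 (by norm_num) h
  · exact step 6 (by norm_num) h

/-- In the type of eight the orbit is fused inside. -/
theorem orb_eight [Finite G] {s m : G} (S : C.Sw s) (N : C.Neg s m) {M : Subgroup G}
    (hall : ∀ i < 648, el i ∈ M) (hs : s ∈ M) (hm : m ∈ M) :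
    ∀ v ∈ O8, ∃ h ∈ M, h * el 9 * h⁻¹ = el (vi v) := by
  intro v hv
  rcases orbit_eight v hv with h | ⟨w, hw, rfl⟩
  · exact orb_four C S hall hs v h
  · obtain ⟨g, hg, e⟩ := orb_four C S hall hs w hw
    have hw27 : w < 27 := (chk_pres_lt O4 (by simp)).1 w hw
    refine ⟨m * g, mul_mem hm hg, ?_⟩
    rw [Cfg.orb_inv C hw27, ← N.act w hw27, ← e]
    group

variable [Finite G]

/-- The normaliser of the abelian subgroup lies inside. -/
theorem norm_le {M : Subgroup G} (hall : ∀ i < 648, el i ∈ M)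
    (hOM : ∀ v < 27, C.Orb v → ∃ h ∈ M, h * el 9 * h⁻¹ = el (vi v)) :
    Subgroup.normalizer (C.VJ : Set G) ≤ M := by
  intro n hn
  obtain ⟨v, hv, hve⟩ := (Subgroup.mem_normalizer_iff.1 hn (el 9)).1 C.a_mem
  obtain ⟨h, hh, he⟩ := hOM v hv ⟨n, hve.symm⟩
  obtain ⟨i, hi, hie⟩ := (C.mem (h⁻¹ * n)).1 (by
    calc h⁻¹ * n * el 9 = h⁻¹ * (n * el 9 * n⁻¹) * n := by group
      _ = el 9 * (h⁻¹ * n) := by rw [← hve, ← he]; group)
  rw [show n = h * el i by rw [hie]; group]
  exact mul_mem hh (hall i hi)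

/-- All centralisers of points lie inside. -/
theorem cent_le {s : G} (S : C.Sw s) {M : Subgroup G} (hall : ∀ i < 648, el i ∈ M) (hs : s ∈ M)
    (h10 : cg el 10 ≤ M) (h19 : cg el 19 ≤ M) : ∀ v < 27, v ≠ 0 → cg el v ≤ M := by
  have key : ∀ (l : List (ℕ × ℕ × ℕ)) (known : List ℕ), routeOK known l = true →
      (∀ v ∈ known, cg el v ≤ M) → ∀ v < 27, v ≠ 0 → cg el v ≤ M := by
    intro l
    induction l with
    | nil =>
      intro known h hk v hv h0
      simp only [routeOK, List.all_eq_true, List.mem_range, Bool.or_eq_true] at h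
      rcases h v hv with e | e
      · exact absurd (Nat.eq_of_beq_eq_true e) h0
      · exact hk v (List.contains_iff_mem.1 e)
    | cons t l ih =>
      obtain ⟨v, w, i⟩ := t
      intro known h hk
      simp only [routeOK, Bool.and_eq_true, Nat.blt_eq] at h
      obtain ⟨⟨⟨⟨hw, hv⟩, hw27⟩, hop⟩, hl⟩ := h
      refine ih _ hl ?_
      intro u hu
      rcases List.mem_cons.1 hu with rfl | hu
      swap
      · exact hk u hu
      have hwle := hk w (List.contains_iff_mem.1 hw)
      have hmove : ∀ g ∈ M, g * el (vi w) * g⁻¹ = el (vi u) → cg el u ≤ M := by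
        intro g hg e y hy
        have hy' : g⁻¹ * y * g ∈ cg el w := by
          refine Subgroup.mem_centralizer_singleton_iff.2 ?_
          have hc : y * el (vi u) = el (vi u) * y := Subgroup.mem_centralizer_singleton_iff.1 hy
          calc g⁻¹ * y * g * el (vi w) = g⁻¹ * (y * (g * el (vi w) * g⁻¹)) * g := by group
            _ = g⁻¹ * (el (vi u) * y) * g := by rw [e, hc]
            _ = el (vi w) * (g⁻¹ * y * g) := by rw [← e]; group
        rw [show y = g * (g⁻¹ * y * g) * g⁻¹ by group]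
        exact mul_mem (mul_mem hg (hwle hy')) (inv_mem hg)
      split at hop
      · rename_i hi
        exact hmove (el i) (hall i hi) (by
          rw [C.conj hi (chk_j.1 w hw27), Nat.eq_of_beq_eq_true hop])
      split at hop
      · exact hmove s hs (by rw [S.act w hw27, Nat.eq_of_beq_eq_true hop])
      · intro y hy
        refine hwle (Subgroup.mem_centralizer_singleton_iff.2 ?_)
        have hc : Commute y (el (vi u)) := Subgroup.mem_centralizer_singleton_iff.1 hy
        rw [← Nat.eq_of_beq_eq_true hop, Cfg.orb_inv C hw27] at hc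
        exact (by simpa using hc.inv_right : Commute y (el (vi w))).eq
  refine key route _ route_ok fun v hv => ?_
  simp only [List.mem_cons, List.not_mem_nil, or_false] at hv
  rcases hv with rfl | rfl | rfl
  · intro y hy
    have h := Subgroup.mem_centralizer_singleton_iff.1 hy
    rw [fus_consts.2] at h
    obtain ⟨i, hi, rfl⟩ := (C.mem y).1 h
    exact hall i hi
  · exact h10
  · exact h19

/-- An element of order three of the subgroup has a conjugate in the abelian subgroup. -/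
theorem exists_conj_VJ {M : Subgroup G} (hall : ∀ i < 648, el i ∈ M) (h243 : ¬ 3 ^ 5 ∣ Nat.card M)
    {f : G} (hf : f ∈ M) (hf3 : orderOf f = 3) : ∃ m ∈ M, m * f * m⁻¹ ∈ C.VJ := by
  haveI : Fact (Nat.Prime 3) := ⟨Nat.prime_three⟩
  have hS : C.S81 ≤ M := fun _ ⟨i, hi, e⟩ => e ▸ hall i (by omega)
  have hSc : Nat.card (C.S81.subgroupOf M) = 3 ^ 4 :=
    (Nat.card_congr (Subgroup.subgroupOfEquivOfLe hS).toEquiv).trans C.card_S81
  have hidx : ¬ 3 ∣ (C.S81.subgroupOf M).index := by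
    intro h
    refine h243 ?_
    rw [← (C.S81.subgroupOf M).card_mul_index, hSc, pow_succ]
    exact Nat.mul_dvd_mul_left _ h
  set P := (IsPGroup.of_card hSc).toSylow hidx
  obtain ⟨Q, hQ⟩ := (IsPGroup.of_card (p := 3) (n := 1) (G := Subgroup.zpowers (⟨f, hf⟩ : M))
    (by rw [Nat.card_zpowers, Subgroup.orderOf_mk, hf3, pow_one])).exists_le_sylow
  obtain ⟨g, hg⟩ := MulAction.exists_smul_eq M Q P
  have hmem : g * (⟨f, hf⟩ : M) * g⁻¹ ∈ ((g • Q : Sylow 3 M) : Subgroup M) := by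
    rw [Sylow.coe_subgroup_smul]
    exact Subgroup.smul_mem_pointwise_smul _ (MulAut.conj g) (Q : Subgroup M) (hQ (Subgroup.mem_zpowers _))
  rw [hg] at hmem
  obtain ⟨j, hj, hje⟩ := (show (g : G) * f * (g : G)⁻¹ ∈ C.S81 from hmem)
  have hj3 : T (T j j) j = 0 := by
    refine C.inj _ (T_lt (T_lt (by omega) (by omega)) (by omega)) _ (by norm_num) ?_
    rw [← C.mul _ (T_lt (by omega) (by omega)) _ (by omega), ← C.mul _ (by omega) _ (by omega), C.el_zero, hje,
      show ∀ x : G, (g : G) * x * (g : G)⁻¹ * ((g : G) * x * (g : G)⁻¹) * ((g : G) * x * (g : G)⁻¹) =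
        g * x ^ 3 * (g : G)⁻¹ from fun x => by rw [pow_three']; group,
      ← hf3, pow_orderOf_eq_one]
    group
  rcases chk_three_S j hj hj3 with h | h
  · obtain ⟨v, hv, hve⟩ := (chk_j_mem j hj).1 h
    exact ⟨g, g.2, ⟨v, hv, by rw [hve, hje]⟩⟩
  · obtain ⟨k, hk, hlt, hmod⟩ := chk_three_conj j h
    obtain ⟨v, hv, hve⟩ := (chk_j_mem _ hlt).1 hmod
    refine ⟨el (27 * k) * g, mul_mem (hall _ (by omega)) g.2, ⟨v, hv, ?_⟩⟩
    rw [hve, ← C.conj (by omega) (by omega : j < 648), hje]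
    group

/-- Control of fusion. -/
theorem controls {s : G} (S : C.Sw s) {M : Subgroup G} (hall : ∀ i < 648, el i ∈ M) (hs : s ∈ M)
    (hOM : ∀ v < 27, C.Orb v → ∃ h ∈ M, h * el 9 * h⁻¹ = el (vi v))
    (h10 : cg el 10 ≤ M) (h19 : cg el 19 ≤ M) (h243 : ¬ 3 ^ 5 ∣ Nat.card M) :
    ∀ f ∈ M, orderOf f = 3 → ∀ g, g * f * g⁻¹ ∈ M → g ∈ M := by
  intro f hf hf3 g hg
  have hg3 : orderOf (g * f * g⁻¹) = 3 := by
    rw [show g * f * g⁻¹ = MulAut.conj g f from rfl, MulEquiv.orderOf_eq, hf3]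
  obtain ⟨m₁, hm₁, h1⟩ := exists_conj_VJ C hall h243 hf hf3
  obtain ⟨m₂, hm₂, h2⟩ := exists_conj_VJ C hall h243 hg hg3
  set x := m₁ * f * m₁⁻¹ with hx
  set g' := m₂ * g * m₁⁻¹ with hg'
  have e : g' * x * g'⁻¹ = m₂ * (g * f * g⁻¹) * m₂⁻¹ := by rw [hx, hg']; group
  obtain ⟨n, hn, hne⟩ := C.fusion g' h1 (e ▸ h2)
  obtain ⟨v, hv, hve⟩ := h1
  have hv0 : v ≠ 0 := by
    rintro rfl
    rw [chk_vi.2.1, C.el_zero] at hve
    rw [conj_eq_one_iff.1 hve.symm, orderOf_one] at hf3
    norm_num at hf3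
  have hc : n⁻¹ * g' ∈ cg el v := by
    refine Subgroup.mem_centralizer_singleton_iff.2 ?_
    rw [hve]
    calc n⁻¹ * g' * x = n⁻¹ * (g' * x * g'⁻¹) * g' := by group
      _ = x * (n⁻¹ * g') := by rw [← hne]; group
  have hg'M : g' ∈ M := by
    rw [show g' = n * (n⁻¹ * g') by group]
    exact mul_mem (norm_le C hall hOM hn) (cent_le C S hall hs h10 h19 v hv hv0 hc)
  rw [show g = m₂⁻¹ * g' * m₁ by rw [hg']; group]
  exact mul_mem (mul_mem (inv_mem hm₂) hg'M) hm₁

end Cfsg.Agent.S3342Id.Closure
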