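import Cfsg.Agent.Lib.S3342Id.Embeds
import Cfsg.Agent.Lib.S3342Id.Cosets
import Cfsg.Agent.Lib.S3342Id.Fusion

/-!
S3342: the closure of the small configurations.
-/

set_option autoImplicit false
set_option maxRecDepth 20000
set_option synthInstance.maxSize 10000
set_option linter.style.haveILetI false

namespace Cfsg.Agent.S3342Id.Closure

open Cfsg.Agent.Hayden Cfsg.Agent.Hayden.Cfg Cfsg.Agent.S3342Id Cfsg.Agent.S3342Id.Seven

variable {G : Type*} [Group G] [Finite G]

/-- An image controlling fusion and containing the centraliser of an involution is everything, once the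
two-point stabilisers are small. -/
theorem top_of_hom {A : Subgroup Sp62} (φ : A →* G) (hφ : Function.Injective φ) {z : Sp62} (hz : z ∈ A)
    (z2 : z * z = 1) (z1 : z ≠ 1) {zG : G} (hzG : φ ⟨z, hz⟩ = zG)
    (hcz : Nat.card (Subgroup.centralizer ({zG} : Set G)) ≤ Nat.card ↥(A ⊓ Subgroup.centralizer {z}))
    (hinv : ∀ t ∈ A, t * t = 1 → t ≠ 1 → ∃ f ∈ A, orderOf f = 3 ∧ Commute f t)
    (hbound : ∀ U : Subgroup Sp62, U ≤ A → ¬ 3 ∣ Nat.card U → (∀ m ∈ A, m * z * m⁻¹ ∉ U) →
      Nat.card (Subgroup.centralizer ({zG} : Set G)) * Nat.card U < Nat.card A)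
    (h3 : ∀ f ∈ φ.range, orderOf f = 3 → ∀ g, g * f * g⁻¹ ∈ φ.range → g ∈ φ.range) :
    φ.range = ⊤ := by
  classical
  set M := φ.range with hM
  set D := A ⊓ Subgroup.centralizer {z} with hD
  have hMc : Nat.card M = Nat.card A := (Nat.card_congr (MonoidHom.ofInjective hφ).toEquiv).symm
  -- the centraliser of the involution
  let ι : D →* G := φ.comp (Subgroup.inclusion inf_le_left)
  have hι : Function.Injective ι := hφ.comp (Subgroup.inclusion_injective _)
  have hιle : ι.range ≤ Subgroup.centralizer ({zG} : Set G) := by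
    rintro _ ⟨d, rfl⟩
    refine Subgroup.mem_centralizer_singleton_iff.2 ?_
    rw [← hzG]
    show φ _ * φ _ = φ _ * φ _
    rw [← map_mul, ← map_mul]
    exact congrArg φ (Subtype.ext (Subgroup.mem_centralizer_singleton_iff.1 (Subgroup.mem_inf.1 d.2).2))
  have hC : Subgroup.centralizer ({zG} : Set G) ≤ M := by
    rw [← Subgroup.eq_of_le_of_card_ge hιle (hcz.trans (Nat.card_congr (MonoidHom.ofInjective hι).toEquiv).le)]
    rintro _ ⟨d, rfl⟩
    exact ⟨_, rfl⟩
  have zG2 : zG * zG = 1 := by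
    rw [← hzG, ← map_mul, show (⟨z, hz⟩ : A) * ⟨z, hz⟩ = 1 from Subtype.ext z2, map_one]
  have zG1 : zG ≠ 1 := fun h => z1 (congrArg Subtype.val (hφ (hzG.trans (h.trans (map_one φ).symm))))
  have horder : ∀ a : A, orderOf (φ a) = orderOf (a : Sp62) := fun a => by
    rw [orderOf_injective φ hφ, Subgroup.orderOf_coe]
  have huniq : ∀ g, g * zG * g⁻¹ ∈ M → g ∈ M := fun g hg =>
    unique_point hC h3 (by
      rintro _ ⟨t, rfl⟩ t2 t1
      have t2' : (t : Sp62) * t = 1 := congrArg Subtype.val (hφ ((map_mul φ t t).trans (t2.trans (map_one φ).symm)))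
      obtain ⟨f, hf, hf3, hc⟩ := hinv t t.2 t2' fun h => t1 (by
        rw [show t = 1 from Subtype.ext h, map_one])
      exact ⟨φ ⟨f, hf⟩, ⟨_, rfl⟩, by rw [horder]; exact hf3,
        Commute.map (show Commute (⟨f, hf⟩ : A) t from Subtype.ext hc.eq) φ⟩) zG2 zG1 hg
  by_contra hne
  obtain ⟨g, hgM, hbig, hfree⟩ := exists_big_inter hne zG2 huniq
  set U := ((inter M g).comap φ).map A.subtype with hU
  have hUA : U ≤ A := Subgroup.map_subtype_le _
  have hUc : Nat.card U = Nat.card (inter M g) := by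
    rw [hU, Subgroup.card_map_of_injective A.subtype_injective]
    have e : ((inter M g).comap φ).map φ = inter M g := Subgroup.map_comap_eq_self (fun x hx => (mem_inter.1 hx).1)
    conv_rhs => rw [← e]
    rw [Subgroup.card_map_of_injective hφ]
  have hU3 : ¬ 3 ∣ Nat.card U := by
    rw [hUc]
    intro hd
    haveI : Fact (Nat.Prime 3) := ⟨Nat.prime_three⟩
    obtain ⟨x, hx⟩ := exists_prime_orderOf_dvd_card' (G := inter M g) 3 hd
    obtain ⟨hxM, hxg⟩ := mem_inter.1 x.2
    refine hgM (inv_mem_iff.1 (h3 _ hxM (by rw [Subgroup.orderOf_coe, hx]) g⁻¹ ?_))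
    rwa [inv_inv]
  have hUf : ∀ m ∈ A, m * z * m⁻¹ ∉ U := by
    rintro m hm ⟨u, hu, e⟩
    refine hfree _ hu (φ ⟨m, hm⟩) ⟨_, rfl⟩ ?_
    rw [← hzG, ← map_inv, ← map_mul, ← map_mul]
    exact congrArg φ (Subtype.ext e)
  have := hbound U hUA hU3 hUf
  rw [hUc, ← hMc] at this
  omega

theorem z0_sq : z0 * z0 = 1 := by
  have h : Nat.beq (cmul (wcd w81) (wcd w81)) c1 = true := by decide +kernel
  exact eq_of_code (rep_mul rep_z0 rep_z0) rep_one (Nat.eq_of_beq_eq_true h)

theorem z0_ne : z0 ≠ 1 := fun h => by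
  have h' : Nat.beq (wcd w81) c1 = false := by decide +kernel
  have hr : Rep 1 (wcd w81) := h ▸ rep_z0
  rw [rep_unique hr rep_one, Nat.beq_refl] at h'
  exact Bool.noConfusion h'

variable {el : ℕ → G} (C : Cfg el) {s : G}
include C

/-- The type of four: the group is `PSp₄(3)`. -/
theorem nonempty_psp_four (S : C.Sw s) (hO : ∀ v < 27, C.Orb v ↔ v ∈ O4)
    (hcomm : ∀ k < 24, ∀ l < 24, Commute (el (27 * k)) (s * el (27 * l) * s⁻¹))
    (hcz : Nat.card (Subgroup.centralizer ({el 81} : Set G)) ≤ 576)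
    (h10 : cg el 10 ≤ Subgroup.normalizer (C.VJ : Set G)) (h19 : cg el 19 ≤ Subgroup.normalizer (C.VJ : Set G))
    {F : Type*} [Field F] [Fintype F] (hF : Fintype.card F = 3) : Nonempty (G ≃* Cfsg.PSp 2 F) := by
  obtain ⟨f, hf, h0, h1, hx4, hs, hall⟩ := exists_psp_std C S hcomm
  have B : Base C s f := ⟨hf, S, h0, h1, hx4, hs, hall⟩
  obtain ⟨A, hAW, hAc, hW, ⟨hz, φ, hφ, hr, hzG⟩, n0, hn0, hn0A, hn0z⟩ := exists_emb_psp B
  have hidx : (A.subgroupOf W).index = 2 := by
    have := (A.subgroupOf W).card_mul_index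
    rw [Nat.card_congr (Subgroup.subgroupOfEquivOfLe hAW).toEquiv, hAc, hW] at this
    omega
  have hAmem : ∀ x ∈ W, x ∉ A → n0 * x ∈ A := fun x hx hxA => by
    have h := (Subgroup.mul_mem_iff_of_index_two hidx (a := ⟨n0, hn0⟩) (b := ⟨x, hx⟩)).2
      (by simp [Subgroup.mem_subgroupOf, hn0A, hxA])
    exact Subgroup.mem_subgroupOf.1 h
  have hinv : n0⁻¹ ∈ W ∧ n0⁻¹ ∉ A := ⟨inv_mem hn0, fun h => hn0A (inv_mem_iff.1 h)⟩
  have hhalf : 576 ≤ Nat.card ↥(A ⊓ Subgroup.centralizer {z0}) := by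
    classical
    have h := class_le
    rw [hW] at h
    have hle : Nat.card ↥(W ⊓ Subgroup.centralizer {z0}) ≤
        Nat.card (Bool × ↥(A ⊓ Subgroup.centralizer {z0})) := by
      have hn : n0 ∈ Subgroup.centralizer {z0} := Subgroup.mem_centralizer_singleton_iff.2 hn0z.eq
      refine Nat.card_le_card_of_injective (fun x => if hx : (x : Sp62) ∈ A
        then (false, ⟨x, hx, (Subgroup.mem_inf.1 x.2).2⟩)
        else (true, ⟨n0 * x, hAmem _ (Subgroup.mem_inf.1 x.2).1 hx, mul_mem hn (Subgroup.mem_inf.1 x.2).2⟩)) ?_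
      intro x y e
      by_cases hx : (x : Sp62) ∈ A <;> by_cases hy : (y : Sp62) ∈ A <;> simp [hx, hy] at e
      · exact Subtype.ext (congrArg Subtype.val e :)
      · exact Subtype.ext (mul_left_cancel (congrArg Subtype.val e :))
    rw [Nat.card_prod, Nat.card_eq_fintype_card (α := Bool), Fintype.card_bool] at hle
    omega
  have hM : ∀ i < 648, el i ∈ φ.range := fun i hi => hr.symm ▸ hall i hi
  have hsM : s ∈ φ.range := hr.symm ▸ ⟨_, hs⟩
  have hOM : ∀ v < 27, C.Orb v → ∃ h ∈ φ.range, h * el 9 * h⁻¹ = el (vi v) := fun v hv ho =>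
    orb_four C S hM hsM v ((hO v hv).1 ho)
  have hN := norm_le C hM hOM
  have hMc : Nat.card φ.range = 25920 := by rw [← Nat.card_congr (MonoidHom.ofInjective hφ).toEquiv, hAc]
  have htop : φ.range = ⊤ := by
    refine top_of_hom φ hφ hz z0_sq z0_ne hzG (hcz.trans hhalf) ?_ ?_
      (controls C S hM hsM hOM (h10.trans hN) (h19.trans hN) (by rw [hMc]; norm_num))
    · intro t ht t2 t1
      obtain ⟨x, hxW, hx3, hc⟩ := exists_three hW (hAW ht) t2 t1
      refine ⟨x, ?_, hx3, hc⟩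
      by_contra hxA
      have hx2 : x * x ∈ A := Subgroup.mem_subgroupOf.1
        (Subgroup.mul_self_mem_of_index_two hidx (⟨x, hxW⟩ : W))
      have hx4 := mul_mem hx2 hx2
      have x3 : x ^ 3 = 1 := orderOf_dvd_iff_pow_eq_one.1 hx3.dvd
      rw [show x * x * (x * x) = x ^ 3 * x by rw [pow_three']; group, x3, one_mul] at hx4
      exact hxA hx4
    · intro U hUA hU3 hUf
      have h45 := card_lt hW (hUA.trans hAW) hU3 (fun m hm => by
        by_cases hmA : m ∈ A
        · exact hUf m hmA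
        · have h2 : n0 * m⁻¹ ∈ A := hAmem _ (inv_mem hm) fun h => hmA (inv_mem_iff.1 h)
          have h3 := hUf _ (inv_mem h2)
          rw [_root_.mul_inv_rev, inv_inv, _root_.mul_inv_rev, inv_inv,
            show m * n0⁻¹ * z0 * (n0 * m⁻¹) = m * (n0⁻¹ * (z0 * n0)) * m⁻¹ by group, ← hn0z.eq,
            inv_mul_cancel_left] at h3
          exact h3)
      calc Nat.card (Subgroup.centralizer ({el 81} : Set G)) * Nat.card U ≤ 576 * 44 :=
            Nat.mul_le_mul hcz (by omega)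
        _ < Nat.card A := by rw [hAc]; norm_num
  refine nonempty_psp C S hcomm hF ?_
  rw [← Subgroup.card_top, ← htop, hMc]

/-- The type of eight, small core: the automorphism group of `PSp₄(3)`. -/
theorem nonempty_aut_small {m : G} (S : C.Sw s) (N : C.Neg s m) (hO : ∀ v < 27, C.Orb v ↔ v ∈ O8)
    (hcomm : ∀ k < 24, ∀ l < 24, Commute (el (27 * k)) (s * el (27 * l) * s⁻¹))
    (hcz : Nat.card (Subgroup.centralizer ({el 81} : Set G)) ≤ 1152)
    (h10 : cg el 10 ≤ Subgroup.normalizer (C.VJ : Set G)) (h19 : cg el 19 ≤ Subgroup.normalizer (C.VJ : Set G))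
    {F : Type*} [Field F] [Fintype F] (hF : Fintype.card F = 3) :
    Nonempty (G ≃* MulAut (Cfsg.PSp 2 F)) := by
  obtain ⟨f, B, φ, hφ, hW, hL, hm, hzG, -⟩ := exists_emb_neg C S N hcomm
  have hM : ∀ i < 648, el i ∈ φ.range := fun i hi => hL (B.all i hi)
  have hsM : s ∈ φ.range := hL ⟨_, B.es⟩
  have hOM : ∀ v < 27, C.Orb v → ∃ h ∈ φ.range, h * el 9 * h⁻¹ = el (vi v) := fun v hv ho =>
    orb_eight C S N hM hsM hm v ((hO v hv).1 ho)
  have hN := norm_le C hM hOM
  have hMc : Nat.card φ.range = 51840 := by rw [← Nat.card_congr (MonoidHom.ofInjective hφ).toEquiv, hW]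
  have hC : 1152 ≤ Nat.card ↥(W ⊓ Subgroup.centralizer {z0}) := by
    have h := class_le
    rw [hW] at h
    omega
  have htop : φ.range = ⊤ := by
    refine top_of_hom φ hφ z0_mem z0_sq z0_ne hzG (hcz.trans hC) (fun t ht t2 t1 => exists_three hW ht t2 t1)
      ?_ (controls C S hM hsM hOM (h10.trans hN) (h19.trans hN) (by rw [hMc]; norm_num))
    intro U hUA hU3 hUf
    have h45 := card_lt hW hUA hU3 hUf
    calc Nat.card (Subgroup.centralizer ({el 81} : Set G)) * Nat.card U ≤ 1152 * 44 :=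
          Nat.mul_le_mul hcz (by omega)
      _ < Nat.card W := by rw [hW]; norm_num
  have hGc : Nat.card G = 51840 := by rw [← Subgroup.card_top, ← htop, hMc]
  have hfc : Nat.card f.range = 25920 := by
    rw [← Nat.card_congr (MonoidHom.ofInjective B.inj).toEquiv, Seven.card_psp]
  refine nonempty_aut C S hcomm hF (H := f.range) ?_ hfc
  have := f.range.card_mul_index
  rw [hfc, hGc] at this
  omega

end Cfsg.Agent.S3342Id.Closure
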