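import Cfsg.Agent.Lib.S3342Id.PSp
import Cfsg.Agent.Lib.HeisSLThree.Model
import Mathlib.FieldTheory.Finite.Basic

/-!
S3342: from the model of the centraliser of `a` and an involution in the normaliser of `J` to `PSp₄(3)`.
-/

set_option autoImplicit false

namespace Cfsg.Agent.S3342Id

open Cfsg.Agent.SpAmalgam Cfsg.Agent.SpAmalgam.Four Cfsg.Agent.HeisSLThree Matrix

/-- A vector of the Heisenberg group as a model element. -/
def hv (v : Fin 2 → ZMod 3) (t : ZMod 3) : Mod := SemidirectProduct.inl ⟨v, t⟩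

/-- An element of the complement as a model element. -/
def hg (g : S2 (ZMod 3)) : Mod := SemidirectProduct.inr g

theorem mod_ext {a b : Mod} (h : a.left.vec 0 = b.left.vec 0 ∧ a.left.vec 1 = b.left.vec 1 ∧
    a.left.cen = b.left.cen ∧ a.right.1 0 0 = b.right.1 0 0 ∧ a.right.1 0 1 = b.right.1 0 1 ∧
    a.right.1 1 0 = b.right.1 1 0 ∧ a.right.1 1 1 = b.right.1 1 1) : a = b := by
  obtain ⟨h0, h1, h2, h3, h4, h5, h6⟩ := h
  refine SemidirectProduct.ext (Hs.ext (funext fun i => ?_) h2) (Subtype.ext (Matrix.ext fun i j => ?_))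
  · fin_cases i <;> assumption
  · fin_cases i <;> fin_cases j <;> assumption

theorem hg_ux : hg (uu 1) * hv ![1, 0] 0 = hv ![1, 0] 0 * hg (uu 1) ∧
    hg (uu (-1)) * hv ![1, 0] 0 = hv ![1, 0] 0 * hg (uu (-1)) :=
  ⟨mod_ext (by decide +kernel), mod_ext (by decide +kernel)⟩

theorem hg_hr : ∀ c : ZMod 3, ∀ hc : c ≠ 0, hg (ll c) * hv ![1, 0] 0 * (hg (ll c))⁻¹ =
    hv ![1, 0] 0 * (hg (ss * dd (Units.mk0 c hc)) * hv ![1, 0] 0 * (hg (ss * dd (Units.mk0 c hc)))⁻¹) *
      hv 0 c := by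
  intro c hc
  rcases (by decide : ∀ d : ZMod 3, d = 0 ∨ d = 1 ∨ d = 2) c with rfl | rfl | rfl
  · exact absurd rfl hc
  · exact mod_ext (by revert hc; decide +kernel)
  · exact mod_ext (by revert hc; decide +kernel)

variable {G : Type*} [Group G]

/-- The Levi complement in `G`. -/
def lev (ι : Mod →* G) : S2 (ZMod 3) →* G := ι.comp SemidirectProduct.inr

theorem lev_apply (ι : Mod →* G) (g : S2 (ZMod 3)) : lev ι g = ι (hg g) := rfl

theorem neg_one_gen : ∀ t : (ZMod 3)ˣ, t ∈ Subgroup.zpowers (-1 : (ZMod 3)ˣ) := by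
  intro t
  rcases (by decide : ∀ u : (ZMod 3)ˣ, u = 1 ∨ u = -1) t with rfl | rfl
  · exact one_mem _
  · exact Subgroup.mem_zpowers _

variable {ι : Mod →* G} {s : G}

theorem s_uu (hU : s * lev ι (uu 1) * s⁻¹ = ι (hv 0 (-1))) (c : ZMod 3) :
    s * lev ι (uu c) * s⁻¹ = ι (hv 0 (-c)) := by
  have h0 : uu (0 : ZMod 3) = 1 ∧ uu (2 : ZMod 3) = uu 1 * uu 1 ∧
      hv 0 (-2) = hv 0 (-1) * hv 0 (-1) ∧ hv 0 (-0) = 1 :=
    ⟨by decide +kernel, by decide +kernel, mod_ext (by decide +kernel), mod_ext (by decide +kernel)⟩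
  rcases (by decide : ∀ d : ZMod 3, d = 0 ∨ d = 1 ∨ d = 2) c with rfl | rfl | rfl
  · rw [h0.1, h0.2.2.2, map_one, map_one, mul_one, mul_inv_cancel]
  · exact hU
  · rw [h0.2.1, h0.2.2.1, map_mul, map_mul, ← hU]
    group

/-- The relations of `Sp₄(3)`. -/
theorem rel4_of_model (hs2 : s * s = 1) (hsx : Commute s (ι (hv ![1, 0] 0)))
    (hsz : Commute s (lev ι (dd (-1)))) (hU : s * lev ι (uu 1) * s⁻¹ = ι (hv 0 (-1)))
    (hcomm : ∀ g h, Commute (lev ι g) (s * lev ι h * s⁻¹)) :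
    Rel4 (-1 : (ZMod 3)ˣ) (lev ι) s (ι (hv ![1, 0] 0)) := by
  refine ⟨hcomm, hs2, hsx, ?_, ?_, ?_⟩
  · rw [show s * lev ι (dd (-1)) * s⁻¹ = lev ι (dd (-1)) by rw [hsz.eq, mul_inv_cancel_right]]
  · intro c hc
    obtain ⟨h1, h2⟩ := hg_ux
    rcases hc with rfl | hc
    · exact (Commute.map h1 ι)
    · rw [Set.mem_singleton_iff] at hc
      rw [hc, show (((-1 : (ZMod 3)ˣ) : ZMod 3)) = -1 from rfl]
      exact (Commute.map h2 ι)
  · intro c _ hc
    rw [s_uu hU, neg_neg, lev_apply, lev_apply, ← map_inv, ← map_inv]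
    simp only [← map_mul]
    exact congrArg ι (hg_hr c hc)

/-- The embedding of `PSp₄(3)`. -/
theorem exists_hom_psp_model (hι : Function.Injective ι) (hs2 : s * s = 1)
    (hsx : Commute s (ι (hv ![1, 0] 0))) (hsz : Commute s (lev ι (dd (-1))))
    (hU : s * lev ι (uu 1) * s⁻¹ = ι (hv 0 (-1)))
    (hcomm : ∀ g h, Commute (lev ι g) (s * lev ι h * s⁻¹)) :
    ∃ f : Cfsg.PSp 2 (ZMod 3) →* G, Function.Injective f ∧
      (∀ g, f (QuotientGroup.mk (emb 0 g)) = lev ι g) ∧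
      (∀ g, f (QuotientGroup.mk (emb 1 g)) = s * lev ι g * s⁻¹) ∧
      f (QuotientGroup.mk x4) = ι (hv ![1, 0] 0) := by
  refine exists_hom_psp (le_of_eq (ZMod.card 3).symm) (rel4_of_model hs2 hsx hsz hU hcomm) neg_one_gen
    ?_ ?_
  · rw [show s * lev ι (dd (-1)) * s⁻¹ = lev ι (dd (-1)) by rw [hsz.eq, mul_inv_cancel_right], ← map_mul,
      show dd (-1 : (ZMod 3)ˣ) * dd (-1) = 1 by decide +kernel, map_one]
  · intro h
    have h1 : lev ι (uu 1) = 1 := by rw [h]; rfl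
    rw [lev_apply, map_eq_one_iff _ hι] at h1
    exact absurd h1 (by decide +kernel)

/-- `PSp₄` over isomorphic fields. -/
theorem nonempty_pspCongr {K F : Type*} [Field K] [Field F] (f : K ≃+* F) :
    Nonempty (Cfsg.PSp 2 K ≃* Cfsg.PSp 2 F) := by
  have hJ : (J (Fin 2) K).map f = J (Fin 2) F := by
    ext i j
    rcases i with i | i <;> rcases j with j | j <;>
      simp [Matrix.J, Matrix.one_apply, apply_ite (f : K → F)]
  have hmem : ∀ {K F : Type _} [Field K] [Field F] (f : K ≃+* F), (J (Fin 2) K).map f = J (Fin 2) F →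
      ∀ A ∈ symplecticGroup (Fin 2) K, A.map f ∈ symplecticGroup (Fin 2) F := by
    intro K F _ _ f hJ A hA
    rw [SymplecticGroup.mem_iff, ← hJ, ← Matrix.transpose_map, ← Matrix.map_mul, ← Matrix.map_mul,
      SymplecticGroup.mem_iff.1 hA]
  have hJ' : (J (Fin 2) F).map f.symm = J (Fin 2) K := by
    ext i j
    rcases i with i | i <;> rcases j with j | j <;>
      simp [Matrix.J, Matrix.one_apply, apply_ite (f.symm : F → K)]
  let e : symplecticGroup (Fin 2) K ≃* symplecticGroup (Fin 2) F :=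
    { toFun := fun A => ⟨A.1.map f, hmem f hJ _ A.2⟩
      invFun := fun A => ⟨A.1.map f.symm, by
        rw [SymplecticGroup.mem_iff, ← hJ', ← Matrix.transpose_map, ← Matrix.map_mul, ← Matrix.map_mul,
          SymplecticGroup.mem_iff.1 A.2]⟩
      left_inv := fun A => Subtype.ext (by ext; simp)
      right_inv := fun A => Subtype.ext (by ext; simp)
      map_mul' := fun A B => Subtype.ext (Matrix.map_mul) }
  refine ⟨QuotientGroup.congr _ _ e (Subgroup.ext fun y => ?_)⟩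
  constructor
  · rintro ⟨x, hx, rfl⟩
    exact Subgroup.mem_center_iff.2 fun z => by
      obtain ⟨w, rfl⟩ := e.surjective z
      show e w * e x = e x * e w
      rw [← map_mul, ← map_mul, Subgroup.mem_center_iff.1 hx w]
  · intro hy
    obtain ⟨x, rfl⟩ := e.surjective y
    exact ⟨x, Subgroup.mem_center_iff.2 fun w => e.injective (by
      rw [map_mul, map_mul]; exact Subgroup.mem_center_iff.1 hy (e w)), rfl⟩

end Cfsg.Agent.S3342Id
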