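import Cfsg.Agent.Lib.HeisSLThree.Abstract
import Cfsg.Prelude.Def_Amalgam
import Cfsg.Prelude.Def_Transfer
import Cfsg.Prelude.Def_Solvable
import Mathlib.GroupTheory.Perm.Sign
import Mathlib.GroupTheory.Sylow

/-!
S3394: the amalgam of `3³:S₄` and `3^{1+2}:SL(2,3)` gives the centraliser setting of S3342 without
fusion of `a` with its inverse and without a normal subgroup of index three.
-/

set_option autoImplicit false

namespace Cfsg.Agent.S3342Id.Amalgam

open Cfsg.Agent.HeisSLThree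

/-! ### Small groups -/

/-- A double transposition. -/
def IsDbl (u : Equiv.Perm (Fin 4)) : Prop := u * u = 1 ∧ Equiv.Perm.sign u = 1 ∧ u ≠ 1

instance (u : Equiv.Perm (Fin 4)) : Decidable (IsDbl u) := by unfold IsDbl; infer_instance

theorem dbl_conj : ∀ s u : Equiv.Perm (Fin 4), s * s * s = 1 → s ≠ 1 → IsDbl u →
    IsDbl (s * u * s⁻¹) ∧ IsDbl (u * (s * u * s⁻¹)) := by decide +kernel

theorem dbl_three : ∃ u v : Equiv.Perm (Fin 4), IsDbl u ∧ IsDbl v ∧ IsDbl (u * v) ∧ u * v = v * u := by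
  decide +kernel

set_option synthInstance.maxSize 2000 in
theorem dbl_conj_four : ∀ u v : Equiv.Perm (Fin 4), IsDbl u → IsDbl v → IsDbl (u * v) → u * v = v * u →
    ∀ i : Fin 4, (![1, u, v, u * v] i)⁻¹ * u * ![1, u, v, u * v] i = u := by decide +kernel

theorem sl_six : ∀ u g : SL₂, u * u * u = 1 → u ≠ 1 →
    g * u = u * g ∨ g * u = u * u * g → g * g * g * (g * g * g) = 1 := by decide +kernel

theorem sl_six_ne : ∃ g : SL₂, g * g * g * (g * g * g) ≠ 1 := by decide +kernel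

theorem sl_sq : ∀ g : SL₂, g * g = 1 → g = 1 ∨ g = -1 := fun g h => sq_eq_one g h

theorem order_three {Q : Type*} [Group Q] (hQ : Nat.card Q = 3) {a b : Q} (ha : a ≠ 1) (hb : b ≠ 1) :
    b = a ∨ b = a⁻¹ := by
  haveI := Nat.finite_of_card_ne_zero (α := Q) (by omega)
  haveI : Fact (Nat.Prime 3) := ⟨Nat.prime_three⟩
  have ho : orderOf a = 3 := orderOf_eq_prime (by rw [← hQ]; exact pow_card_eq_one') ha
  have htop : Subgroup.zpowers a = ⊤ := Subgroup.eq_top_of_card_eq _ (by rw [Nat.card_zpowers, ho, hQ])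
  have hmem : b ∈ Submonoid.powers a := mem_powers_iff_mem_zpowers.2 (htop ▸ Subgroup.mem_top b)
  obtain ⟨k, hk⟩ := hmem
  change a ^ k = b at hk
  rw [← pow_mod_orderOf, ho] at hk
  have hlt := Nat.mod_lt k (show 3 > 0 by norm_num)
  interval_cases h : k % 3
  · exact absurd (by rw [← hk, pow_zero]) hb
  · exact Or.inl (by rw [← hk, pow_one])
  · refine Or.inr (hk ▸ eq_inv_of_mul_eq_one_left ?_)
    rw [← pow_succ, show 2 + 1 = orderOf a by omega, pow_orderOf_eq_one]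

theorem map_center_equiv {A B : Type*} [Group A] [Group B] (e : A ≃* B) :
    (Subgroup.center A).map e.toMonoidHom = Subgroup.center B := by
  ext y
  obtain ⟨x, rfl⟩ := e.surjective y
  rw [show e x = e.toMonoidHom x from rfl, Subgroup.mem_map_iff_mem (f := e.toMonoidHom) e.injective,
    Subgroup.mem_center_iff, Subgroup.mem_center_iff]
  constructor
  · intro h z
    obtain ⟨w, rfl⟩ := e.surjective z
    show e w * e x = e x * e w
    rw [← map_mul, ← map_mul, h w]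
  · intro h w
    refine e.injective ?_
    rw [map_mul, map_mul]
    exact h (e w)

variable {G : Type*} [Group G]

/-- A square acts trivially on a section of order three. -/
theorem sq_fix {N M : Subgroup G} (hMN : M ≤ N) (hM : ∀ n ∈ N, ∀ m ∈ M, n * m * n⁻¹ ∈ M)
    (h3 : (M.subgroupOf N).index = 3) {g : G} (hgN : ∀ n ∈ N, g * n * g⁻¹ ∈ N)
    (hgM : ∀ m : G, g * m * g⁻¹ ∈ M ↔ m ∈ M) {x : G} (hx : x ∈ N) :
    g * g * x * (g * g)⁻¹ * x⁻¹ ∈ M := by
  haveI : (M.subgroupOf N).Normal := ⟨fun m hm n => hM n n.2 m hm⟩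
  have hq : Nat.card (N ⧸ M.subgroupOf N) = 3 := by rw [← Subgroup.index_eq_card, h3]
  let mk : ∀ y, y ∈ N → N ⧸ M.subgroupOf N := fun y hy => QuotientGroup.mk ⟨y, hy⟩
  have hmk : ∀ y hy, mk y hy = 1 ↔ y ∈ M := fun y hy => QuotientGroup.eq_one_iff _
  by_cases hxM : x ∈ M
  · refine mul_mem ?_ (inv_mem hxM)
    rw [show g * g * x * (g * g)⁻¹ = g * (g * x * g⁻¹) * g⁻¹ by group]
    exact (hgM _).2 ((hgM _).2 hxM)
  have hy : g * x * g⁻¹ ∈ N := hgN x hx
  have h1 : mk x hx ≠ 1 := fun h => hxM ((hmk _ _).1 h)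
  have h2 : mk _ hy ≠ 1 := fun h => hxM ((hgM _).1 ((hmk _ _).1 h))
  rcases order_three hq h1 h2 with h | h
  · have hm : g * x * g⁻¹ * x⁻¹ ∈ M := by
      rw [← hmk _ (mul_mem hy (inv_mem hx))]
      show mk _ hy * (mk x hx)⁻¹ = 1
      rw [h, mul_inv_cancel]
    rw [show g * g * x * (g * g)⁻¹ * x⁻¹ = g * (g * x * g⁻¹ * x⁻¹) * g⁻¹ * (g * x * g⁻¹ * x⁻¹) by group]
    exact mul_mem ((hgM _).2 hm) hm
  · have hm : g * x * g⁻¹ * x ∈ M := by
      rw [← hmk _ (mul_mem hy hx)]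
      show mk _ hy * mk x hx = 1
      rw [h, inv_mul_cancel]
    rw [show g * g * x * (g * g)⁻¹ * x⁻¹ =
      g * (g * x * g⁻¹ * x) * g⁻¹ * (x * (g * x * g⁻¹ * x)⁻¹ * x⁻¹) by group]
    exact mul_mem ((hgM _).2 hm) (hM _ hx _ (inv_mem hm))

variable [Finite G]

/-- A normal 3-subgroup lies in every subgroup of index prime to three. -/
theorem le_of_index {A K N : Subgroup G} (hKA : K ≤ A) (hN : N ≤ A) (hNn : (N.subgroupOf A).Normal)
    (hN3 : IsPGroup 3 N) (h : ¬ 3 ∣ (K.subgroupOf A).index) : N ≤ K := by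
  haveI : Fact (Nat.Prime 3) := ⟨Nat.prime_three⟩
  obtain ⟨P⟩ : Nonempty (Sylow 3 (K.subgroupOf A)) := inferInstance
  set P' := (P : Subgroup (K.subgroupOf A)).map (K.subgroupOf A).subtype with hP'
  have hP'3 : IsPGroup 3 P' := P.2.map _
  have hidx : ¬ 3 ∣ P'.index := by
    rw [hP', Subgroup.index_map_subtype]
    intro hd
    rcases (Nat.prime_three.dvd_mul).1 hd with h' | h'
    · exact P.not_dvd_index h'
    · exact h h'
  have hle : N.subgroupOf A ≤ P' := by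
    have hN' : IsPGroup 3 (N.subgroupOf A) := hN3.of_equiv (Subgroup.subgroupOfEquivOfLe hN).symm
    haveI := hNn
    exact (hP'3.toSylow hidx).3 (hN'.to_sup_of_normal_left hP'3) le_sup_right |>.le.trans' le_sup_left
  intro n hn
  have : (⟨n, hN hn⟩ : A) ∈ P' := hle hn
  obtain ⟨k, -, hk⟩ := this
  have hkK := k.2
  rw [show ((k : A)) = ⟨n, hN hn⟩ from hk] at hkK
  exact hkK

/-- The setting of S3342 from the amalgam. -/
theorem exists_setting
    (A₁ A₂ : Subgroup G) (hgen : A₁ ⊔ A₂ = ⊤)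
    (hSyl₁ : ¬ 3 ∣ ((A₁ ⊓ A₂).subgroupOf A₁).index) (hSyl₂ : ¬ 3 ∣ ((A₁ ⊓ A₂).subgroupOf A₂).index)
    (Q₁ Q₂ : Subgroup G) (hQ₁ : Q₁ = Cfsg.pCoreOf 3 A₁) (hQ₂ : Q₂ = Cfsg.pCoreOf 3 A₂)
    [h₁ : (Q₁.subgroupOf A₁).Normal] [h₂ : (Q₂.subgroupOf A₂).Normal]
    (e₁ : ↥A₁ ⧸ Q₁.subgroupOf A₁ ≃* Equiv.Perm (Fin 4))
    (e₂ : ↥A₂ ⧸ Q₂.subgroupOf A₂ ≃* Matrix.SpecialLinearGroup (Fin 2) (ZMod 3))
    (hQ₁ea : Cfsg.IsElementaryAbelian 3 Q₁) (hQ₁card : Nat.card Q₁ = 27)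
    (hQ₁faith : A₁ ⊓ Subgroup.centralizer (Q₁ : Set G) = Q₁)
    (hQ₂es : Cfsg.IsExtraspecial 3 ↥Q₂) (hQ₂card : Nat.card Q₂ = 27)
    (Z₂ : Subgroup G) (hZ₂ : Z₂ = Q₂ ⊓ Subgroup.centralizer (Q₂ : Set G))
    (hQ₂nat : ∀ a ∈ A₂, a ∈ Q₂ ↔ ∀ x ∈ Q₂, a * x * a⁻¹ * x⁻¹ ∈ Z₂)
    (hN₂ : Subgroup.normalizer (Z₂ : Set G) = A₂) :
    ∃ a : G, orderOf a = 3 ∧ A₂ = Subgroup.centralizer ({a} : Set G) ∧
      Q₂.subgroupOf A₂ = Cfsg.pCore 3 A₂ ∧ (∀ r ∈ Cfsg.pCore 3 A₂, r ^ 3 = 1) ∧ Q₁ ≤ A₂ ∧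
      (∀ g : G, g * a * g⁻¹ ≠ a⁻¹) ∧ ¬ ∃ N : Subgroup G, N.Normal ∧ N.index = 3 := by
  haveI : Fact (Nat.Prime 3) := ⟨Nat.prime_three⟩
  have hsub₁ : Q₁.subgroupOf A₁ = Cfsg.pCore 3 A₁ := by
    rw [hQ₁, Cfsg.pCoreOf, Subgroup.subgroupOf, Subgroup.comap_map_eq_self_of_injective A₁.subtype_injective]
  have hsub₂ : Q₂.subgroupOf A₂ = Cfsg.pCore 3 A₂ := by
    rw [hQ₂, Cfsg.pCoreOf, Subgroup.subgroupOf, Subgroup.comap_map_eq_self_of_injective A₂.subtype_injective]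
  have hQ₁A : Q₁ ≤ A₁ := by rw [hQ₁]; exact Subgroup.map_subtype_le _
  have hQ₂A : Q₂ ≤ A₂ := by rw [hQ₂]; exact Subgroup.map_subtype_le _
  have hQ₁3 : IsPGroup 3 Q₁ := IsPGroup.of_card (n := 3) (by rw [hQ₁card]; norm_num)
  have hQ₂3 : IsPGroup 3 Q₂ := IsPGroup.of_card (n := 3) (by rw [hQ₂card]; norm_num)
  have hQ₁K : Q₁ ≤ A₁ ⊓ A₂ := le_of_index inf_le_left hQ₁A h₁ hQ₁3 hSyl₁
  have hQ₂K : Q₂ ≤ A₁ ⊓ A₂ := le_of_index inf_le_right hQ₂A h₂ hQ₂3 hSyl₂
  have hQ₁n : ∀ g ∈ A₁, ∀ q ∈ Q₁, g * q * g⁻¹ ∈ Q₁ := fun g hg q hq => h₁.conj_mem ⟨q, hQ₁A hq⟩ hq ⟨g, hg⟩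
  have hQ₂n : ∀ g ∈ A₂, ∀ q ∈ Q₂, g * q * g⁻¹ ∈ Q₂ := fun g hg q hq => h₂.conj_mem ⟨q, hQ₂A hq⟩ hq ⟨g, hg⟩
  -- the centre
  have hZmem : ∀ x, x ∈ Z₂ ↔ ∃ h : x ∈ Q₂, (⟨x, h⟩ : Q₂) ∈ Subgroup.center Q₂ := by
    intro x
    rw [hZ₂, Subgroup.mem_inf, Subgroup.mem_centralizer_iff]
    exact ⟨fun h => ⟨h.1, Subgroup.mem_center_iff.2 fun q => Subtype.ext (h.2 q q.2)⟩,
      fun ⟨h, hc⟩ => ⟨h, fun q hq => congrArg Subtype.val (Subgroup.mem_center_iff.1 hc ⟨q, hq⟩)⟩⟩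
  have hZcard : Nat.card Z₂ = 3 := by
    rw [show Z₂ = (Subgroup.center Q₂).map Q₂.subtype from ?_,
      Subgroup.card_map_of_injective Q₂.subtype_injective, hQ₂es.2]
    ext x
    rw [hZmem]
    exact ⟨fun ⟨h, hc⟩ => ⟨⟨x, h⟩, hc, rfl⟩, fun ⟨y, hy, e⟩ => e ▸ ⟨y.2, hy⟩⟩
  have hZQ : Z₂ ≤ Q₂ := fun x hx => ((hZmem x).1 hx).1
  have hZc : ∀ z ∈ Z₂, ∀ q ∈ Q₂, q * z = z * q := fun z hz q hq =>
    congrArg Subtype.val (Subgroup.mem_center_iff.1 ((hZmem z).1 hz).2 ⟨q, hq⟩)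
  have hcomm : ∀ x ∈ Q₂, ∀ y ∈ Q₂, y * x * y⁻¹ * x⁻¹ ∈ Z₂ := by
    intro x hx y hy
    refine (hZmem _).2 ⟨mul_mem (mul_mem (mul_mem hy hx) (inv_mem hy)) (inv_mem hx), ?_⟩
    rw [← hQ₂es.1.2.2]
    exact Subgroup.commutator_mem_commutator (g₁ := (⟨y, hy⟩ : Q₂)) (g₂ := ⟨x, hx⟩)
      (Subgroup.mem_top _) (Subgroup.mem_top _)
  obtain ⟨⟨a, haZ⟩, ha⟩ := exists_prime_orderOf_dvd_card' (G := Z₂) 3 (by rw [hZcard])
  rw [← Subgroup.orderOf_coe] at ha
  change orderOf a = 3 at ha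
  have hZa : Subgroup.zpowers a = Z₂ := Subgroup.eq_of_le_of_card_ge (Subgroup.zpowers_le.2 haZ)
    (by rw [Nat.card_zpowers, ha, hZcard])
  have ha3 : a ^ 3 = 1 := by rw [← ha, pow_orderOf_eq_one]
  have ha1 : a ≠ 1 := fun h => by simp [h] at ha
  have hZ3 : ∀ z ∈ Z₂, z ^ 3 = 1 := fun z hz => by
    have h := pow_card_eq_one' (G := Z₂) (x := ⟨z, hz⟩)
    rw [hZcard] at h
    exact congrArg Subtype.val h
  -- `A₂` is the centraliser
  let π : A₂ →* SL₂ := e₂.toMonoidHom.comp (QuotientGroup.mk' _)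
  have hπs : Function.Surjective π := e₂.surjective.comp (QuotientGroup.mk'_surjective _)
  have hπk : ∀ x : A₂, π x = 1 ↔ (x : G) ∈ Q₂ := fun x => by
    show e₂ (x : A₂ ⧸ Q₂.subgroupOf A₂) = 1 ↔ _
    rw [e₂.map_eq_one_iff, QuotientGroup.eq_one_iff, Subgroup.mem_subgroupOf]
  have hZn : ∀ g ∈ A₂, g * a * g⁻¹ = a ∨ g * a * g⁻¹ = a⁻¹ := by
    intro g hg
    rw [← hN₂] at hg
    have h := (Subgroup.mem_normalizer_iff.1 hg a).1 haZ
    have hne : g * a * g⁻¹ ≠ 1 := fun e => ha1 (conj_eq_one_iff.1 e)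
    rcases order_three hZcard (a := (⟨a, haZ⟩ : Z₂)) (b := ⟨_, h⟩)
      (fun e => ha1 (congrArg Subtype.val e)) (fun e => hne (congrArg Subtype.val e)) with e | e
    · exact Or.inl (congrArg Subtype.val e)
    · exact Or.inr (congrArg Subtype.val e)
  have hA₂C : A₂ = Subgroup.centralizer ({a} : Set G) := by
    refine le_antisymm (fun g hg => ?_) fun g hg => ?_
    · have hH : ((Subgroup.centralizer ({a} : Set G)).subgroupOf A₂).map π = ⊤ := by
        refine top_of_squares _ fun s => ?_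
        obtain ⟨y, rfl⟩ := hπs s
        refine ⟨y * y, ?_, map_mul π y y⟩
        rw [SetLike.mem_coe, Subgroup.mem_subgroupOf, Subgroup.mem_centralizer_singleton_iff,
          Subgroup.coe_mul]
        rw [← mul_inv_eq_iff_eq_mul]
        rcases hZn y y.2 with e | e
        · rw [show (y : G) * y * a * ((y : G) * y)⁻¹ = y * (y * a * (y : G)⁻¹) * (y : G)⁻¹ by group, e, e]
        · rw [show (y : G) * y * a * ((y : G) * y)⁻¹ = y * (y * a * (y : G)⁻¹) * (y : G)⁻¹ by group, e,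
            ← conj_inv, e, inv_inv]
      obtain ⟨h, hh, he⟩ := (show π ⟨g, hg⟩ ∈ ((Subgroup.centralizer ({a} : Set G)).subgroupOf A₂).map π by
        rw [hH]; trivial)
      have hq : ((h⁻¹ * ⟨g, hg⟩ : A₂) : G) ∈ Q₂ := (hπk _).1 (by rw [map_mul, map_inv, he, inv_mul_cancel])
      rw [Subgroup.coe_mul, Subgroup.coe_inv] at hq
      rw [show g = (h : G) * ((h : G)⁻¹ * g) by group]
      exact mul_mem hh (Subgroup.mem_centralizer_singleton_iff.2 (hZc a haZ _ hq))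
    · rw [← hN₂, Subgroup.mem_normalizer_iff]
      intro n
      rw [← hZa]
      have hgz : ∀ i : ℤ, g * a ^ i * g⁻¹ = a ^ i := fun i => by
        rw [((show Commute g a from (Subgroup.mem_centralizer_singleton_iff.1 hg)).zpow_right i).eq,
          mul_inv_cancel_right]
      constructor
      · rintro ⟨i, rfl⟩
        exact ⟨i, (hgz i).symm⟩
      · rintro ⟨i, hi⟩
        exact ⟨i, mul_left_cancel (mul_right_cancel ((hgz i).trans hi))⟩
  have hnc : ∀ g : G, g * a * g⁻¹ ≠ a⁻¹ := by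
    intro g hg
    have hgA : g ∈ A₂ := by
      rw [← hN₂, Subgroup.mem_normalizer_iff, ← hZa]
      intro n
      constructor
      · rintro ⟨i, rfl⟩
        exact ⟨-i, by show a ^ (-i) = _; rw [zpow_neg, ← inv_zpow, ← hg, conj_zpow]⟩
      · rintro ⟨i, hi⟩
        refine ⟨-i, mul_left_cancel (a := g) (mul_right_cancel (b := g⁻¹) ?_)⟩
        show g * a ^ (-i) * g⁻¹ = _
        rw [← conj_zpow, hg, inv_zpow, ← zpow_neg, neg_neg]
        exact hi
    rw [hA₂C, Subgroup.mem_centralizer_singleton_iff] at hgA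
    rw [hgA, mul_inv_cancel_right] at hg
    have h2 : a ^ 2 = 1 := by
      rw [pow_two]; nth_rw 2 [hg]; exact mul_inv_cancel a
    exact ha1 (by rwa [pow_succ, h2, one_mul] at ha3)
  -- no invariant plane in `Q₂`
  have hplane : ∀ W : Subgroup G, W ≤ Q₂ → Z₂ ≤ W → Nat.card W = 9 →
      (∀ g ∈ A₂, ∀ w ∈ W, g * w * g⁻¹ ∈ W) → False := by
    intro W hW hZW hW9 hWn
    have hWiff : ∀ g ∈ A₂, ∀ m : G, g * m * g⁻¹ ∈ W ↔ m ∈ W := fun g hg m =>
      ⟨fun h => by simpa [mul_assoc] using hWn g⁻¹ (inv_mem hg) _ h, hWn g hg m⟩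
    have hidxW : (W.subgroupOf Q₂).index = 3 := by
      have h := Subgroup.card_mul_index (W.subgroupOf Q₂)
      rw [Nat.card_congr (Subgroup.subgroupOfEquivOfLe hW).toEquiv, hW9, hQ₂card] at h
      omega
    have hidxZ : (Z₂.subgroupOf W).index = 3 := by
      have h := Subgroup.card_mul_index (Z₂.subgroupOf W)
      rw [Nat.card_congr (Subgroup.subgroupOfEquivOfLe hZW).toEquiv, hW9, hZcard] at h
      omega
    have hsq2 : ∀ g ∈ A₂, ∀ q ∈ Q₂, g * g * q * (g * g)⁻¹ * q⁻¹ ∈ W := fun g hg q hq =>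
      sq_fix hW (fun n hn m hm => hWn n (hQ₂A hn) m hm) hidxW (hQ₂n g hg) (hWiff g hg) hq
    have hsq1 : ∀ g ∈ A₂, ∀ w ∈ W, g * g * w * (g * g)⁻¹ * w⁻¹ ∈ Z₂ := fun g hg w hw => by
      refine sq_fix hZW (fun n hn m hm => by rw [hZc m hm n (hW hn), mul_inv_cancel_right]; exact hm)
        hidxZ (hWn g hg) (fun m => ?_) hw
      rw [← hN₂] at hg
      exact ((Subgroup.mem_normalizer_iff.1 hg) m).symm
    have hall : ∀ g ∈ A₂, g * g * g * (g * g * g) ∈ Q₂ := by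
      intro g hg
      refine (hQ₂nat _ (mul_mem (mul_mem (mul_mem hg hg) hg) (mul_mem (mul_mem hg hg) hg))).2 fun q hq => ?_
      rw [show g * g * g * (g * g * g) = g * g * (g * g) * (g * g) by group]
      set h := g * g with hh
      set w := h * q * h⁻¹ * q⁻¹ with hw
      have hwW : w ∈ W := hsq2 g hg q hq
      obtain ⟨z, hz⟩ : ∃ z, h * w * h⁻¹ * w⁻¹ = z := ⟨_, rfl⟩
      have hzZ : z ∈ Z₂ := hz ▸ hsq1 g hg w hwW
      have hfix : h * z * h⁻¹ = z := by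
        have hc : Commute h a := by
          have : h ∈ A₂ := mul_mem hg hg
          rw [hA₂C, Subgroup.mem_centralizer_singleton_iff] at this
          exact this
        obtain ⟨i, rfl⟩ : z ∈ Subgroup.zpowers a := by rw [hZa]; exact hzZ
        rw [(hc.zpow_right i).eq, mul_inv_cancel_right]
      have hzw : w * z = z * w := hZc z hzZ w (hW hwW)
      have e1 : h * w * h⁻¹ = z * w := by rw [← hz]; group
      have e2 : h * (z * w) * h⁻¹ = z * (z * w) := by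
        rw [show h * (z * w) * h⁻¹ = h * z * h⁻¹ * (h * w * h⁻¹) by group, hfix, e1]
      have eq : h * q * h⁻¹ = w * q := by rw [hw]; group
      have hmain : h * h * h * q * (h * h * h)⁻¹ * q⁻¹ = z ^ 3 * (w * w * w) := by
        rw [show h * h * h * q * (h * h * h)⁻¹ = h * (h * (h * q * h⁻¹) * h⁻¹) * h⁻¹ by group, eq,
          show h * (w * q) * h⁻¹ = h * w * h⁻¹ * (h * q * h⁻¹) by group, e1, eq,
          show h * (z * w * (w * q)) * h⁻¹ = h * (z * w) * h⁻¹ * (h * w * h⁻¹) * (h * q * h⁻¹) by group,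
          e2, e1, eq]
        have hzw' : w * z = z * w := hzw
        calc z * (z * w) * (z * w) * (w * q) * q⁻¹ = z * z * (w * z) * w * w := by group
          _ = _ := by rw [hzw']; simp [pow_succ, mul_assoc]
      rw [hmain, hZ3 z hzZ, one_mul]
      have hWn' : (Z₂.subgroupOf W).Normal := ⟨fun m hm n => by
        rw [Subgroup.mem_subgroupOf, Subgroup.coe_mul, Subgroup.coe_mul, Subgroup.coe_inv,
          hZc m hm n (hW n.2), mul_inv_cancel_right]
        exact hm⟩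
      have h3 := (Z₂.subgroupOf W).pow_index_mem ⟨w, hwW⟩
      rw [hidxZ, Subgroup.mem_subgroupOf, Subgroup.coe_pow] at h3
      simpa [pow_succ] using h3
    obtain ⟨s, hs⟩ := sl_six_ne
    obtain ⟨y, rfl⟩ := hπs s
    exact hs (by rw [← map_mul, ← map_mul, ← map_mul, hπk]; exact hall y y.2)
  -- the meeting of `Q₁` and `Q₂`
  have hQ₁A₂ : Q₁ ≤ A₂ := hQ₁K.trans inf_le_right
  obtain ⟨hQ₁c, hQ₁p⟩ := hQ₁ea
  have hQ₁comm : ∀ x ∈ Q₁, ∀ y ∈ Q₁, x * y = y * x := fun x hx y hy =>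
    congrArg Subtype.val (hQ₁c.is_comm.comm ⟨x, hx⟩ ⟨y, hy⟩)
  have hQ₂nc : ¬ Q₂ ≤ Q₁ := by
    intro hle
    have htop : Subgroup.center Q₂ = ⊤ := eq_top_iff.2 fun x _ => Subgroup.mem_center_iff.2 fun y =>
      Subtype.ext (hQ₁comm _ (hle y.2) _ (hle x.2))
    have h := hQ₂es.2
    rw [htop, Subgroup.card_top, hQ₂card] at h
    omega
  let π₁ : Q₁ →* SL₂ := π.comp (Subgroup.inclusion hQ₁A₂)
  have hπ₁k : ∀ x : Q₁, π₁ x = 1 ↔ (x : G) ∈ Q₂ := fun x => hπk _
  have hker₁ : Nat.card (Q₁ ⊓ Q₂ : Subgroup G) = 9 ∧ Nat.card π₁.range = 3 := by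
    have hk : π₁.ker = (Q₁ ⊓ Q₂).subgroupOf Q₁ := by
      ext x
      rw [MonoidHom.mem_ker, hπ₁k, Subgroup.mem_subgroupOf, Subgroup.mem_inf]
      exact ⟨fun h => ⟨x.2, h⟩, fun h => h.2⟩
    have hmul := Subgroup.card_mul_index π₁.ker
    rw [Subgroup.index_ker, hQ₁card, hk,
      Nat.card_congr (Subgroup.subgroupOfEquivOfLe (inf_le_left : Q₁ ⊓ Q₂ ≤ Q₁)).toEquiv] at hmul
    have hr : Nat.card π₁.range ∣ 3 := by
      have h24 := Subgroup.card_subgroup_dvd_card π₁.range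
      rw [card_sl] at h24
      exact (Nat.dvd_gcd (hmul ▸ Dvd.intro_left _ rfl) h24).trans (by norm_num)
    rcases (Nat.dvd_prime Nat.prime_three).1 hr with e | e
    · exfalso
      rw [e, mul_one] at hmul
      refine hQ₂nc (Subgroup.eq_of_le_of_card_ge (fun x hx => ?_) (by rw [hQ₁card, hQ₂card])).ge
      exact (Subgroup.eq_of_le_of_card_ge (inf_le_left : Q₁ ⊓ Q₂ ≤ Q₁)
        (by rw [hmul, hQ₁card])).ge hx |>.2
    · exact ⟨by rw [e] at hmul; omega, e⟩
  have hexp : ∀ x ∈ Q₂, x ^ 3 = 1 := by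
    have hcube : ∀ x ∈ Q₂, ∀ y ∈ Q₂, y * x ^ 3 * y⁻¹ = x ^ 3 := by
      intro x hx y hy
      obtain ⟨c, hc⟩ : ∃ c, y * x * y⁻¹ * x⁻¹ = c := ⟨_, rfl⟩
      have hcZ : c ∈ Z₂ := hc ▸ hcomm x hx y hy
      rw [← conj_pow, show y * x * y⁻¹ = c * x by rw [← hc]; group,
        (show Commute c x from (hZc c hcZ x hx).symm).mul_pow, hZ3 c hcZ, one_mul]
    have hcubeZ : ∀ x ∈ Q₂, x ^ 3 ∈ Z₂ := fun x hx => by
      rw [hZ₂, Subgroup.mem_inf, Subgroup.mem_centralizer_iff]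
      exact ⟨pow_mem hx 3, fun y hy => mul_inv_eq_iff_eq_mul.1 (hcube x hx y hy)⟩
    have hmul3 : ∀ x ∈ Q₂, ∀ y ∈ Q₂, (x * y) ^ 3 = x ^ 3 * y ^ 3 := by
      intro x hx y hy
      obtain ⟨c, hc⟩ : ∃ c, y * x * y⁻¹ * x⁻¹ = c := ⟨_, rfl⟩
      have hcZ : c ∈ Z₂ := hc ▸ hcomm x hx y hy
      have hyx : y * x = c * (x * y) := by rw [← hc]; group
      have hcx : ∀ q ∈ Q₂, q * c = c * q := fun q hq => hZc c hcZ q hq
      calc (x * y) ^ 3 = x * (y * x) * (y * x) * y := by simp only [pow_succ, pow_zero, one_mul]; group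
        _ = x * c * (x * y * c) * (x * y) * y := by rw [hyx]; group
        _ = c * c * (x * x * (y * x) * y * y) := by
            rw [hcx x hx, hcx (x * y) (mul_mem hx hy), show c * x * (c * (x * y)) = c * (x * c) * (x * y) by group, hcx x hx]
            group
        _ = c * c * (x * x * c * (x * y * y * y)) := by rw [hyx]; group
        _ = c * c * c * (x * x * x * (y * y * y)) := by rw [hcx (x * x) (mul_mem hx hx)]; group
        _ = _ := by
            rw [show c * c * c = c ^ 3 by simp [pow_succ], hZ3 c hcZ, one_mul]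
            simp [pow_succ]
    let K : Subgroup G :=
      { carrier := {x | x ∈ Q₂ ∧ x ^ 3 = 1}
        one_mem' := ⟨one_mem _, one_pow _⟩
        mul_mem' := fun {x y} hx hy => ⟨mul_mem hx.1 hy.1, by rw [hmul3 x hx.1 y hy.1, hx.2, hy.2, one_mul]⟩
        inv_mem' := fun {x} hx => ⟨inv_mem hx.1, by rw [inv_pow, hx.2, inv_one]⟩ }
    have hIK : Q₁ ⊓ Q₂ ≤ K := fun x hx => ⟨hx.2, hQ₁p x hx.1⟩
    have hKQ : K ≤ Q₂ := fun x hx => hx.1
    intro x hx
    by_contra hx3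
    have hlt : Nat.card K ≠ 27 := fun h =>
      hx3 ((Subgroup.eq_of_le_of_card_ge hKQ (by rw [h, hQ₂card])).ge hx).2
    have hd : Nat.card K ∣ 27 := hQ₂card ▸ Subgroup.card_dvd_of_le hKQ
    have h9 := Subgroup.card_dvd_of_le hIK
    rw [hker₁.1] at h9
    have hK9 : Nat.card K = 9 := by
      have hl := Nat.le_of_dvd Nat.card_pos h9
      have hu := Nat.le_of_dvd (by norm_num) hd
      have hcase : ∀ m ∈ Nat.divisors 27, 9 ≤ m → m = 9 ∨ m = 27 := by decide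
      exact (hcase _ (Nat.mem_divisors.2 ⟨hd, by norm_num⟩) hl).resolve_right hlt
    refine hplane K hKQ (fun z hz => ⟨hZQ hz, hZ3 z hz⟩) hK9 fun g hg w hw => ?_
    exact ⟨hQ₂n g hg w hw.1, by rw [conj_pow, hw.2, mul_one, mul_inv_cancel]⟩
  -- no plane of `Q₁` through the centre is normalised by `A₁`
  have hline : ∀ W : Subgroup G, W ≤ Q₁ → Z₂ ≤ W → Nat.card W = 9 →
      (∀ g ∈ A₁, ∀ w ∈ W, g * w * g⁻¹ ∈ W) → False := by
    intro W hW hZW hW9 hWn
    let ρ : A₁ →* Equiv.Perm (Fin 4) := e₁.toMonoidHom.comp (QuotientGroup.mk' _)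
    have hρs : Function.Surjective ρ := e₁.surjective.comp (QuotientGroup.mk'_surjective _)
    have hρk : ∀ x : A₁, ρ x = 1 ↔ (x : G) ∈ Q₁ := fun x => by
      show e₁ (x : A₁ ⧸ Q₁.subgroupOf A₁) = 1 ↔ _
      rw [e₁.map_eq_one_iff, QuotientGroup.eq_one_iff, Subgroup.mem_subgroupOf]
    -- an element of the four-group fixing the centre
    obtain ⟨k, hkA, hk⟩ : ∃ k : A₁, (k : G) ∈ A₂ ∧ IsDbl (ρ k) := by
      by_contra hcon
      push Not at hcon
      obtain ⟨u, v, hu, hv, huv, huvc⟩ := dbl_three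
      obtain ⟨g, rfl⟩ := hρs u
      obtain ⟨h, rfl⟩ := hρs v
      let f : Fin 4 → A₁ := ![1, g, h, g * h]
      have hdiff : ∀ i j, i ≠ j → IsDbl (ρ ((f i)⁻¹ * f j)) := by
        intro i j hij
        have key : ∀ u v : Equiv.Perm (Fin 4), IsDbl u → IsDbl v → IsDbl (u * v) → u * v = v * u →
            ∀ i j : Fin 4, i ≠ j → IsDbl ((![1, u, v, u * v] i)⁻¹ * ![1, u, v, u * v] j) := by
          decide +kernel
        have := key _ _ hu hv huv huvc i j hij
        have hf : ∀ i, ρ (f i) = ![1, ρ g, ρ h, ρ g * ρ h] i := by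
          intro i; fin_cases i <;> simp [f]
        rwa [map_mul, map_inv, hf, hf]
      have hb : ∀ b : Bool, (if b then a else a⁻¹) ≠ 1 ∧ (if b then a else a⁻¹) ∈ Z₂ := fun b => by
        cases b
        · exact ⟨inv_ne_one.2 ha1, inv_mem haZ⟩
        · exact ⟨ha1, haZ⟩
      let pts : Fin 4 × Bool → {x : W // x ≠ 1} := fun p =>
        ⟨⟨(f p.1 : G) * (if p.2 then a else a⁻¹) * (f p.1 : G)⁻¹, hWn _ (f p.1).2 _ (hZW (hb p.2).2)⟩,
          fun e => (hb p.2).1 (conj_eq_one_iff.1 (congrArg Subtype.val e))⟩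
      have hinj : Function.Injective pts := by
        rintro ⟨i, b⟩ ⟨j, c⟩ e
        have e' : (f i : G) * (if b then a else a⁻¹) * (f i : G)⁻¹ =
            (f j : G) * (if c then a else a⁻¹) * (f j : G)⁻¹ := congrArg (fun x : {x : W // x ≠ 1} => ((x : W) : G)) e
        have hij : i = j := by
          by_contra hij
          refine hcon ((f j)⁻¹ * f i) ?_ (hdiff j i (Ne.symm hij))
          rw [← hN₂, Subgroup.mem_normalizer_iff]
          have e'' : ((f j)⁻¹ * f i : A₁) * (if b then a else a⁻¹) * (((f j)⁻¹ * f i : A₁) : G)⁻¹ =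
              (if c then a else a⁻¹) := by
            rw [Subgroup.coe_mul, Subgroup.coe_inv]
            calc (f j : G)⁻¹ * f i * (if b then a else a⁻¹) * ((f j : G)⁻¹ * f i)⁻¹
                = (f j : G)⁻¹ * ((f i : G) * (if b then a else a⁻¹) * (f i : G)⁻¹) * f j := by group
              _ = _ := by rw [e']; group
          intro n
          have hz : ∀ b : Bool, Subgroup.zpowers (if b then a else a⁻¹) = Z₂ := fun b => by
            cases b <;> simp [Subgroup.zpowers_inv, hZa]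
          constructor
          · intro hn
            rw [← hz b] at hn
            obtain ⟨i', rfl⟩ := hn
            rw [← conj_zpow, e'', ← hz c]
            exact ⟨i', rfl⟩
          · intro hn
            rw [← hz c] at hn
            obtain ⟨i', hi'⟩ := hn
            change (if c then a else a⁻¹) ^ i' = _ at hi'
            rw [← e'', conj_zpow] at hi'
            rw [← mul_left_cancel (mul_right_cancel hi'), ← hz b]
            exact ⟨i', rfl⟩
        subst hij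
        have hbc : (if b then a else a⁻¹) = if c then a else a⁻¹ := mul_left_cancel (mul_right_cancel e')
        have hainv : a ≠ a⁻¹ := fun e => ha1 (by
          have h2 : a ^ 2 = 1 := by rw [pow_two]; nth_rw 2 [e]; exact mul_inv_cancel a
          rwa [pow_succ, h2, one_mul] at ha3)
        cases b <;> cases c <;> simp only [Bool.false_eq_true, if_true, if_false] at hbc
        · rfl
        · exact absurd hbc.symm hainv
        · exact absurd hbc hainv
        · rfl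
      have hcard8 : Nat.card {x : W // x ≠ 1} = 8 := by
        classical
        haveI := Fintype.ofFinite W
        rw [Nat.card_eq_fintype_card, Fintype.card_subtype_compl, Fintype.card_subtype_eq,
          ← Nat.card_eq_fintype_card, hW9]
      have hsurj : Function.Surjective pts := ((Nat.bijective_iff_injective_and_card pts).2
        ⟨hinj, by rw [hcard8, Nat.card_prod, Nat.card_fin, Nat.card_eq_fintype_card, Fintype.card_bool]⟩).2
      -- a line fixed by `g`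
      have hg2 : (g : G) * g ∈ Q₁ := by
        have := (hρk (g * g)).1 (by rw [map_mul, hu.1])
        rwa [Subgroup.coe_mul] at this
      obtain ⟨x, hxW, hx1, hfix⟩ : ∃ x ∈ W, x ≠ 1 ∧ ((g : G) * x * (g : G)⁻¹ = x ∨
          (g : G) * x * (g : G)⁻¹ = x⁻¹) := by
        set y := (f 0 : G) * a * (f 0 : G)⁻¹
        have hyW : a ∈ W := hZW haZ
        by_cases he : a * ((g : G) * a * (g : G)⁻¹) = 1
        · exact ⟨a, hyW, ha1, Or.inr (eq_inv_of_mul_eq_one_right he)⟩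
        refine ⟨_, mul_mem hyW (hWn g g.2 a hyW), he, Or.inl ?_⟩
        rw [show (g : G) * (a * ((g : G) * a * (g : G)⁻¹)) * (g : G)⁻¹ =
          (g : G) * a * (g : G)⁻¹ * ((g : G) * g * a * ((g : G) * g)⁻¹) by group,
          hQ₁comm _ hg2 a (hW hyW), mul_inv_cancel_right,
          hQ₁comm _ (hW (hWn g g.2 a hyW)) a (hW hyW)]
      obtain ⟨⟨i, b⟩, hib⟩ := hsurj ⟨⟨x, hxW⟩, fun e => hx1 (congrArg Subtype.val e)⟩
      have hib' : (f i : G) * (if b then a else a⁻¹) * (f i : G)⁻¹ = x := congrArg (fun x : {x : W // x ≠ 1} => ((x : W) : G)) hib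
      refine hcon ((f i)⁻¹ * g * f i) ?_ ?_
      · rw [← hN₂, Subgroup.mem_normalizer_iff]
        have hbz : Subgroup.zpowers (if b then a else a⁻¹) = Z₂ := by
          cases b <;> simp [Subgroup.zpowers_inv, hZa]
        have hmap : ∀ n ∈ Z₂, (((f i)⁻¹ * g * f i : A₁) : G) * n * (((f i)⁻¹ * g * f i : A₁) : G)⁻¹ ∈ Z₂ := by
          intro n hn
          rw [← hbz] at hn ⊢
          obtain ⟨j, rfl⟩ := hn
          rw [← conj_zpow]
          refine Subgroup.zpow_mem _ ?_ j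
          simp only [Subgroup.coe_mul, Subgroup.coe_inv]
          rw [show (f i : G)⁻¹ * g * f i * (if b then a else a⁻¹) * ((f i : G)⁻¹ * g * f i)⁻¹ =
            (f i : G)⁻¹ * ((g : G) * x * (g : G)⁻¹) * f i by rw [← hib']; group]
          rcases hfix with e | e <;> rw [e, ← hib']
          · rw [show (f i : G)⁻¹ * ((f i : G) * (if b then a else a⁻¹) * (f i : G)⁻¹) * f i =
              (if b then a else a⁻¹) by group]
            exact Subgroup.mem_zpowers _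
          · rw [show (f i : G)⁻¹ * ((f i : G) * (if b then a else a⁻¹) * (f i : G)⁻¹)⁻¹ * f i =
              (if b then a else a⁻¹)⁻¹ by group]
            exact inv_mem (Subgroup.mem_zpowers _)
        intro n
        refine ⟨hmap n, fun hn => ?_⟩
        obtain ⟨m, hm, e⟩ : ∃ m ∈ Z₂, (((f i)⁻¹ * g * f i : A₁) : G) * m *
            (((f i)⁻¹ * g * f i : A₁) : G)⁻¹ = (((f i)⁻¹ * g * f i : A₁) : G) * n *
            (((f i)⁻¹ * g * f i : A₁) : G)⁻¹ := by
          have hs := (Finite.injective_iff_surjective (f := fun m : Z₂ => (⟨_, hmap m m.2⟩ : Z₂))).1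
            (fun m m' e => Subtype.ext (mul_left_cancel (mul_right_cancel (congrArg Subtype.val e))))
          obtain ⟨m, hm⟩ := hs ⟨_, hn⟩
          exact ⟨m, m.2, congrArg Subtype.val hm⟩
        rw [← mul_left_cancel (mul_right_cancel e)]
        exact hm
      · have : ρ ((f i)⁻¹ * g * f i) = ρ g := by
          have hf : ρ (f i) = ![1, ρ g, ρ h, ρ g * ρ h] i := by fin_cases i <;> simp [f]
          rw [map_mul, map_mul, map_inv, hf]
          exact dbl_conj_four _ _ hu hv huv huvc i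
        rw [this]; exact hu
    -- an element of order three in the meeting
    obtain ⟨q, hq, hq1⟩ : ∃ q ∈ Q₂, q ∉ Q₁ := by
      by_contra hc; push Not at hc; exact hQ₂nc hc
    set t : A₁ := ⟨q, (hQ₂K hq).1⟩
    have hs3 : ρ t * ρ t * ρ t = 1 := by
      rw [← map_mul, ← map_mul, show t * t * t = 1 from Subtype.ext (by
        show q * q * q = 1
        have := hexp q hq
        simpa [pow_succ] using this), map_one]
    have hs1 : ρ t ≠ 1 := fun h => hq1 ((hρk t).1 h)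
    obtain ⟨hd1, hd2⟩ := dbl_conj _ _ hs3 hs1 hk
    -- images in `SL₂(3)`
    obtain ⟨⟨x, hx⟩, hxo⟩ := exists_prime_orderOf_dvd_card' (G := π₁.range) 3 (by rw [hker₁.2])
    rw [← Subgroup.orderOf_coe] at hxo
    change orderOf x = 3 at hxo
    have hx3 : x * x * x = 1 := by
      have h := pow_orderOf_eq_one x
      rw [hxo] at h
      simpa [pow_succ] using h
    have hx1 : x ≠ 1 := fun h => by simp [h] at hxo
    have hsix : ∀ y : A₁, (hy : (y : G) ∈ A₂) → IsDbl (ρ y) →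
        π ⟨(y : G) * y * y, mul_mem (mul_mem hy hy) hy⟩ = -1 := by
      intro y hy hd
      set Y : A₂ := ⟨(y : G), hy⟩
      have hin : π Y * x * (π Y)⁻¹ ∈ π₁.range := by
        obtain ⟨r, hr⟩ := hx
        refine ⟨⟨(y : G) * r * (y : G)⁻¹, hQ₁n y y.2 r r.2⟩, ?_⟩
        rw [← hr]
        show π _ = π Y * π ⟨r, _⟩ * (π Y)⁻¹
        rw [← map_inv, ← map_mul, ← map_mul]
        rfl
      have hne : π Y * x * (π Y)⁻¹ ≠ 1 := fun h => hx1 (conj_eq_one_iff.1 h)
      have h6 : π Y * π Y * π Y * (π Y * π Y * π Y) = 1 := by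
        refine sl_six x (π Y) hx3 hx1 ?_
        rcases order_three hker₁.2 (a := (⟨x, hx⟩ : π₁.range)) (b := ⟨_, hin⟩)
          (fun e => hx1 (congrArg Subtype.val e)) (fun e => hne (congrArg Subtype.val e)) with e | e
        · exact Or.inl (mul_inv_eq_iff_eq_mul.1 (congrArg Subtype.val e))
        · refine Or.inr (mul_inv_eq_iff_eq_mul.1 ((congrArg Subtype.val e).trans ?_))
          show x⁻¹ = x * x
          exact inv_eq_of_mul_eq_one_left hx3
      have he : π ⟨(y : G) * y * y, mul_mem (mul_mem hy hy) hy⟩ = π Y * π Y * π Y := by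
        rw [← map_mul, ← map_mul]; rfl
      rw [he]
      refine (sl_sq _ h6).resolve_left fun h1 => ?_
      rw [← map_mul, ← map_mul, hπk] at h1
      -- a 3-element with image of order two
      set Y3 : A₁ := ⟨(y : G) * y * y, mul_mem (mul_mem y.2 y.2) y.2⟩
      have hY3 : ρ Y3 = ρ y := by
        rw [show Y3 = y * y * y from rfl, map_mul, map_mul, hd.1, one_mul]
      have h3 : Y3 * Y3 * Y3 = 1 := Subtype.ext (by
        have := hexp _ h1
        simpa [pow_succ] using this)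
      have h4 := congrArg ρ h3
      rw [map_mul, map_mul, map_one, hY3, hd.1, one_mul] at h4
      exact hd.2.2 h4
    set l : A₁ := t * k * t⁻¹
    have hl : (l : G) ∈ A₂ := by
      show q * (k : G) * q⁻¹ ∈ A₂
      exact mul_mem (mul_mem (hQ₂A hq) hkA) (inv_mem (hQ₂A hq))
    have hdl : IsDbl (ρ l) := by rw [map_mul, map_mul, map_inv]; exact hd1
    have hdkl : IsDbl (ρ (k * l)) := by rw [map_mul, map_mul, map_mul, map_inv]; exact hd2
    have E1 := hsix k hkA hk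
    have E2 := hsix l hl hdl
    set k3 : A₁ := k * k * k
    set l3 : A₁ := l * l * l
    have hk3 : ρ k3 = ρ k := by rw [map_mul, map_mul, hk.1, one_mul]
    have hl3 : ρ l3 = ρ l := by rw [map_mul, map_mul, hdl.1, one_mul]
    have hk3A : (k3 : G) ∈ A₂ := mul_mem (mul_mem hkA hkA) hkA
    have hl3A : (l3 : G) ∈ A₂ := mul_mem (mul_mem hl hl) hl
    have h1 : ((k3 * l3 : A₁) : G) ∈ Q₂ := by
      have := (hπk (⟨k3, hk3A⟩ * ⟨l3, hl3A⟩)).1 (by
        rw [map_mul]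
        refine (congrArg₂ (· * ·) E1 E2).trans (Subtype.ext (by simp)))
      exact this
    have h3 : (k3 * l3) * (k3 * l3) * (k3 * l3) = 1 := Subtype.ext (by
      have := hexp _ h1
      simpa [pow_succ] using this)
    have h4 := congrArg ρ h3
    rw [map_mul ρ (k3 * l3 * (k3 * l3)), map_mul ρ (k3 * l3), map_one, map_mul ρ k3, hk3, hl3,
      ← map_mul ρ k l, hdkl.1, one_mul] at h4
    exact hdkl.2.2 h4
  refine ⟨a, ha, hA₂C, hsub₂, fun r hr => ?_, hQ₁A₂, hnc, ?_⟩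
  · rw [← hsub₂, Subgroup.mem_subgroupOf] at hr
    exact Subtype.ext (hexp r hr)
  rintro ⟨N, hNn, hN⟩
  have hNne : N ≠ ⊤ := fun h => by rw [h, Subgroup.index_top] at hN; omega
  have hcm : ∀ x y : G, y * x * y⁻¹ * x⁻¹ ∈ N := by
    intro x y
    have hq : Nat.card (G ⧸ N) = 3 := by rw [← Subgroup.index_eq_card, hN]
    have hc : (y : G ⧸ N) * x = x * y := by
      by_cases h1 : (x : G ⧸ N) = 1
      · rw [h1, mul_one, one_mul]
      by_cases h2 : (y : G ⧸ N) = 1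
      · rw [h2, mul_one, one_mul]
      rcases order_three hq h1 h2 with e | e <;> rw [e] <;> simp
    rw [← QuotientGroup.eq_one_iff, QuotientGroup.mk_mul, QuotientGroup.mk_mul, QuotientGroup.mk_mul, hc,
      QuotientGroup.mk_inv, QuotientGroup.mk_inv]
    group
  have hZN : Z₂ ≤ N := by
    have hle : commutator Q₂ ≤ N.subgroupOf Q₂ := by
      rw [commutator_def, Subgroup.commutator_le]
      intro x _ y _
      rw [Subgroup.mem_subgroupOf, commutatorElement_def]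
      exact hcm (y : G) x
    intro z hz
    obtain ⟨h, hc⟩ := (hZmem z).1 hz
    rw [← hQ₂es.1.2.2] at hc
    exact hle hc
  have hcases : ∀ Q : Subgroup G, Nat.card Q = 27 → ¬ Q ≤ N → Nat.card (Q ⊓ N : Subgroup G) = 9 := by
    intro Q hQ hle
    have hmul := Subgroup.card_mul_index ((Q ⊓ N).subgroupOf Q)
    rw [Nat.card_congr (Subgroup.subgroupOfEquivOfLe (inf_le_left : Q ⊓ N ≤ Q)).toEquiv, hQ] at hmul
    have hd : ((Q ⊓ N).subgroupOf Q).index ∣ 3 := by
      have h := Subgroup.relIndex_dvd_index_of_normal N Q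
      rw [hN] at h
      show (Q ⊓ N).relIndex Q ∣ 3
      rwa [Subgroup.inf_relIndex_left]
    rcases (Nat.dvd_prime Nat.prime_three).1 hd with e | e
    · rw [Subgroup.index_eq_one, Subgroup.subgroupOf_eq_top, le_inf_iff] at e
      exact absurd e.2 hle
    · rw [e] at hmul; omega
  have hQ₂N : Q₂ ≤ N := by
    by_contra h
    exact hplane (Q₂ ⊓ N) inf_le_left (le_inf hZQ hZN) (hcases _ hQ₂card h) fun g hg w hw =>
      ⟨hQ₂n g hg w hw.1, hNn.conj_mem w hw.2 g⟩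
  have hZQ₁ : Z₂ ≤ Q₁ := by
    rw [← hQ₁faith]
    intro z hz
    refine ⟨(hQ₂K (hZQ hz)).1, Subgroup.mem_centralizer_iff.2 fun x hx => ?_⟩
    have hxA : x ∈ A₂ := hQ₁A₂ hx
    rw [hA₂C, Subgroup.mem_centralizer_singleton_iff] at hxA
    obtain ⟨i, rfl⟩ : z ∈ Subgroup.zpowers a := by rw [hZa]; exact hz
    exact ((show Commute x a from hxA).zpow_right i).eq
  have hQ₁N : Q₁ ≤ N := by
    by_contra h
    exact hline (Q₁ ⊓ N) inf_le_left (le_inf hZQ₁ hZN) (hcases _ hQ₁card h) fun g hg w hw =>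
      ⟨hQ₁n g hg w hw.1, hNn.conj_mem w hw.2 g⟩
  have hA₁N : A₁ ≤ N := by
    let ρ : A₁ →* Equiv.Perm (Fin 4) := e₁.toMonoidHom.comp (QuotientGroup.mk' _)
    have hρs : Function.Surjective ρ := e₁.surjective.comp (QuotientGroup.mk'_surjective _)
    have hρk : ∀ x : A₁, ρ x = 1 → (x : G) ∈ N := fun x hx => hQ₁N (by
      change e₁ (x : A₁ ⧸ Q₁.subgroupOf A₁) = 1 at hx
      rwa [e₁.map_eq_one_iff, QuotientGroup.eq_one_iff, Subgroup.mem_subgroupOf] at hx)
    have htop : (N.subgroupOf A₁).map ρ = ⊤ := by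
      rw [eq_top_iff, ← Equiv.Perm.closure_isSwap, Subgroup.closure_le]
      intro s hs
      obtain ⟨y, rfl⟩ := hρs s
      refine ⟨y, ?_, rfl⟩
      have hy2 : (y : G) * y ∈ N := by
        have := hρk (y * y) (by
          obtain ⟨i, j, -, e⟩ := hs
          rw [map_mul, e, Equiv.swap_mul_self])
        rwa [Subgroup.coe_mul] at this
      have h3 := N.pow_index_mem (y : G)
      rw [hN] at h3
      rw [SetLike.mem_coe, Subgroup.mem_subgroupOf,
        show (y : G) = ((y : G) * y)⁻¹ * (y : G) ^ 3 by simp [pow_succ]; group]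
      exact mul_mem (inv_mem hy2) h3
    intro x hx
    obtain ⟨y, hy, he⟩ := (show ρ ⟨x, hx⟩ ∈ (N.subgroupOf A₁).map ρ by rw [htop]; trivial)
    have hq := hρk (y⁻¹ * ⟨x, hx⟩) (by rw [map_mul, map_inv, he, inv_mul_cancel])
    rw [Subgroup.coe_mul, Subgroup.coe_inv] at hq
    rw [show x = (y : G) * ((y : G)⁻¹ * x) by group]
    exact mul_mem hy hq
  have hA₂N : A₂ ≤ N := by
    have hd : (N.subgroupOf A₂).index ∣ 3 := by
      have h := Subgroup.relIndex_dvd_index_of_normal N A₂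
      rwa [hN] at h
    have hd2 : (N.subgroupOf A₂).index ∣ ((A₁ ⊓ A₂).subgroupOf A₂).index :=
      Subgroup.index_dvd_of_le fun x hx => hA₁N hx.1
    rcases (Nat.dvd_prime Nat.prime_three).1 hd with e | e
    · rwa [Subgroup.index_eq_one, Subgroup.subgroupOf_eq_top] at e
    · exact absurd (e ▸ hd2) hSyl₂
  exact hNne (eq_top_iff.2 (hgen ▸ sup_le hA₁N hA₂N))

end Cfsg.Agent.S3342Id.Amalgam

namespace Cfsg.Agent.S3342Id.Amalgam

variable {G : Type*} [Group G] [Finite G]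

/-- The amalgam theorem from the first branch of S3342. -/
theorem of_setting (A₁ A₂ : Subgroup G) (hgen : A₁ ⊔ A₂ = ⊤)
    (hSyl₁ : ¬ 3 ∣ ((A₁ ⊓ A₂).subgroupOf A₁).index) (hSyl₂ : ¬ 3 ∣ ((A₁ ⊓ A₂).subgroupOf A₂).index)
    (Q₁ Q₂ : Subgroup G) (hQ₁ : Q₁ = Cfsg.pCoreOf 3 A₁) (hQ₂ : Q₂ = Cfsg.pCoreOf 3 A₂)
    [h₁ : (Q₁.subgroupOf A₁).Normal] [h₂ : (Q₂.subgroupOf A₂).Normal]
    (e₁ : ↥A₁ ⧸ Q₁.subgroupOf A₁ ≃* Equiv.Perm (Fin 4))
    (e₂ : ↥A₂ ⧸ Q₂.subgroupOf A₂ ≃* Matrix.SpecialLinearGroup (Fin 2) (ZMod 3))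
    (hQ₁ea : Cfsg.IsElementaryAbelian 3 Q₁) (hQ₁card : Nat.card Q₁ = 27)
    (hQ₁faith : A₁ ⊓ Subgroup.centralizer (Q₁ : Set G) = Q₁)
    (hQ₂es : Cfsg.IsExtraspecial 3 ↥Q₂) (hQ₂card : Nat.card Q₂ = 27)
    (Z₂ : Subgroup G) (hZ₂ : Z₂ = Q₂ ⊓ Subgroup.centralizer (Q₂ : Set G))
    (hQ₂nat : ∀ a ∈ A₂, a ∈ Q₂ ↔ ∀ x ∈ Q₂, a * x * a⁻¹ * x⁻¹ ∈ Z₂)
    (hN₂ : Subgroup.normalizer (Z₂ : Set G) = A₂)
    (hsig : ∀ K : Subgroup G, (Nat.card K).Coprime 3 → Q₁ ≤ Subgroup.normalizer (K : Set G) → K = ⊥)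
    {P : Prop}
    (main : ∀ (a : G) (C : Subgroup G), orderOf a = 3 → C = Subgroup.centralizer ({a} : Set G) →
      Cfsg.IsExtraspecial 3 (Cfsg.pCore 3 C) → Nat.card (Cfsg.pCore 3 C) = 27 →
      (∀ r ∈ Cfsg.pCore 3 C, r ^ 3 = 1) →
      (C ⧸ Cfsg.pCore 3 C ≃* Matrix.SpecialLinearGroup (Fin 2) (ZMod 3)) →
      ∀ J : Subgroup G, J ≤ C → IsMulCommutative J → (∀ j ∈ J, j ^ 3 = 1) → Nat.card J = 27 →
      (∀ K : Subgroup G, (Nat.card K).Coprime 3 →
        (∀ j ∈ J, K.map (MulAut.conj j).toMonoidHom = K) → K = ⊥) →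
      (∀ g : G, g * a * g⁻¹ ≠ a⁻¹) → (∃ N : Subgroup G, N.Normal ∧ N.index = 3) ∨ P) :
    P := by
  obtain ⟨a, ha, hC, hsub, hexp, hQA, hnc, hno⟩ := exists_setting A₁ A₂ hgen hSyl₁ hSyl₂ Q₁ Q₂ hQ₁ hQ₂
    e₁ e₂ hQ₁ea hQ₁card hQ₁faith hQ₂es hQ₂card Z₂ hZ₂ hQ₂nat hN₂
  have hQ₂A : Q₂ ≤ A₂ := by rw [hQ₂]; exact Subgroup.map_subtype_le _
  have heq : Cfsg.pCore 3 A₂ = Q₂.subgroupOf A₂ := hsub.symm
  let ee : ↥(Cfsg.pCore 3 A₂) ≃* ↥Q₂ :=
    (MulEquiv.subgroupCongr heq).trans (Subgroup.subgroupOfEquivOfLe hQ₂A)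
  haveI : (Cfsg.pCore 3 A₂).Normal := heq ▸ h₂
  refine (main a A₂ ha hC ?_ ?_ hexp ((QuotientGroup.quotientMulEquivOfEq heq).trans e₂) Q₁ hQA
    hQ₁ea.1 hQ₁ea.2 hQ₁card (fun K hK hJ => hsig K hK fun q hq => ?_) hnc).resolve_left hno
  · refine ⟨⟨hQ₂es.1.1.of_equiv ee.symm, ?_, ?_⟩, ?_⟩
    · have h1 : frattini Q₂ = Subgroup.center Q₂ := hQ₂es.1.2.1
      have hf : (frattini (Cfsg.pCore 3 A₂)).map ee.toMonoidHom = frattini Q₂ := by
        refine le_antisymm (Subgroup.map_le_iff_le_comap.2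
          (frattini_le_comap_frattini_of_surjective ee.surjective)) fun x hx => ?_
        exact ⟨ee.symm x, frattini_le_comap_frattini_of_surjective (φ := ee.symm.toMonoidHom)
          ee.symm.surjective hx, ee.apply_symm_apply x⟩
      apply Subgroup.map_injective (f := ee.toMonoidHom) ee.injective
      rw [hf, h1]
      exact (map_center_equiv ee).symm
    · apply Subgroup.map_injective (f := ee.toMonoidHom) ee.injective
      rw [map_commutator_eq, MonoidHom.range_eq_top.2 ee.surjective, map_center_equiv, ← commutator_def]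
      exact hQ₂es.1.2.2
    · exact (Subgroup.card_map_of_injective (f := ee.toMonoidHom) ee.injective).symm.trans
        (by rw [map_center_equiv, hQ₂es.2])
  · rw [Nat.card_congr ee.toEquiv, hQ₂card]
  · rw [Subgroup.mem_normalizer_iff]
    intro n
    constructor
    · intro hn
      rw [← hJ q hq]
      exact ⟨n, hn, rfl⟩
    · intro hn
      rw [← hJ q hq] at hn
      obtain ⟨m, hm, e⟩ := hn
      change q * m * q⁻¹ = q * n * q⁻¹ at e
      rw [← mul_left_cancel (mul_right_cancel e)]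
      exact hm

end Cfsg.Agent.S3342Id.Amalgam
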