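import Cfsg.Agent.Lib.S3342Id.Neg

/-!
S3342: four by four matrices over three elements by code, and relations in `PSp₄(3)` extended by the
diagonal similitude.
-/

set_option autoImplicit false
set_option maxRecDepth 20000

namespace Cfsg.Agent.S3342Id.Seven

open Cfsg.Agent.SpAmalgam Cfsg.Agent.SpAmalgam.Four Matrix

/-- The position of a coordinate in the order `e₀ f₀ e₁ f₁`. -/
def pos : Fin 2 ⊕ Fin 2 → ℕ
  | .inl k => 2 * k
  | .inr k => 2 * k + 1

/-- The matrix with a given code. -/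
def lit (c : ℕ) : Matrix (Fin 2 ⊕ Fin 2) (Fin 2 ⊕ Fin 2) (ZMod 3) :=
  fun i j => ((c / 3 ^ (4 * pos i + pos j) % 3 : ℕ) : ZMod 3)

/-- The code is that of a symplectic matrix. -/
def isSp (c : ℕ) : Bool := decide (lit c * J (Fin 2) (ZMod 3) * (lit c)ᵀ = J (Fin 2) (ZMod 3))

/-- The symplectic matrix with a given code. -/
def g4 (c : ℕ) : G4 (ZMod 3) :=
  if h : isSp c = true then ⟨lit c, SymplecticGroup.mem_iff.2 (of_decide_eq_true h)⟩ else 1

theorem g4_val {c : ℕ} (h : isSp c = true) : (g4 c).1 = lit c := by rw [g4, dif_pos h]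

/-- Equality up to sign. -/
def eqv (A B : Matrix (Fin 2 ⊕ Fin 2) (Fin 2 ⊕ Fin 2) (ZMod 3)) : Bool := decide (A = B ∨ A = -B)

theorem mk_eq_iff {A B : G4 (ZMod 3)} :
    (QuotientGroup.mk A : Cfsg.PSp 2 (ZMod 3)) = QuotientGroup.mk B ↔ A.1 = B.1 ∨ A.1 = -B.1 := by
  rw [QuotientGroup.eq]
  constructor
  · intro h
    have hB : B.1 = A.1 * (A⁻¹ * B).1 := by
      rw [← Submonoid.coe_mul, mul_inv_cancel_left]
    rcases center_cases h with e | e
    · left
      have : (A⁻¹ * B).1 = (1 : Matrix (Fin 2 ⊕ Fin 2) (Fin 2 ⊕ Fin 2) (ZMod 3)) :=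
        Matrix.ext_of_mulVec_single fun i => by
          show mv (A⁻¹ * B) _ = _
          rw [e, mv_one, Matrix.one_mulVec]
      rw [hB, this, Matrix.mul_one]
    · right
      have : (A⁻¹ * B).1 = -(1 : Matrix (Fin 2 ⊕ Fin 2) (Fin 2 ⊕ Fin 2) (ZMod 3)) :=
        Matrix.ext_of_mulVec_single fun i => by
          show mv (A⁻¹ * B) _ = _
          rw [e, Matrix.neg_mulVec, Matrix.one_mulVec]
      rw [hB, this, Matrix.mul_neg, Matrix.mul_one, neg_neg]
  · rintro (h | h)
    · rw [Subtype.ext h, inv_mul_cancel]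
      exact one_mem _
    · set Z : G4 (ZMod 3) := ⟨-1, SymplecticGroup.mem_iff.2 (by
        rw [Matrix.transpose_neg, Matrix.transpose_one, Matrix.neg_mul, Matrix.one_mul, Matrix.neg_mul,
          Matrix.mul_neg, Matrix.mul_one, neg_neg])⟩ with hZ
      have hB : B = A * Z := Subtype.ext (by
        rw [Submonoid.coe_mul, h, hZ]
        show B.1 = -B.1 * -1
        rw [Matrix.neg_mul, Matrix.mul_neg, neg_neg, Matrix.mul_one])
      rw [hB, inv_mul_cancel_left]
      exact Subgroup.mem_center_iff.2 fun g => Subtype.ext (by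
        rw [Submonoid.coe_mul, Submonoid.coe_mul, hZ]
        show g.1 * -1 = -1 * g.1
        rw [Matrix.mul_neg, Matrix.mul_one, Matrix.neg_mul, Matrix.one_mul])

/-- The product of two outer elements. -/
def dm (a b : ℕ) : Matrix (Fin 2 ⊕ Fin 2) (Fin 2 ⊕ Fin 2) (ZMod 3) := dmat * lit a * dmat * lit b

theorem dlt_mul_val {a b : ℕ} (ha : isSp a = true) (hb : isSp b = true) :
    (dlt (g4 a) * g4 b).1 = dm a b := by
  show dmat * (g4 a).1 * dmat * (g4 b).1 = _
  rw [g4_val ha, g4_val hb, dm]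

variable {G : Type*} [Group G]

/-- The extension of `PSp₄(3)` by the similitude inside `G`. -/
structure Ext (f : Cfsg.PSp 2 (ZMod 3) →* G) (n : G) : Prop where
  inj : Function.Injective f
  sq : n * n = 1
  act : ∀ q, n * f (QuotientGroup.mk q) * n⁻¹ = f (QuotientGroup.mk (dlt q))
  out : n ∉ f.range

/-- An inner element by code. -/
def P (f : Cfsg.PSp 2 (ZMod 3) →* G) (c : ℕ) : G := f (QuotientGroup.mk (g4 c))

/-- An outer element by code. -/
def O (f : Cfsg.PSp 2 (ZMod 3) →* G) (n : G) (c : ℕ) : G := n * P f c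

variable {f : Cfsg.PSp 2 (ZMod 3) →* G} {n : G}

theorem eq_of_eqv {A B : G4 (ZMod 3)} {X Y : Matrix (Fin 2 ⊕ Fin 2) (Fin 2 ⊕ Fin 2) (ZMod 3)}
    (hA : A.1 = X) (hB : B.1 = Y) (h : eqv X Y = true) :
    f (QuotientGroup.mk A) = f (QuotientGroup.mk B) := by
  refine congrArg f (mk_eq_iff.2 ?_)
  rw [hA, hB]
  exact of_decide_eq_true h

theorem P_one {c : ℕ} (hc : isSp c = true) (h : eqv (lit c) 1 = true) : P f c = 1 := by
  rw [P, eq_of_eqv (B := 1) (g4_val hc) rfl h, QuotientGroup.mk_one, map_one]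

theorem P_mul {a b c : ℕ} (ha : isSp a = true) (hb : isSp b = true) (hc : isSp c = true)
    (h : eqv (lit a * lit b) (lit c) = true) : P f a * P f b = P f c := by
  rw [P, P, P, ← map_mul, ← QuotientGroup.mk_mul]
  exact eq_of_eqv (by rw [Submonoid.coe_mul, g4_val ha, g4_val hb]) (g4_val hc) h

namespace Ext

variable (E : Ext f n)
include E

theorem inv_n : n⁻¹ = n := inv_eq_of_mul_eq_one_right E.sq

theorem O_mul_O (a b : ℕ) : O f n a * O f n b = f (QuotientGroup.mk (dlt (g4 a) * g4 b)) := by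
  rw [QuotientGroup.mk_mul, map_mul, ← E.act, O, O, P, P, E.inv_n]
  group

theorem O_sq {a : ℕ} (ha : isSp a = true) (h : eqv (dm a a) 1 = true) : O f n a * O f n a = 1 := by
  rw [E.O_mul_O, eq_of_eqv (B := 1) (dlt_mul_val ha ha) rfl h, QuotientGroup.mk_one, map_one]

theorem O_ne_one (a : ℕ) : O f n a ≠ 1 := fun h => E.out (by
  rw [eq_inv_of_mul_eq_one_left h, P, ← map_inv]
  exact ⟨_, rfl⟩)

theorem O_ne {a b : ℕ} (ha : isSp a = true) (hb : isSp b = true) (h : eqv (lit a) (lit b) = false) :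
    O f n a ≠ O f n b := fun e => by
  have e' := mk_eq_iff.1 (E.inj (mul_left_cancel e))
  rw [g4_val ha, g4_val hb] at e'
  exact of_decide_eq_false h e'

theorem O_comm {a b : ℕ} (ha : isSp a = true) (hb : isSp b = true)
    (h : eqv (dm a b) (dm b a) = true) : Commute (O f n a) (O f n b) := by
  show O f n a * O f n b = O f n b * O f n a
  rw [E.O_mul_O, E.O_mul_O]
  exact eq_of_eqv (dlt_mul_val ha hb) (dlt_mul_val hb ha) h

theorem O_braid {a b : ℕ} (ha : isSp a = true) (hb : isSp b = true)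
    (h : eqv (dm a b * dm a b * dm a b) 1 = true) :
    O f n a * O f n b * (O f n a * O f n b) * (O f n a * O f n b) = 1 := by
  rw [E.O_mul_O, ← map_mul, ← map_mul, ← QuotientGroup.mk_mul, ← QuotientGroup.mk_mul,
    eq_of_eqv (B := 1) (X := dm a b * dm a b * dm a b) (Y := 1)
      (by rw [Submonoid.coe_mul, Submonoid.coe_mul, dlt_mul_val ha hb]) rfl h, QuotientGroup.mk_one, map_one]

theorem P_conj_O {p a b : ℕ} (hp : isSp p = true) (ha : isSp a = true) (hb : isSp b = true)
    (h : eqv (dmat * lit p * dmat * lit a) (lit b * lit p) = true) :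
    P f p * O f n a * (P f p)⁻¹ = O f n b := by
  rw [mul_inv_eq_iff_eq_mul, O, O, P, P, P, ← mul_assoc]
  calc f (QuotientGroup.mk (g4 p)) * n * f (QuotientGroup.mk (g4 a))
      = n * (n * f (QuotientGroup.mk (g4 p)) * n⁻¹) * f (QuotientGroup.mk (g4 a)) := by
        rw [E.inv_n, ← mul_assoc, ← mul_assoc, E.sq, one_mul]
    _ = n * f (QuotientGroup.mk (dlt (g4 p) * g4 a)) := by
        rw [E.act, QuotientGroup.mk_mul, map_mul, mul_assoc]
    _ = n * f (QuotientGroup.mk (g4 b * g4 p)) := by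
        rw [eq_of_eqv (B := g4 b * g4 p) (dlt_mul_val hp ha)
          (by rw [Submonoid.coe_mul, g4_val hb, g4_val hp]) h]
    _ = _ := by rw [QuotientGroup.mk_mul, map_mul, mul_assoc]

theorem O_conj_P {a p q : ℕ} (ha : isSp a = true) (hp : isSp p = true) (hq : isSp q = true)
    (hinv : eqv (dm a a) 1 = true) (h : eqv (dmat * (lit a * lit p) * dmat * lit a) (lit q) = true) :
    O f n a * P f p * (O f n a)⁻¹ = P f q := by
  rw [inv_eq_of_mul_eq_one_right (E.O_sq ha hinv)]
  calc O f n a * P f p * O f n a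
      = n * f (QuotientGroup.mk (g4 a * g4 p)) * n⁻¹ * P f a := by
        rw [O, P, P, QuotientGroup.mk_mul, map_mul, E.inv_n]
        group
    _ = f (QuotientGroup.mk (dlt (g4 a * g4 p) * g4 a)) := by
        rw [E.act, P, ← map_mul, QuotientGroup.mk_mul]
    _ = _ := eq_of_eqv (by
        show dmat * (g4 a * g4 p).1 * dmat * (g4 a).1 = _
        rw [Submonoid.coe_mul, g4_val ha, g4_val hp]) (g4_val hq) h

theorem mem_of_step {H : Subgroup G} {i k p c : ℕ} (hi : isSp i = true) (hk : isSp k = true)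
    (hp : isSp p = true) (hc : isSp c = true) (hiH : O f n i ∈ H) (hkH : O f n k ∈ H) (hpH : P f p ∈ H)
    (h : eqv (lit p * dm i k) (lit c) = true) : P f c ∈ H := by
  have e : P f p * (O f n i * O f n k) = P f c := by
    rw [E.O_mul_O, P, P, ← map_mul, ← QuotientGroup.mk_mul]
    exact eq_of_eqv (by rw [Submonoid.coe_mul, g4_val hp, dlt_mul_val hi hk]) (g4_val hc) h
  rw [← e]
  exact mul_mem hpH (mul_mem hiH hkH)

end Ext

end Cfsg.Agent.S3342Id.Seven
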