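import Cfsg.Agent.Lib.S3342Id.Rel
import Cfsg.Agent.Lib.Hayden.Swap

/-!
S3342: the embedding of `PSp₄(3)` from coordinates on the centraliser, the exchange involution and the
commutation of the two Levi factors.
-/

set_option autoImplicit false
set_option maxRecDepth 20000
set_option synthInstance.maxSize 10000

namespace Cfsg.Agent.S3342Id

open Cfsg.Agent.SpAmalgam Cfsg.Agent.SpAmalgam.Four Cfsg.Agent.HeisSLThree Cfsg.Agent.Hayden

theorem md_dict : md 1 = hv ![1, 0] 0 ∧ md 18 = hv 0 (-1) ∧ md 27 = hg (uu 1) ∧ md 81 = hg (dd (-1)) :=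
  ⟨mod_ext (by decide +kernel), mod_ext (by decide +kernel), mod_ext (by decide +kernel),
    mod_ext (by decide +kernel)⟩

theorem chk_left_one : ∀ i < 648, (hs (i % 27)).vec 0 = 0 → (hs (i % 27)).vec 1 = 0 →
    (hs (i % 27)).cen = 0 → i % 27 = 0 := by decide +kernel

theorem md_levi (k : ℕ) : md (27 * k) = hg (slm k) := by
  refine SemidirectProduct.ext ?_ ?_
  · show hs (27 * k % 27) = 1
    rw [Nat.mul_mod_right]
    exact Hs.ext (funext fun i => by fin_cases i <;> decide) (by decide)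
  · show slm (27 * k / 27) = slm k
    rw [Nat.mul_div_cancel_left _ (by norm_num)]

theorem exists_hg_index (g : S2 (ZMod 3)) : ∃ k < 24, md (27 * k) = hg g := by
  obtain ⟨i, hi, hie⟩ := md_surj (hg g)
  have hl : hs (i % 27) = (1 : Hs) := congrArg SemidirectProduct.left hie
  have h0 := chk_left_one i hi (by rw [hl]; rfl) (by rw [hl]; rfl) (by rw [hl]; rfl)
  exact ⟨i / 27, by omega, by rw [show 27 * (i / 27) = i by omega, hie]⟩

theorem chk_gen : (∃ k < 24, cj (27 * k) 1 = 3) ∧
    (∀ r < 27, ∃ x < 3, ∃ y < 3, ∃ t < 3, T (T x (3 * y)) (9 * t) = r) ∧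
    T 1 1 = 2 ∧ T 3 3 = 6 ∧ T 9 9 = 18 ∧
    (∀ i < 648, T (i % 27) (27 * (i / 27)) = i) := by decide +kernel

theorem chk_central_trivial : ∀ e < 648, (T e 9 = T 9 e) → T e 1 = T 1 e →
    (∀ k < 24, T e (27 * k) = T (27 * k) e) → e = 0 ∨ e = 9 ∨ e = 18 := by decide +kernel

theorem chk_centre_moved : ∀ e ∈ [54, 27], ∃ k < 24, T e (27 * k) ≠ T (27 * k) e := by decide +kernel

variable {G : Type*} [Group G] {el : ℕ → G}

/-- The homomorphism of the model given by coordinates. -/
noncomputable def modHom (C : Cfg el) : Mod →* G :=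
  MonoidHom.mk' (fun m => el (md_surj m).choose) fun m m' => by
    obtain ⟨hi, hie⟩ := (md_surj m).choose_spec
    obtain ⟨hj, hje⟩ := (md_surj m').choose_spec
    obtain ⟨hk, hke⟩ := (md_surj (m * m')).choose_spec
    rw [C.mul _ hi _ hj, md_inj hk (T_lt hi hj) (by rw [hke, ← md_mul hi hj, hie, hje])]

theorem modHom_md (C : Cfg el) {i : ℕ} (hi : i < 648) : modHom C (md i) = el i := by
  obtain ⟨hj, hje⟩ := (md_surj (md i)).choose_spec
  show el _ = el i
  rw [md_inj hj hi hje]

theorem modHom_injective (C : Cfg el) : Function.Injective (modHom C) := by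
  intro m m' h
  obtain ⟨i, hi, rfl⟩ := md_surj m
  obtain ⟨j, hj, rfl⟩ := md_surj m'
  rw [modHom_md C hi, modHom_md C hj] at h
  rw [C.inj i hi j hj h]

theorem lev_index (C : Cfg el) (g : S2 (ZMod 3)) : ∃ k < 24, lev (modHom C) g = el (27 * k) := by
  obtain ⟨k, hk, hke⟩ := exists_hg_index g
  exact ⟨k, hk, by rw [lev_apply, ← hke, modHom_md C (by omega)]⟩

/-- The embedding of the configuration, with the images of the generators. -/
theorem exists_psp_std {s : G} (C : Cfg el) (S : C.Sw s)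
    (hcomm : ∀ k < 24, ∀ l < 24, Commute (el (27 * k)) (s * el (27 * l) * s⁻¹)) :
    ∃ f : Cfsg.PSp 2 (ZMod 3) →* G, Function.Injective f ∧
      (∀ g, f (QuotientGroup.mk (emb 0 g)) = lev (modHom C) g) ∧
      (∀ g, f (QuotientGroup.mk (emb 1 g)) = s * lev (modHom C) g * s⁻¹) ∧
      f (QuotientGroup.mk x4) = el 1 ∧ f (QuotientGroup.mk swap4) = s ∧
      ∀ i < 648, el i ∈ f.range := by
  obtain ⟨d1, d18, d27, d81⟩ := md_dict
  set ι := modHom C
  have x1 : ι (hv ![1, 0] 0) = el 1 := by rw [← d1, modHom_md C (by norm_num)]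
  have xz : lev ι (dd (-1)) = el 81 := by rw [lev_apply, ← d81, modHom_md C (by norm_num)]
  have xu : lev ι (uu 1) = el 27 := by rw [lev_apply, ← d27, modHom_md C (by norm_num)]
  have x18 : ι (hv 0 (-1)) = el 18 := by rw [← d18, modHom_md C (by norm_num)]
  have si : s⁻¹ = s := inv_eq_of_mul_eq_one_right S.sq
  have a1 : s * el 1 * s⁻¹ = el 1 := by
    have h := S.act 3 (by norm_num)
    rwa [show vi 3 = 1 by decide +kernel, show vi (app swMap 3) = 1 by decide +kernel] at h
  have a9 : s * el 9 * s⁻¹ = el 54 := by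
    have h := S.act 1 (by norm_num)
    rwa [show vi 1 = 9 by decide +kernel, show vi (app swMap 1) = 54 by decide +kernel] at h
  have a18 : s * el 18 * s⁻¹ = el 27 := by
    have h := S.act 2 (by norm_num)
    rwa [show vi 2 = 18 by decide +kernel, show vi (app swMap 2) = 27 by decide +kernel] at h
  have a27 : s * el 27 * s⁻¹ = el 18 := by
    have h := S.act 9 (by norm_num)
    rwa [show vi 9 = 27 by decide +kernel, show vi (app swMap 9) = 18 by decide +kernel] at h
  have a54 : s * el 54 * s⁻¹ = el 9 := by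
    have h := S.act 18 (by norm_num)
    rwa [show vi 18 = 54 by decide +kernel, show vi (app swMap 18) = 9 by decide +kernel] at h
  obtain ⟨f, hf, h0, h1, hx⟩ := exists_hom_psp_model (modHom_injective C) S.sq
    (by rw [x1]; exact mul_inv_eq_iff_eq_mul.1 a1) (by rw [xz]; exact S.z)
    (by rw [xu, x18]; exact a27)
    (fun g h => by
      obtain ⟨k, hk, ek⟩ := lev_index C g
      obtain ⟨l, hl, el'⟩ := lev_index C h
      rw [ek, el']
      exact hcomm k hk l hl)
  have r27 : ∀ k < 24, el (27 * k) ∈ f.range := fun k hk => by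
    refine ⟨_, (h0 (slm k)).trans ?_⟩
    have e := md_levi k
    rw [lev_apply, ← e, modHom_md C (by omega)]
  have r1 : el 1 ∈ f.range := ⟨_, hx.trans x1⟩
  have rs : ∀ k < 24, s * el (27 * k) * s⁻¹ ∈ f.range := fun k hk => by
    obtain ⟨p, hp⟩ := r27 k hk
    refine ⟨QuotientGroup.mk (emb 1 (slm k)), (h1 (slm k)).trans ?_⟩
    have e := md_levi k
    rw [lev_apply, ← e, modHom_md C (by omega)]
  obtain ⟨⟨k3, hk3, hk3e⟩, hdec, h11, h33, h99, hsplit⟩ := chk_gen
  have r3 : el 3 ∈ f.range := by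
    have h := mul_mem (mul_mem (r27 k3 hk3) r1) (inv_mem (r27 k3 hk3))
    rwa [C.conj (by omega) (by norm_num), hk3e] at h
  have r9 : el 9 ∈ f.range := by rw [← a54]; exact rs 2 (by norm_num)
  have r0 : el 0 ∈ f.range := by rw [C.el_zero]; exact one_mem _
  have hxs : ∀ c < 3, el c ∈ f.range ∧ el (3 * c) ∈ f.range ∧ el (9 * c) ∈ f.range := by
    intro c hc
    interval_cases c
    · exact ⟨r0, r0, r0⟩
    · exact ⟨r1, r3, r9⟩
    · refine ⟨?_, ?_, ?_⟩
      · exact (congrArg el h11) ▸ (C.mul 1 (by norm_num) 1 (by norm_num) ▸ mul_mem r1 r1)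
      · exact (congrArg el (h33.trans (show 6 = 3 * 2 by norm_num))) ▸ (C.mul 3 (by norm_num) 3 (by norm_num) ▸ mul_mem r3 r3)
      · exact (congrArg el (h99.trans (show 18 = 9 * 2 by norm_num))) ▸ (C.mul 9 (by norm_num) 9 (by norm_num) ▸ mul_mem r9 r9)
  have hall : ∀ i < 648, el i ∈ f.range := by
    intro i hi
    have hr : el (i % 27) ∈ f.range := by
      obtain ⟨x, hx', y, hy, t, ht, h⟩ := hdec (i % 27) (Nat.mod_lt _ (by norm_num))
      rw [← h, ← C.mul _ (T_lt (by omega) (by omega)) _ (by omega), ← C.mul _ (by omega) _ (by omega)]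
      exact mul_mem (mul_mem (hxs x hx').1 (hxs y hy).2.1) (hxs t ht).2.2
    rw [← hsplit i hi, ← C.mul _ (by omega) _ (by omega)]
    exact mul_mem hr (r27 _ (by omega))
  -- the exchange
  set w := f (QuotientGroup.mk swap4) with hw
  have hrel := rel4_sp (K := ZMod 3) (-1 : (ZMod 3)ˣ)
  have hwφ : ∀ g, w * lev ι g * w⁻¹ = s * lev ι g * s⁻¹ := fun g => by
    rw [hw, ← h0, ← map_inv, ← map_mul, ← map_mul, ← QuotientGroup.mk_inv, ← QuotientGroup.mk_mul,
      ← QuotientGroup.mk_mul, swap4_emb, h0, h1]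
  have hw2 : w * w = 1 := by rw [hw, ← map_mul, ← QuotientGroup.mk_mul, hrel.s2, QuotientGroup.mk_one, map_one]
  have hwi : w⁻¹ = w := inv_eq_of_mul_eq_one_right hw2
  have hwx : Commute w (el 1) := by
    rw [← x1, ← hx, hw]
    exact (Commute.map (Commute.map hrel.sx (QuotientGroup.mk' _)) f)
  set d := s⁻¹ * w with hd
  have hdφ : ∀ k < 24, Commute d (el (27 * k)) := fun k hk => by
    have e := md_levi k
    have h := hwφ (slm k)
    rw [lev_apply, ← e, modHom_md C (by omega)] at h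
    refine mul_inv_eq_iff_eq_mul.1 ?_
    calc s⁻¹ * w * el (27 * k) * (s⁻¹ * w)⁻¹ = s⁻¹ * (w * el (27 * k) * w⁻¹) * s := by group
      _ = _ := by rw [h]; group
  have hd1 : Commute d (el 1) := Commute.mul_left (Commute.inv_left (mul_inv_eq_iff_eq_mul.1 a1)) hwx
  have hd9 : Commute d (el 9) := by
    have h := hwφ (uu 1)
    rw [xu, a27] at h
    have h' : w * el 18 * w⁻¹ = el 27 := by
      rw [← h, show w * (w * el 27 * w⁻¹) * w⁻¹ = w * w * el 27 * (w * w)⁻¹ by group, hw2]
      group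
    have h18 : Commute d (el 18) := by
      refine mul_inv_eq_iff_eq_mul.1 ?_
      calc s⁻¹ * w * el 18 * (s⁻¹ * w)⁻¹ = s⁻¹ * (w * el 18 * w⁻¹) * s := by group
        _ = _ := by rw [h', ← a18]; group
    have e : el 9 = el 18 * el 18 := by
      rw [C.mul 18 (by norm_num) 18 (by norm_num), show T 18 18 = 9 by decide +kernel]
    rw [e]
    exact h18.mul_right h18
  obtain ⟨i, hi, hie⟩ := (C.mem d).1 hd9.eq
  rw [← hie] at hdφ hd1 hd9
  have hcases := chk_central_trivial i hi ((C.comm_iff hi (by norm_num)).1 hd9.eq)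
    ((C.comm_iff hi (by norm_num)).1 hd1.eq) fun k hk => (C.comm_iff hi (by omega)).1 (hdφ k hk).eq
  refine ⟨f, hf, h0, h1, hx.trans x1, ?_, hall⟩
  suffices hi0 : i = 0 by
    rw [hi0, C.el_zero] at hie
    rw [← hw]
    exact (inv_mul_eq_one.1 hie.symm).symm
  -- the central part commutes with the second Levi factor
  have hcent : ∀ k < 24, Commute (el i) (s * el (27 * k) * s⁻¹) := by
    intro k hk
    have e := md_levi k
    have h := hwφ (slm k)
    rw [lev_apply, ← e, modHom_md C (by omega)] at h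
    rw [hie, ← h]
    refine mul_inv_eq_iff_eq_mul.1 ?_
    calc s⁻¹ * w * (w * el (27 * k) * w⁻¹) * (s⁻¹ * w)⁻¹
        = s⁻¹ * (w * w) * el (27 * k) * (w * w)⁻¹ * s := by group
      _ = w * el (27 * k) * w⁻¹ := by rw [hw2, h, si]; group
  have hse : ∀ e < 648, el e = s * el i * s⁻¹ → ∀ k < 24, T e (27 * k) = T (27 * k) e := by
    intro e he hee k hk
    refine (C.comm_iff he (by omega)).1 ?_
    rw [hee]
    have h := (Commute.conj_iff s).2 (hcent k hk)
    rwa [show s * (s * el (27 * k) * s⁻¹) * s⁻¹ = (s * s) * el (27 * k) * (s * s)⁻¹ by group, S.sq,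
      one_mul, inv_one, mul_one] at h
  rcases hcases with rfl | rfl | rfl
  · rfl
  · obtain ⟨k, hk, hne⟩ := chk_centre_moved 54 (by simp)
    exact absurd (hse 54 (by norm_num) a9.symm k hk) hne
  · obtain ⟨k, hk, hne⟩ := chk_centre_moved 27 (by simp)
    exact absurd (hse 27 (by norm_num) a18.symm k hk) hne

/-- The relations of the configuration. -/
theorem exists_psp {s : G} (C : Cfg el) (S : C.Sw s)
    (hcomm : ∀ k < 24, ∀ l < 24, Commute (el (27 * k)) (s * el (27 * l) * s⁻¹))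
    {F : Type*} [Field F] [Fintype F] (hF : Fintype.card F = 3) :
    ∃ f : Cfsg.PSp 2 F →* G, Function.Injective f ∧ (∀ i < 648, el i ∈ f.range) ∧ s ∈ f.range := by
  obtain ⟨f, hf, -, -, -, hs, hall⟩ := exists_psp_std C S hcomm
  set E := (nonempty_pspCongr (ZMod.ringEquivOfPrime F Nat.prime_three hF)).some.symm
  have hE : (f.comp E.toMonoidHom).range = f.range := by
    ext y
    exact ⟨fun ⟨q, hq⟩ => ⟨_, hq⟩, fun ⟨q, hq⟩ => ⟨E.symm q, by
      show f (E (E.symm q)) = y
      rw [MulEquiv.apply_symm_apply]; exact hq⟩⟩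
  refine ⟨f.comp E.toMonoidHom, hf.comp (MulEquiv.injective _), ?_, ?_⟩ <;> rw [hE]
  · exact hall
  · exact ⟨_, hs⟩

end Cfsg.Agent.S3342Id
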