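import Cfsg.Agent.Lib.S3342Id.BigCore
import Cfsg.Agent.Lib.S3342Id.BigTop
import Cfsg.Agent.Lib.S3342Id.LocalCent

/-!
S3342: the type of eight gives the automorphism group of `PSp₄(3)` or `Sp₆(2)`.
-/

set_option autoImplicit false
set_option maxRecDepth 20000
set_option synthInstance.maxSize 10000
set_option linter.style.haveILetI false

namespace Cfsg.Agent.S3342Id

open Cfsg.Agent.Hayden Cfsg.Agent.Hayden.Cfg

variable {G : Type*} [Group G] [Finite G] {el : ℕ → G}

/-- The two possible groups in the type of eight. -/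
theorem type_eight (C : Cfg el) (hO : ∀ v < 27, C.Orb v ↔ v ∈ O8)
    {F : Type*} [Field F] [Fintype F] (hF : Fintype.card F = 3)
    {F₂ : Type*} [Field F₂] [Fintype F₂] (hF₂ : Fintype.card F₂ = 2) :
    Nonempty (G ≃* MulAut (Cfsg.PSp 2 F)) ∨ Nonempty (G ≃* Matrix.symplecticGroup (Fin 3) F₂) := by
  obtain ⟨s, S⟩ := C.exists_sw (by simp : O8 ∈ [O4, O8]) hO
  obtain ⟨m, N⟩ := C.exists_neg hO S
  have h10 : cg el 10 ≤ Subgroup.normalizer (C.VJ : Set G) := LocalCent.cent_10_le_O8 C hO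
  have hp : ∀ g, Commute g (el (vi 10)) → g ∈ Subgroup.normalizer (C.VJ : Set G) := fun g hg =>
    h10 (Subgroup.mem_centralizer_singleton_iff.2 hg.eq)
  rcases LocalCent.cent_63_O8 C hO with h19 | ⟨K, comm, cov, ⟨ψ⟩⟩
  · left
    obtain ⟨hcomm, hcz⟩ := S3342CentZ.small_facts C S N hO hp fun g hg =>
      h19 (Subgroup.mem_centralizer_singleton_iff.2 hg.eq)
    exact Closure.nonempty_aut_small C S N hO hcomm hcz h10 h19 hF
  · right
    obtain ⟨E, hE, hE2, hE4, hE8, hgap⟩ := Seven.exists_core C S N comm cov ψ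
    obtain ⟨hcomm, heq4, hcz⟩ := S3342CentZ.exists_facts C S N hO hp hE hE2 hE4 hgap
    have h63 : vi 19 = 63 := by decide +kernel
    have L : Seven.Loc el s K E := by
      refine ⟨comm, cov, fun e he => ⟨?_, (hE.mem e he).1⟩, hE8, fun g hgj hgz e he => ?_,
        fun k hk hk2 e he => heq4 e he k hk hk2⟩
      · have := (hE.mem e he).2
        rwa [h63] at this
      · exact hE.nor g hgz (by rwa [h63]) e he
    refine Closure.nonempty_sp62_big C S N hO hcomm L ψ (hcz.trans ?_) h10 hF₂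
    exact (Nat.mul_le_mul_left 1152 hE4).trans (by norm_num)

end Cfsg.Agent.S3342Id
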