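import Cfsg.Agent.Lib.S3342Id.WCheck
import Mathlib.GroupTheory.Transfer
import Mathlib.GroupTheory.Sylow

/-!
S3342: subgroups of `O₆⁻(2)` of order prime to three without conjugates of the central involution have
fewer than forty-five elements.
-/

set_option autoImplicit false
set_option maxRecDepth 100000

namespace Cfsg.Agent.S3342Id.Closure

open Cfsg.Agent.CosetCert Cfsg.Agent.S3342Id Cfsg.Agent.CosetData Cfsg.Agent.FischerPresented WData Matrix

/-- The subgroup of the six transvections. -/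
def W : Subgroup Sp62 := Subgroup.closure (tg '' {i | i ∈ six})

/-- The central involution. -/
def z0 : Sp62 := wprod tg w81

/-- The element at a position. -/
def elw (i : ℕ) : Sp62 := wprod tg (words.getD i [])

theorem six_lt : ∀ i ∈ six, i < 7 := by decide

theorem tg_sq (i : ℕ) : tg i * tg i = 1 := tv_sq _

theorem tg_mem {i : ℕ} (hi : i ∈ six) : tg i ∈ W := Subgroup.subset_closure ⟨i, hi, rfl⟩

theorem wprod_mem_W : ∀ {w : List ℕ}, (∀ i ∈ w, i ∈ six) → wprod tg w ∈ W
  | [], _ => one_mem _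
  | i :: w, h => by
    rw [wprod_cons]
    exact mul_mem (tg_mem (h i List.mem_cons_self))
      (wprod_mem_W fun j hj => h j (List.mem_cons_of_mem _ hj))

theorem mem_six_of_contains {i : ℕ} (h : six.contains i = true) : i ∈ six := List.contains_iff_mem.1 h

theorem words_six (i : ℕ) : ∀ j ∈ words.getD i [], j ∈ six := by
  intro j hj
  by_cases hi : i < words.length
  · rw [List.getD_eq_getElem _ _ hi] at hj
    have h := words_ok
    simp only [Bool.and_eq_true, List.all_eq_true] at h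
    exact mem_six_of_contains (h.1.1.1.1.2 _ (List.getElem_mem hi) j hj)
  · rw [List.getD_eq_default _ _ (not_lt.1 hi)] at hj
    simp at hj

theorem elw_mem (i : ℕ) : elw i ∈ W := wprod_mem_W (words_six i)

theorem rep_elw (i : ℕ) : Rep (elw i) (cw i) := rep_word fun j hj => six_lt _ (words_six i j hj)

theorem w81_six : ∀ i ∈ w81, i ∈ six := by decide

theorem z0_mem : z0 ∈ W := wprod_mem_W w81_six

theorem rep_z0 : Rep z0 (wcd w81) := rep_word fun j hj => six_lt _ (w81_six j hj)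

theorem wprod_one (i : ℕ) : wprod tg [i] = tg i := by simp [wprod_cons, wprod_nil]

/-! ### The table -/

theorem elw_zero : elw 0 = 1 :=
  rep_inj (rep_elw 0) ((Nat.eq_of_beq_eq_true (by
    have h := words_ok
    simp only [Bool.and_eq_true, decide_eq_true_eq] at h
    exact h.2)) ▸ rep_one)

theorem table_spec {i : ℕ} (hi : i < 128) :
    mv' i < 128 ∧ mt (mv' i) i = 0 ∧ mt i (mv' i) = 0 ∧
      ∀ j < 128, mt i j < 128 ∧ elw i * elw j = elw (mt i j) := by
  have h := table_ok
  simp only [List.all_eq_true, Bool.and_eq_true, List.mem_range, Nat.blt_eq] at h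
  obtain ⟨⟨⟨h1, h2⟩, h3⟩, h4⟩ := h i hi
  refine ⟨h1, Nat.eq_of_beq_eq_true h2, Nat.eq_of_beq_eq_true h3, fun j hj => ⟨(h4 j hj).1, ?_⟩⟩
  exact eq_of_code (rep_mul (rep_elw i) (rep_elw j)) (rep_elw _) (Nat.eq_of_beq_eq_true (h4 j hj).2)

theorem elw_inv {i : ℕ} (hi : i < 128) : (elw i)⁻¹ = elw (mv' i) := by
  obtain ⟨h1, -, h3, h4⟩ := table_spec hi
  refine (eq_inv_of_mul_eq_one_right ?_).symm
  rw [(h4 _ h1).2, h3, elw_zero]

theorem elw_inj {i j : ℕ} (hi : i < 128) (hj : j < 128) (h : elw i = elw j) : i = j := by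
  obtain ⟨ha, hb⟩ := assoc_ok
  simp only [List.all_eq_true, List.mem_range] at ha
  simp only [List.all_eq_true, Bool.or_eq_true, Bool.not_eq_true', List.mem_range] at hb
  have key : mt (mv' i) j = 0 := by
    obtain ⟨h1, -, -, -⟩ := table_spec hi
    obtain ⟨hlt, e⟩ := (table_spec h1).2.2.2 j hj
    rcases hb _ hlt with h0 | h0
    · exact Nat.eq_of_beq_eq_true h0
    · exfalso
      rw [← elw_inv hi, h, inv_mul_cancel] at e
      have := rep_unique (rep_elw (mt (mv' i) j)) (e ▸ rep_one)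
      rw [this, Nat.beq_refl] at h0
      exact absurd h0 (by decide)
  have h5 := Nat.eq_of_beq_eq_true (ha i hi j hj)
  have h6 := Nat.eq_of_beq_eq_true (ha i hi i hi)
  rw [(table_spec hi).2.1] at h6
  rw [key] at h5
  exact h6.symm.trans h5

/-- The subgroup of order `128`. -/
def SW : Subgroup Sp62 where
  carrier := {A | ∃ i < 128, elw i = A}
  mul_mem' := by
    rintro _ _ ⟨i, hi, rfl⟩ ⟨j, hj, rfl⟩
    exact ⟨_, ((table_spec hi).2.2.2 j hj).1, ((table_spec hi).2.2.2 j hj).2.symm⟩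
  one_mem' := ⟨0, by norm_num, elw_zero⟩
  inv_mem' := by
    rintro _ ⟨i, hi, rfl⟩
    exact ⟨_, (table_spec hi).1, (elw_inv hi).symm⟩

theorem SW_le : SW ≤ W := by
  rintro _ ⟨i, -, rfl⟩
  exact elw_mem i

theorem card_SW : Nat.card SW = 128 := by
  have e : Fin 128 ≃ SW := Equiv.ofBijective (fun i => ⟨elw i, i, i.2, rfl⟩)
    ⟨fun i j h => Fin.ext (elw_inj i.2 j.2 (congrArg Subtype.val h)),
      fun ⟨_, i, hi, rfl⟩ => ⟨⟨i, hi⟩, rfl⟩⟩
  rw [← Nat.card_congr e, Nat.card_fin]

theorem card_W_le : Nat.card W ≤ 51840 := by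
  have h := chain62_ok
  simp only [Bool.and_eq_true] at h
  have h6 := cardLe_e6 (gen := tg) tg_sq tg_base h.1.1.1
  refine le_trans ?_ h6.2
  haveI := h6.1
  refine Nat.card_le_card_of_injective (Subgroup.inclusion ?_) (Subgroup.inclusion_injective _)
  refine Subgroup.closure_mono ?_
  rintro _ ⟨i, hi, rfl⟩
  obtain ⟨y, hy, e⟩ := (by decide : ∀ i ∈ six, ∃ y < 6, ([6, 5, 1, 2, 3, 0] : List ℕ).getD y 0 = i) i hi
  exact ⟨y, hy, congrArg tg e⟩

/-! ### The class of the central involution -/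

theorem conj_code_mem {i : ℕ} (hi : i ∈ six) {A : Sp62} {c : ℕ} (hA : Rep A c) (hc : c ∈ cls) :
    ∃ d ∈ cls, Rep (tg i * A * (tg i)⁻¹) d := by
  have h := words_ok
  simp only [Bool.and_eq_true, List.all_eq_true] at h
  refine ⟨_, List.contains_iff_mem.1 (h.1.1.1.2 c hc i hi), ?_⟩
  rw [inv_eq_of_mul_eq_one_right (tg_sq i), ← wprod_one i]
  have := rep_word (w := [i]) fun j hj => by rw [List.mem_singleton] at hj; subst hj; exact six_lt _ hi
  exact rep_mul (rep_mul this hA) this

/-- The conjugates of the central involution have codes in the list. -/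
theorem code_conj {m : Sp62} (hm : m ∈ W) : ∃ d ∈ cls, Rep (m * z0 * m⁻¹) d := by
  suffices H : ∀ A : Sp62, (∃ d ∈ cls, Rep A d) → ∃ d ∈ cls, Rep (m * A * m⁻¹) d by
    refine H z0 ⟨_, ?_, rep_z0⟩
    have h := words_ok
    simp only [Bool.and_eq_true] at h
    exact List.contains_iff_mem.1 h.1.1.2
  induction hm using Subgroup.closure_induction_left with
  | one => intro A hA; simpa using hA
  | mul_left g hg m _ ih =>
    obtain ⟨i, hi, rfl⟩ := hg
    intro A hA
    obtain ⟨d, hd, hr⟩ := ih A hA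
    obtain ⟨d', hd', hr'⟩ := conj_code_mem hi hr hd
    exact ⟨d', hd', by rwa [show tg i * m * A * (tg i * m)⁻¹ = tg i * (m * A * m⁻¹) * (tg i)⁻¹ by group]⟩
  | inv_mul_cancel g hg m _ ih =>
    obtain ⟨i, hi, rfl⟩ := hg
    rw [inv_eq_of_mul_eq_one_right (tg_sq i)]
    intro A hA
    obtain ⟨d, hd, hr⟩ := ih A hA
    obtain ⟨d', hd', hr'⟩ := conj_code_mem hi hr hd
    exact ⟨d', hd', by rwa [show tg i * m * A * (tg i * m)⁻¹ = tg i * (m * A * m⁻¹) * (tg i)⁻¹ by group]⟩

/-- The class is small. -/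
theorem class_le : Nat.card W ≤ 45 * Nat.card ↥(W ⊓ Subgroup.centralizer {z0}) := by
  classical
  have hcls : cls.length = 45 := by
    have h := words_ok
    simp only [Bool.and_eq_true] at h
    exact Nat.eq_of_beq_eq_true h.1.2
  have key : ∀ m : W, ∃ d ∈ cls, Rep ((m : Sp62) * z0 * (m : Sp62)⁻¹) d := fun m => code_conj m.2
  choose d hd hr using key
  haveI := Fintype.ofFinite W
  have hfib : ∀ c ∈ cls.toFinset, ((Finset.univ : Finset W).filter fun m => d m = c).card ≤
      Nat.card ↥(W ⊓ Subgroup.centralizer {z0}) := by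
    intro c _
    rcases ((Finset.univ : Finset W).filter fun m => d m = c).eq_empty_or_nonempty with e | ⟨m0, hm0⟩
    · simp [e]
    have hmem : ∀ m ∈ (Finset.univ : Finset W).filter (fun m => d m = c),
        (m0 : Sp62)⁻¹ * m ∈ W ⊓ Subgroup.centralizer {z0} := by
      intro m hm
      simp only [Finset.mem_filter] at hm hm0
      refine Subgroup.mem_inf.2 ⟨mul_mem (inv_mem m0.2) m.2, Subgroup.mem_centralizer_singleton_iff.2 ?_⟩
      have e := eq_of_code (hr m) (hr m0) (hm.2.trans hm0.2.symm)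
      calc (m0 : Sp62)⁻¹ * m * z0 = (m0 : Sp62)⁻¹ * ((m : Sp62) * z0 * (m : Sp62)⁻¹) * m := by group
        _ = z0 * ((m0 : Sp62)⁻¹ * m) := by rw [e]; group
    rw [← Nat.card_eq_finsetCard]
    refine Nat.card_le_card_of_injective (fun m => (⟨_, hmem m m.2⟩ : ↥(W ⊓ Subgroup.centralizer {z0}))) ?_
    exact fun m m' h => Subtype.ext (Subtype.ext (mul_left_cancel (congrArg Subtype.val h)))
  have h := Finset.card_le_mul_card_image_of_maps_to (s := (Finset.univ : Finset W)) (f := d)
    (t := cls.toFinset) (fun m _ => List.mem_toFinset.2 (hd m)) _ hfib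
  rw [Finset.card_univ, ← Nat.card_eq_fintype_card] at h
  refine h.trans (le_trans (Nat.mul_le_mul_left _ (cls.toFinset_card_le.trans hcls.le)) ?_)
  rw [mul_comm]

/-! ### Subgroups of the Sylow subgroup -/

/-- A bit set describes a subgroup of `SW`. -/
def Mask (P : Subgroup Sp62) (m : ℕ) : Prop := ∀ i < 128, (m.testBit i = true ↔ elw i ∈ P)

/-- No conjugate of the central involution. -/
def Free (P : Subgroup Sp62) : Prop := ∀ m ∈ W, m * z0 * m⁻¹ ∉ P

theorem not_bad {P : Subgroup Sp62} (hP : Free P) {i : ℕ} (hi : i < 128) (h : elw i ∈ P) :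
    isBad i = false := by
  rw [Bool.eq_false_iff]
  intro hb
  have hc := conj_ok
  simp only [List.all_eq_true, Bool.or_eq_true, Bool.not_eq_true', List.mem_range, List.any_eq_true,
    Bool.and_eq_true] at hc
  rcases hc i hi with h0 | ⟨p, -, ⟨⟨e1, h6⟩, e2⟩⟩
  · rw [hb] at h0; exact absurd h0 (by decide)
  have h6' : ∀ j ∈ p.2, j ∈ six := fun j hj => mem_six_of_contains (h6 j hj)
  refine hP (wprod tg p.2) (wprod_mem_W h6') ?_
  have hp := rep_word (w := p.2) fun j hj => six_lt _ (h6' j hj)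
  have e := eq_of_code (rep_mul (rep_elw i) hp) (rep_mul hp rep_z0) (Nat.eq_of_beq_eq_true e2)
  rwa [← e, mul_inv_cancel_right]

theorem testBit_shift (a i : ℕ) : (1 <<< a).testBit i = decide (a = i) := by
  rw [Nat.shiftLeft_eq, one_mul, Nat.testBit_two_pow]

theorem testBit_extend (m g i : ℕ) :
    (extend m g).testBit i = true ↔ m.testBit i = true ∨ ∃ j ∈ elts m, mt g j = i := by
  unfold extend
  generalize elts m = l
  induction l with
  | nil => simp
  | cons a l ih =>
    simp only [List.foldr_cons, Nat.testBit_or, Bool.or_eq_true, ih, testBit_shift, decide_eq_true_eq,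
      List.mem_cons, exists_eq_or_imp]
    rw [or_assoc, or_comm (a := ∃ j ∈ l, mt g j = i)]

theorem mem_elts {m i : ℕ} : i ∈ elts m ↔ i < 128 ∧ m.testBit i = true := by
  simp [elts, List.mem_filter]

/-- A two-subgroup free of the class appears in the layers. -/
theorem exists_layer : ∀ (k : ℕ) (P : Subgroup Sp62), P ≤ SW → Free P → Nat.card P = 2 ^ k →
    ∃ m ∈ layers.getD k [], Mask P m ∧ k ≤ 4 := by
  intro k
  induction k with
  | zero =>
    intro P _ _ hc
    rw [pow_zero, Subgroup.card_eq_one] at hc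
    subst hc
    refine ⟨1, by rw [layer_four_ok.2.1]; simp, fun i hi => ?_, by norm_num⟩
    rw [Subgroup.mem_bot, Nat.testBit_one_eq_true_iff_self_eq_zero]
    constructor
    · rintro rfl; exact elw_zero
    · exact fun h => elw_inj hi (by norm_num) (h.trans elw_zero.symm)
  | succ k ih =>
    intro P hP hF hc
    haveI : Fact (Nat.Prime 2) := ⟨Nat.prime_two⟩
    obtain ⟨Q', hQ'⟩ := Sylow.exists_subgroup_card_pow_prime (G := P) 2 (n := k)
      (by rw [hc, pow_succ]; exact Dvd.intro _ rfl)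
    have hidx : Q'.index = 2 := by
      have := Q'.card_mul_index
      rw [hQ', hc, pow_succ] at this
      exact Nat.eq_of_mul_eq_mul_left (pow_pos (by norm_num) k) this
    haveI := Subgroup.normal_of_index_eq_two hidx
    set Q := Q'.map P.subtype with hQdef
    have hQP : Q ≤ P := Subgroup.map_subtype_le Q'
    have hQc : Nat.card Q = 2 ^ k :=
      (Nat.card_congr (Q'.equivMapOfInjective _ P.subtype_injective).toEquiv).symm.trans hQ'
    have hmemQ : ∀ x (hx : x ∈ P), (x ∈ Q ↔ (⟨x, hx⟩ : P) ∈ Q') := fun x hx => by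
      constructor
      · rintro ⟨y, hy, rfl⟩; exact hy
      · exact fun h => ⟨_, h, rfl⟩
    obtain ⟨m, hm, hmask, hk⟩ := ih Q (hQP.trans hP) (fun c hc' h => hF c hc' (hQP h)) hQc
    have hne : Q' ≠ ⊤ := fun h => by rw [h, Subgroup.index_top] at hidx; norm_num at hidx
    obtain ⟨⟨gA, hgP⟩, hg⟩ : ∃ x : P, x ∉ Q' := by
      by_contra hall
      push Not at hall
      exact hne (top_le_iff.1 fun x _ => hall x)
    obtain ⟨g, hg128, rfl⟩ := hP hgP
    have hgQ : elw g ∉ Q := fun h => hg ((hmemQ _ hgP).1 h)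
    have hmul2 : ∀ a b (ha : a ∈ P) (hb : b ∈ P), a * b ∈ Q ↔ (a ∈ Q ↔ b ∈ Q) := fun a b ha hb => by
      rw [hmemQ _ (mul_mem ha hb), hmemQ _ ha, hmemQ _ hb]
      exact Subgroup.mul_mem_iff_of_index_two hidx (a := (⟨a, ha⟩ : P)) (b := ⟨b, hb⟩)
    obtain ⟨hv1, -, -, hv4⟩ := table_spec hg128
    have hcan : canExt m g = true := by
      simp only [canExt, Bool.and_eq_true, Bool.not_eq_true', List.all_eq_true]
      refine ⟨⟨⟨Bool.eq_false_iff.2 fun h => hgQ ((hmask g hg128).1 h), not_bad hF hg128 hgP⟩,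
        (hmask _ (hv4 g hg128).1).2 ?_⟩, fun i hi => ?_⟩
      · rw [← (hv4 g hg128).2, hmul2 _ _ hgP hgP]
      obtain ⟨hi128, him⟩ := mem_elts.1 hi
      have hiQ := (hmask i hi128).1 him
      obtain ⟨hlt, e⟩ := hv4 i hi128
      refine ⟨not_bad hF hlt (e ▸ mul_mem hgP (hQP hiQ)), ?_⟩
      obtain ⟨-, -, -, h4'⟩ := table_spec hlt
      rw [hmask _ (h4' _ hv1).1, ← (h4' _ hv1).2, ← e, ← elw_inv hg128,
        hmul2 _ _ (mul_mem hgP (hQP hiQ)) (inv_mem hgP), hmul2 _ _ hgP (hQP hiQ), inv_mem_iff]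
      simp [hgQ, hiQ]
    have hk4 : k < 5 := by omega
    have hl := layers_ok
    simp only [List.all_eq_true, Bool.or_eq_true, Bool.not_eq_true', List.mem_range] at hl
    rcases hl k hk4 m hm g hg128 with h | h
    · rw [hcan] at h; exact absurd h (by decide)
    refine ⟨extend m g, List.contains_iff_mem.1 h, fun i hi => ?_, ?_⟩
    · rw [testBit_extend, hmask i hi]
      constructor
      · rintro (h | ⟨j, hj, rfl⟩)
        · exact hQP h
        obtain ⟨hj128, hjm⟩ := mem_elts.1 hj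
        exact (hv4 j hj128).2 ▸ mul_mem hgP (hQP ((hmask j hj128).1 hjm))
      · intro hiP
        by_cases hiQ : elw i ∈ Q
        · exact Or.inl hiQ
        right
        obtain ⟨hlt, e⟩ := (table_spec hv1).2.2.2 i hi
        refine ⟨_, mem_elts.2 ⟨hlt, (hmask _ hlt).2 ?_⟩, ?_⟩
        · rw [← e, ← elw_inv hg128, hmul2 _ _ (inv_mem hgP) hiP, inv_mem_iff]
          simp [hgQ, hiQ]
        · refine elw_inj (hv4 _ hlt).1 hi ?_
          rw [← (hv4 _ hlt).2, ← e, ← elw_inv hg128, mul_inv_cancel_left]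
    · by_contra hk5
      have h5 : k + 1 = 5 := by omega
      rw [h5, layer_four_ok.2.2] at h
      simp at h

theorem card_le_sixteen {P : Subgroup Sp62} (hP : P ≤ SW) (hF : Free P) : Nat.card P ≤ 16 := by
  have hd := Subgroup.card_dvd_of_le hP
  rw [card_SW, show 128 = 2 ^ 7 by norm_num] at hd
  obtain ⟨k, -, hk⟩ := (Nat.dvd_prime_pow Nat.prime_two).1 hd
  obtain ⟨-, -, -, hk4⟩ := exists_layer k P hP hF hk
  rw [hk]
  calc 2 ^ k ≤ 2 ^ 4 := Nat.pow_le_pow_right (by norm_num) hk4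
    _ = 16 := by norm_num

/-! ### Wide involutions -/

theorem wide_nodup : ((List.range 128).all fun i => !wide i || decide (imgs i).Nodup) = true := by
  decide +kernel

/-- The commutators of an involution form a subgroup. -/
def commRange (t : Sp62) : AddSubgroup (Fin 3 ⊕ Fin 3 → ZMod 2) :=
  AddMonoidHom.range
    { toFun := fun v => t.1 *ᵥ v + v
      map_zero' := by simp
      map_add' := fun a b => by simp only [Matrix.mulVec_add]; abel }

theorem sv_cover (v : Fin 3 ⊕ Fin 3 → ZMod 2) : ∃ x < 64, sv x = v :=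
  let ⟨c, hc⟩ := sv_all v
  ⟨c, c.2, hc⟩

/-- A wide involution commutes with no element of order five. -/
theorem wide_no_five {i : ℕ} (hi : i < 128) (hw : wide i = true) {f : Sp62} (hf : orderOf f = 5)
    (hc : Commute f (elw i)) : False := by
  classical
  haveI : Fact (Nat.Prime 5) := ⟨by norm_num⟩
  set t := elw i with ht
  have hnd := List.all_eq_true.1 wide_nodup i (List.mem_range.2 hi)
  rw [hw] at hnd
  simp only [Bool.not_true, Bool.false_or, decide_eq_true_eq] at hnd
  simp only [wide, Bool.and_eq_true, Nat.ble_eq] at hw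
  obtain ⟨⟨⟨hsq, -⟩, h3⟩, h8⟩ := hw
  have t2 : t * t = 1 := by
    rw [ht, ((table_spec hi).2.2.2 i hi).2, Nat.eq_of_beq_eq_true hsq, elw_zero]
  have hmem : ∀ v, v ∈ commRange t ↔ v ∈ ((imgs i).map sv).toFinset := by
    intro v
    rw [List.mem_toFinset, List.mem_map]
    simp only [imgs, List.mem_eraseDups, List.mem_map, List.mem_range, commRange,
      AddMonoidHom.mem_range, AddMonoidHom.coe_mk, ZeroHom.coe_mk]
    constructor
    · rintro ⟨w, rfl⟩
      obtain ⟨x, hx, rfl⟩ := sv_cover w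
      refine ⟨_, ⟨x, hx, rfl⟩, ?_⟩
      rw [sv_xor _ (apc_lt _ _) _ hx, apc_spec (rep_elw i) hx]
    · rintro ⟨_, ⟨x, hx, rfl⟩, rfl⟩
      exact ⟨sv x, by rw [sv_xor _ (apc_lt _ _) _ hx, apc_spec (rep_elw i) hx]⟩
  have himg : ∀ x ∈ imgs i, x < 64 := by
    intro x hx
    simp only [imgs, List.mem_eraseDups, List.mem_map, List.mem_range] at hx
    obtain ⟨y, hy, rfl⟩ := hx
    exact xor_lt (apc_lt _ _) hy
  have hcard : Nat.card (commRange t) = (imgs i).length := by
    rw [Nat.card_congr (Equiv.subtypeEquivRight hmem), Nat.card_eq_finsetCard,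
      List.card_toFinset, List.dedup_eq_self.2]
    · rw [List.length_map]
    · exact hnd.map_on fun x hx y hy h => sv_inj x (himg x hx) y (himg y hy) h
  have hinv : ∀ v ∈ commRange t, f.1 *ᵥ v ∈ commRange t := by
    rintro _ ⟨w, rfl⟩
    refine ⟨f.1 *ᵥ w, ?_⟩
    simp only [AddMonoidHom.coe_mk, ZeroHom.coe_mk]
    rw [Matrix.mulVec_add, ← act_mul, ← act_mul, hc.eq]
  have h5 := fixed_modEq (f := f) (p := 5) (by rw [← hf, pow_orderOf_eq_one]) (commRange t) hinv
  have hle : Nat.card ↥(commRange t ⊓ fixSub f) ≤ Nat.card (commRange t) :=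
    Nat.card_le_card_of_injective _ (AddSubgroup.inclusion_injective inf_le_left)
  have hs := card_sub (commRange t ⊓ fixSub f)
  have hs' := card_sub (commRange t)
  have heq : commRange t ⊓ fixSub f = commRange t := by
    refine AddSubgroup.eq_of_le_of_card_ge inf_le_left ?_
    simp only [List.mem_cons, List.not_mem_nil, or_false] at hs hs'
    unfold Nat.ModEq at h5
    omega
  -- two distinct non-zero commutators
  have hbig : 2 < (Finset.univ.filter fun v => v ∈ commRange t).card := by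
    rw [← Fintype.card_subtype, ← Nat.card_eq_fintype_card]
    show 2 < Nat.card (commRange t)
    omega
  obtain ⟨u, hu, hu0⟩ := Finset.exists_mem_ne (show 1 < _ from by omega) (0 : Fin 3 ⊕ Fin 3 → ZMod 2)
    (s := Finset.univ.filter fun v => v ∈ commRange t)
  obtain ⟨u', hu'⟩ : ((Finset.univ.filter fun v => v ∈ commRange t) \ {0, u}).Nonempty := by
    rw [← Finset.card_pos]
    have := Finset.le_card_sdiff {0, u} (Finset.univ.filter fun v => v ∈ commRange t)
    have := Finset.card_le_two (a := (0 : Fin 3 ⊕ Fin 3 → ZMod 2)) (b := u)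
    omega
  simp only [Finset.mem_sdiff, Finset.mem_filter, Finset.mem_univ, true_and, Finset.mem_insert,
    Finset.mem_singleton, not_or] at hu hu'
  have hfu : f.1 *ᵥ u = u := mem_fixSub.1 (AddSubgroup.mem_inf.1 (heq.symm ▸ hu)).2
  have hfu' : f.1 *ᵥ u' = u' := mem_fixSub.1 (AddSubgroup.mem_inf.1 (heq.symm ▸ hu'.1)).2
  refine five_fixed_nonisotropic hf hfu hfu' hu0 hu'.2.1 (Ne.symm hu'.2.2) ?_
  obtain ⟨a, ha⟩ := hu
  obtain ⟨b, hb⟩ := hu'.1
  simp only [AddMonoidHom.coe_mk, ZeroHom.coe_mk] at ha hb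
  subst ha hb
  have tt : ∀ v, t.1 *ᵥ (t.1 *ᵥ v) = v := fun v => by rw [← act_mul, t2, act_one]
  have e1 : Cfsg.sympForm 3 (ZMod 2) (t.1 *ᵥ a) b = Cfsg.sympForm 3 (ZMod 2) a (t.1 *ᵥ b) := by
    conv_rhs => rw [← form_act t, tt]
  simp only [← ClassicalSp.spBilin_apply] at e1 ⊢
  simp only [map_add, LinearMap.add_apply]
  simp only [ClassicalSp.spBilin_apply] at e1 ⊢
  rw [form_act, e1]
  generalize Cfsg.sympForm 3 (ZMod 2) a b = p
  generalize Cfsg.sympForm 3 (ZMod 2) a (t.1 *ᵥ b) = q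
  revert p q
  decide

/-! ### Subgroups of order eighty -/

/-- The numbers of the non-trivial squares. -/
def sqs (m : ℕ) : List ℕ := (((elts m).map fun i => mt i i).filter fun s => !Nat.beq s 0).eraseDups

theorem sqs_nodup : ((layers.getD 4 []).all fun m => decide (sqs m).Nodup) = true := by decide +kernel

theorem mem_sqs {m s : ℕ} : s ∈ sqs m ↔ (∃ i, (i < 128 ∧ m.testBit i = true) ∧ mt i i = s) ∧ s ≠ 0 := by
  simp only [sqs, List.mem_eraseDups, List.mem_filter, List.mem_map, mem_elts, Bool.not_eq_true']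
  refine and_congr_right fun _ => ⟨fun h e => ?_, fun h => Bool.eq_false_iff.2 fun e => h (Nat.eq_of_beq_eq_true e)⟩
  rw [e] at h
  simp at h

theorem sqs_spec {P : Subgroup Sp62} (hP : P ≤ SW) (hF : Free P) (hc : Nat.card P = 2 ^ 4) :
    ∃ m, Mask P m ∧ (sqs m).Nodup ∧ (sqs m).length % 5 ≠ 0 ∧ ∀ s ∈ sqs m, s < 128 ∧ wide s = true := by
  obtain ⟨m, hm, hmask, -⟩ := exists_layer 4 P hP hF hc
  have hl := List.all_eq_true.1 layer_four_ok.1 m hm
  have hn := List.all_eq_true.1 sqs_nodup m hm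
  simp only [Bool.and_eq_true, Bool.not_eq_true', List.all_eq_true] at hl
  refine ⟨m, hmask, of_decide_eq_true hn, fun h => ?_, fun s hs => ⟨?_, hl.2 s hs⟩⟩
  · have e := hl.1
    unfold sqs at h
    rw [h] at e
    simp at e
  · obtain ⟨⟨i, ⟨hi, -⟩, rfl⟩, -⟩ := mem_sqs.1 hs
    exact ((table_spec hi).2.2.2 i hi).1

theorem no_five_normal {P : Subgroup Sp62} (hP : P ≤ SW) (hF : Free P) (hc : Nat.card P = 2 ^ 4)
    {f : Sp62} (hf : orderOf f = 5) (hfP : ∀ x ∈ P, f * x * f⁻¹ ∈ P) : False := by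
  classical
  haveI : Fact (Nat.Prime 5) := ⟨by norm_num⟩
  obtain ⟨m, hmask, hnd, hlen, hwide⟩ := sqs_spec hP hF hc
  set Q : Finset Sp62 := ((sqs m).map elw).toFinset with hQ
  have hQc : Q.card = (sqs m).length := by
    rw [hQ, List.card_toFinset, List.dedup_eq_self.2, List.length_map]
    exact hnd.map_on fun a ha b hb h => elw_inj (hwide a ha).1 (hwide b hb).1 h
  have hQinv : ∀ y ∈ Q, f * y * f⁻¹ ∈ Q := by
    intro y hy
    simp only [hQ, List.mem_toFinset, List.mem_map] at hy ⊢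
    obtain ⟨s, hs, rfl⟩ := hy
    obtain ⟨⟨i, ⟨hi, him⟩, rfl⟩, hs0⟩ := mem_sqs.1 hs
    obtain ⟨j, hj, e⟩ := hP (hfP _ ((hmask i hi).1 him))
    have hjP : elw j ∈ P := e ▸ hfP _ ((hmask i hi).1 him)
    have e2 : elw (mt j j) = f * elw (mt i i) * f⁻¹ := by
      rw [← ((table_spec hj).2.2.2 j hj).2, ← ((table_spec hi).2.2.2 i hi).2, e]
      group
    refine ⟨_, mem_sqs.2 ⟨⟨j, ⟨hj, (hmask j hj).2 hjP⟩, rfl⟩, fun h0 => ?_⟩, e2⟩
    rw [h0, elw_zero] at e2
    exact hs0 (elw_inj ((table_spec hi).2.2.2 i hi).1 (by norm_num)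
      ((conj_eq_one_iff.1 e2.symm).trans elw_zero.symm))
  let F : Function.End Q := fun y => ⟨f * y.1 * f⁻¹, hQinv _ y.2⟩
  have hFn : ∀ (n : ℕ) (y : Q), ((F ^ n) y).1 = f ^ n * y.1 * (f ^ n)⁻¹ := by
    intro n
    induction n with
    | zero => intro y; rw [pow_zero, pow_zero, one_mul, inv_one, mul_one]; rfl
    | succ n ih =>
      intro y
      rw [pow_succ', pow_succ']
      show f * ((F ^ n) y).1 * f⁻¹ = _
      rw [ih]
      group
  have hF5 : F ^ 5 ^ 1 = 1 := by
    funext y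
    refine Subtype.ext ?_
    rw [hFn, pow_one, ← hf, pow_orderOf_eq_one, one_mul, inv_one, mul_one]
    rfl
  have h := Equiv.Perm.card_fixedPoints_modEq hF5
  rw [Fintype.card_coe, hQc] at h
  obtain ⟨⟨y, hyfix⟩⟩ : Nonempty (Function.fixedPoints F) := by
    by_contra hempty
    rw [not_nonempty_iff] at hempty
    rw [Fintype.card_eq_zero] at h
    exact hlen h
  have hy := y.2
  simp only [hQ, List.mem_toFinset, List.mem_map] at hy
  obtain ⟨i, hi, e⟩ := hy
  refine wide_no_five (hwide i hi).1 (hwide i hi).2 hf ?_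
  rw [e]
  exact mul_inv_eq_iff_eq_mul.1 (congrArg Subtype.val hyfix)

theorem no_five_four {P : Subgroup Sp62} (hP : P ≤ SW) (hF : Free P) (hc : Nat.card P = 2 ^ 4)
    {D : Subgroup Sp62} {f : Sp62} (hf : orderOf f = 5) (hD : D ≤ P) (hDc : Nat.card D = 4)
    (hDf : ∀ x ∈ D, Commute f x) : False := by
  obtain ⟨m, hmask, -, -, hwide⟩ := sqs_spec hP hF hc
  have hfin : ∀ i < 128, elw i ∈ D → wide i = false := fun i hi hiD =>
    Bool.eq_false_iff.2 fun hw => wide_no_five hi hw hf (hDf _ hiD)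
  have hinvol : ∀ x ∈ D, x * x = 1 := by
    intro x hx
    obtain ⟨i, hi, rfl⟩ := hP (hD hx)
    by_contra h
    obtain ⟨hlt, e⟩ := (table_spec hi).2.2.2 i hi
    have hs : mt i i ∈ sqs m := mem_sqs.2 ⟨⟨i, ⟨hi, (hmask i hi).2 (hD hx)⟩, rfl⟩, fun h0 => h (by
      rw [e, h0, elw_zero])⟩
    have := hfin _ hlt (e ▸ mul_mem hx hx)
    rw [(hwide _ hs).2] at this
    exact Bool.noConfusion this
  have hne : D ≠ ⊥ := fun h => by rw [h, Subgroup.card_bot] at hDc; omega
  obtain ⟨a, ha, ha1⟩ := D.bot_or_exists_ne_one.resolve_left hne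
  obtain ⟨b, hb, hb1, hba⟩ : ∃ b ∈ D, b ≠ 1 ∧ b ≠ a := by
    classical
    by_contra h
    push Not at h
    have : Nat.card D ≤ ({1, a} : Finset Sp62).card := by
      rw [← Nat.card_eq_finsetCard]
      refine Nat.card_le_card_of_injective (fun x => (⟨x.1, ?_⟩ : ({1, a} : Finset Sp62))) ?_
      · by_cases h1 : x.1 = 1
        · simp [h1]
        · simp [h x.1 x.2 h1]
      · exact fun x y e => Subtype.ext (congrArg (fun w : ({1, a} : Finset Sp62) => w.1) e)
    have := Finset.card_le_two (a := (1 : Sp62)) (b := a)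
    omega
  have hab : a * b = b * a := by
    calc a * b = a⁻¹ * b⁻¹ := by
          rw [inv_eq_of_mul_eq_one_right (hinvol a ha), inv_eq_of_mul_eq_one_right (hinvol b hb)]
      _ = (b * a)⁻¹ := (mul_inv_rev b a).symm
      _ = b * a := inv_eq_of_mul_eq_one_right (hinvol _ (mul_mem hb ha))
  obtain ⟨i, hi, rfl⟩ := hP (hD ha)
  obtain ⟨j, hj, rfl⟩ := hP (hD hb)
  obtain ⟨hij, eij⟩ := (table_spec hi).2.2.2 j hj
  obtain ⟨hji, eji⟩ := (table_spec hj).2.2.2 i hi
  have hsq0 : ∀ k < 128, elw k ∈ D → mt k k = 0 := fun k hk hx =>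
    elw_inj ((table_spec hk).2.2.2 k hk).1 (by norm_num)
      (((table_spec hk).2.2.2 k hk).2.symm.trans ((hinvol _ hx).trans elw_zero.symm))
  have bf : ∀ {p q : ℕ}, Nat.beq p q = true → p = q := fun h => Nat.eq_of_beq_eq_true h
  have bn : ∀ {p q : ℕ}, Nat.beq p q = false → p ≠ q := fun h e => by rw [e, Nat.beq_refl] at h; simp at h
  have key := involutions_ok
  simp only [List.all_eq_true, Bool.or_eq_true, Bool.not_eq_true', List.mem_range] at key
  rcases key i hi with ((h | h) | h) | h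
  · exact ha1 (by rw [bf h, elw_zero])
  · exact bn h (hsq0 i hi ha)
  · rw [hfin i hi ha] at h; exact Bool.noConfusion h
  rcases h j hj with ((((h | h) | h) | h) | h) | h
  · exact hb1 (by rw [bf h, elw_zero])
  · exact hba (by rw [bf h])
  · exact bn h (hsq0 j hj hb)
  · rw [hfin j hj hb] at h; exact Bool.noConfusion h
  · exact bn h (elw_inj hij hji (by rw [← eij, ← eji, hab]))
  · rw [hfin _ hij (eij ▸ mul_mem ha hb)] at h; exact Bool.noConfusion h

theorem card_eq_eighty {c : ℕ} (hd : c ∣ 51840) (h3 : ¬ 3 ∣ c) (hge : 45 ≤ c)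
    (h16 : 2 ^ c.factorization 2 ≤ 16) : c = 80 ∧ c.factorization 2 = 4 := by
  have hord := Nat.ordProj_mul_ordCompl_eq_self c 2
  have hcop := Nat.not_dvd_ordCompl Nat.prime_two (show c ≠ 0 by omega)
  generalize c / 2 ^ c.factorization 2 = q at hord hcop
  have hqd : q ∣ 5 := by
    have h1 : q ∣ 2 ^ 7 * (3 ^ 4 * 5) := (Dvd.intro_left _ hord).trans (by norm_num; exact hd)
    have h2 : q ∣ 3 ^ 4 * 5 :=
      (((Nat.Prime.coprime_iff_not_dvd Nat.prime_two).2 hcop).symm.pow_right 7).dvd_of_dvd_mul_left h1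
    exact (((Nat.Prime.coprime_iff_not_dvd Nat.prime_three).2
      fun h => h3 (h.trans (Dvd.intro_left _ hord))).symm.pow_right 4).dvd_of_dvd_mul_left h2
  have hfac : c.factorization 2 ≤ 4 :=
    (Nat.pow_le_pow_iff_right (le_refl 2)).1 (le_of_le_of_eq h16 (by norm_num))
  rcases (Nat.dvd_prime (by norm_num)).1 hqd with rfl | rfl
  · omega
  · generalize c.factorization 2 = k at *
    interval_cases k <;> norm_num at hord <;> omega

/-- In a group of order eighty without normal Sylow two-subgroup an element of order five has large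
centraliser. -/
theorem four_centralizing {U : Type*} [Group U] [Finite U] [Fact (Nat.Prime 2)] [Fact (Nat.Prime 5)]
    (h80 : Nat.card U = 80) (T : Sylow 2 U) (hTn : ¬ (T : Subgroup U).Normal) (f : U) (hf : orderOf f = 5) :
    ∃ D : Subgroup U, Nat.card D = 4 ∧ ∀ x ∈ D, Commute x f := by
  classical
  set Z := Subgroup.zpowers f with hZ
  have hZc : Nat.card Z = 5 := (Nat.card_zpowers f).trans hf
  have hZi : Z.index = 16 := by
    have := Z.card_mul_index
    rw [hZc, h80] at this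
    omega
  have hZn : Z.Normal := by
    set S := (IsPGroup.of_card (p := 5) (n := 1) (G := Z) hZc).toSylow (by rw [hZi]; norm_num) with hS
    by_contra hnn
    have hSZ : (S : Subgroup U) = Z := rfl
    have hn : Nat.card (Sylow 5 U) ≠ 1 := fun h1 => by
      haveI := (Nat.card_eq_one_iff_unique.1 h1).1
      exact hnn (hSZ ▸ S.normal_of_subsingleton)
    have hmod : Nat.card (Sylow 5 U) % 5 = 1 := card_sylow_modEq_one 5 U
    have h1 := S.card_dvd_index
    rw [hSZ, hZi] at h1
    have h16' : Nat.card (Sylow 5 U) = 16 := by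
      obtain ⟨i, hi, e⟩ := (Nat.dvd_prime_pow Nat.prime_two).1 (show Nat.card (Sylow 5 U) ∣ 2 ^ 4 from h1)
      rw [e] at hn hmod ⊢
      interval_cases i <;> simp_all
    have hN : Subgroup.normalizer (Z : Set U) = Z := by
      refine (Subgroup.eq_of_le_of_card_ge Subgroup.le_normalizer ?_).symm
      have h2 := (Subgroup.normalizer ((S : Subgroup U) : Set U)).card_mul_index
      rw [show (Subgroup.normalizer ((S : Subgroup U) : Set U)).index = 16 from
        (Sylow.card_eq_index_normalizer S).symm.trans h16', h80, hSZ] at h2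
      omega
    have hP : Subgroup.normalizer ((S : Subgroup U) : Set U) ≤ Subgroup.centralizer ((S : Subgroup U) : Set U) := by
      rw [hSZ, hN]
      intro a ha b hb
      obtain ⟨i, rfl⟩ := Subgroup.mem_zpowers_iff.1 ha
      obtain ⟨j, rfl⟩ := Subgroup.mem_zpowers_iff.1 (show b ∈ Z from hb)
      exact (Commute.zpow_zpow_self f j i).eq
    have hKn : (MonoidHom.transferSylow S hP).ker.Normal := MonoidHom.normal_ker _
    have hK := MonoidHom.ker_transferSylow_isComplement' S hP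
    generalize (MonoidHom.transferSylow S hP).ker = K at hKn hK
    have hKc : Nat.card K = 2 ^ 4 := by
      have := hK.card_mul
      rw [h80, hSZ, hZc] at this
      omega
    refine hTn ?_
    set R : Sylow 2 U := (IsPGroup.of_card (p := 2) (n := 4) (G := K) hKc).toSylow (by
      have := K.card_mul_index
      rw [hKc, h80] at this
      omega) with hR
    haveI : (R : Subgroup U).Normal := hKn
    haveI := R.unique_of_normal ‹_›
    exact (Subsingleton.elim R T) ▸ hKn
  set C := Subgroup.centralizer ({f} : Set U) with hC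
  have hdvd : Nat.card C ∣ 80 := h80 ▸ Subgroup.card_subgroup_dvd_card C
  have h5 : 5 ∣ Nat.card C := hf ▸ Subgroup.orderOf_dvd_natCard C (Subgroup.mem_centralizer_singleton_iff.2 rfl)
  have hle : 80 ≤ 4 * Nat.card C := by
    haveI := Fintype.ofFinite U
    have hfib : ∀ c ∈ ((Finset.range 4).image fun i => f ^ (i + 1)),
        ((Finset.univ : Finset U).filter fun u => u * f * u⁻¹ = c).card ≤ Nat.card C := by
      intro c _
      rcases ((Finset.univ : Finset U).filter fun u => u * f * u⁻¹ = c).eq_empty_or_nonempty with e | ⟨u0, hu0⟩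
      · simp [e]
      rw [← Nat.card_eq_finsetCard]
      refine Nat.card_le_card_of_injective (fun u => (⟨u0⁻¹ * u.1, ?_⟩ : C)) ?_
      · have hu := u.2
        simp only [Finset.mem_filter] at hu hu0
        obtain ⟨v, hv⟩ := u
        replace hu := hu.2
        dsimp only at hu ⊢
        refine Subgroup.mem_centralizer_singleton_iff.2 ?_
        calc u0⁻¹ * v * f = u0⁻¹ * (v * f * v⁻¹) * v := by group
          _ = f * (u0⁻¹ * v) := by rw [hu, ← hu0.2]; group
      · exact fun a b h => Subtype.ext (mul_left_cancel (congrArg Subtype.val h))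
    have hmaps : ∀ u ∈ (Finset.univ : Finset U), u * f * u⁻¹ ∈ (Finset.range 4).image fun i => f ^ (i + 1) := by
      intro u _
      obtain ⟨k, hk, e⟩ : ∃ k < 5, f ^ k = u * f * u⁻¹ := by
        have h := (mem_zpowers_iff_mem_range_orderOf (x := f)).1 (hZn.conj_mem f (Subgroup.mem_zpowers f) u)
        simpa [hf] using h
      have hk0 : k ≠ 0 := fun h0 => by
        rw [h0, pow_zero] at e
        rw [conj_eq_one_iff.1 e.symm, orderOf_one] at hf
        norm_num at hf
      exact Finset.mem_image.2 ⟨k - 1, Finset.mem_range.2 (by omega), by rw [show k - 1 + 1 = k by omega, e]⟩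
    have h := Finset.card_le_mul_card_image_of_maps_to hmaps _ hfib
    rw [Finset.card_univ, ← Nat.card_eq_fintype_card, h80] at h
    refine h.trans ?_
    rw [mul_comm 4]
    exact Nat.mul_le_mul_left _ (Finset.card_image_le.trans (by simp))
  have h4 : 4 ∣ Nat.card C := by
    obtain ⟨c, hc⟩ := h5
    have hc16 : c ∣ 2 ^ 4 := by
      rw [hc] at hdvd
      exact (Nat.mul_dvd_mul_iff_left (show 0 < 5 by norm_num)).1 hdvd
    obtain ⟨i, hi, rfl⟩ := (Nat.dvd_prime_pow Nat.prime_two).1 hc16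
    interval_cases i <;> omega
  obtain ⟨D, hD⟩ := Sylow.exists_subgroup_card_pow_prime (G := C) 2 (n := 2) h4
  refine ⟨D.map C.subtype, (Nat.card_congr (D.equivMapOfInjective _ C.subtype_injective).toEquiv).symm.trans hD, ?_⟩
  rintro _ ⟨x, -, rfl⟩
  exact Subgroup.mem_centralizer_singleton_iff.1 x.2

/-! ### The bound -/

variable (hW : Nat.card W = 51840)
include hW

/-- A two-subgroup has a conjugate in `SW`. -/
theorem exists_conj_SW {P : Subgroup Sp62} (hP : P ≤ W) (h2 : IsPGroup 2 P) :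
    ∃ m ∈ W, ∀ x ∈ P, m * x * m⁻¹ ∈ SW := by
  haveI : Fact (Nat.Prime 2) := ⟨Nat.prime_two⟩
  have hS2 : IsPGroup 2 (SW.subgroupOf W) := IsPGroup.of_card (n := 7)
    ((Nat.card_congr (Subgroup.subgroupOfEquivOfLe SW_le).toEquiv).trans card_SW)
  have hidx : (SW.subgroupOf W).index = 405 := by
    have := (SW.subgroupOf W).card_mul_index
    rw [Nat.card_congr (Subgroup.subgroupOfEquivOfLe SW_le).toEquiv, card_SW, hW] at this
    omega
  set S := hS2.toSylow (by rw [hidx]; norm_num) with hSdef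
  obtain ⟨T, hT⟩ := IsPGroup.exists_le_sylow (h2.of_equiv (Subgroup.subgroupOfEquivOfLe hP).symm)
  obtain ⟨g, hg⟩ := MulAction.exists_smul_eq W T S
  refine ⟨(g : Sp62), g.2, fun x hx => ?_⟩
  have hx' : g * (⟨x, hP hx⟩ : W) * g⁻¹ ∈ (g • T : Sylow 2 W) := by
    show _ ∈ ((g • T : Sylow 2 W) : Subgroup W)
    rw [Sylow.coe_subgroup_smul]
    exact Subgroup.smul_mem_pointwise_smul _ (MulAut.conj g) (T : Subgroup W) (hT hx)
  rw [hg] at hx'
  exact hx'

/-- A subgroup of order prime to three free of the class has fewer than forty-five elements. -/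
theorem card_lt {U : Subgroup Sp62} (hU : U ≤ W) (h3 : ¬ 3 ∣ Nat.card U) (hF : Free U) :
    Nat.card U < 45 := by
  classical
  by_contra hge
  haveI : Fact (Nat.Prime 2) := ⟨Nat.prime_two⟩
  haveI : Fact (Nat.Prime 5) := ⟨by norm_num⟩
  obtain ⟨T⟩ := (inferInstance : Nonempty (Sylow 2 U))
  set P := (T : Subgroup U).map U.subtype with hPdef
  have hPU : P ≤ U := Subgroup.map_subtype_le _
  have hPc : Nat.card P = 2 ^ (Nat.card U).factorization 2 :=
    (Nat.card_congr ((T : Subgroup U).equivMapOfInjective _ U.subtype_injective).toEquiv).symm.trans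
      T.card_eq_multiplicity
  obtain ⟨m, hm, hmP⟩ := exists_conj_SW hW (hPU.trans hU) (IsPGroup.of_card hPc)
  set P' := P.map (MulAut.conj m).toMonoidHom with hP'def
  have hP'W : P' ≤ SW := by
    rintro _ ⟨x, hx, rfl⟩
    exact hmP x hx
  have hP'F : Free P' := by
    rintro c hc ⟨x, hx, e⟩
    refine hF (m⁻¹ * c) (mul_mem (inv_mem hm) hc) ?_
    have : x = m⁻¹ * c * z0 * (m⁻¹ * c)⁻¹ := by
      calc x = m⁻¹ * ((MulAut.conj m).toMonoidHom x) * m := by
            show x = m⁻¹ * (m * x * m⁻¹) * m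
            group
        _ = _ := by rw [e]; group
    exact this ▸ hPU hx
  have hP'c : Nat.card P' = 2 ^ (Nat.card U).factorization 2 :=
    (Nat.card_congr (P.equivMapOfInjective _ (MulAut.conj m).injective).toEquiv).symm.trans hPc
  have h16 := card_le_sixteen hP'W hP'F
  rw [hP'c] at h16
  have h80 : Nat.card U = 80 ∧ (Nat.card U).factorization 2 = 4 :=
    card_eq_eighty (hW ▸ Subgroup.card_dvd_of_le hU) h3 (not_lt.1 hge) h16
  rw [h80.2] at hP'c
  obtain ⟨f, hf⟩ := exists_prime_orderOf_dvd_card' (G := U) 5 (by rw [h80.1]; norm_num)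
  have hfU : orderOf (f : Sp62) = 5 := by rw [Subgroup.orderOf_coe, hf]
  by_cases hTn : (T : Subgroup U).Normal
  · refine no_five_normal hP'W hP'F hP'c (f := m * (f : Sp62) * m⁻¹) ?_ ?_
    · rw [show m * (f : Sp62) * m⁻¹ = MulAut.conj m (f : Sp62) from rfl, MulEquiv.orderOf_eq, hfU]
    · rintro _ ⟨x, hx, rfl⟩
      obtain ⟨y, hy, rfl⟩ := hx
      exact ⟨_, ⟨_, hTn.conj_mem y hy f, rfl⟩, by simp [mul_assoc]⟩
  obtain ⟨D, hDc, hDf⟩ := four_centralizing h80.1 T hTn f hf
  obtain ⟨R, hR⟩ := IsPGroup.exists_le_sylow (IsPGroup.of_card (p := 2) (n := 2) (G := D) (by simpa using hDc))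
  obtain ⟨g, hg⟩ := MulAction.exists_smul_eq U R T
  set n := m * (g : Sp62) with hn
  refine no_five_four hP'W hP'F hP'c (D := D.map ((MulAut.conj n).toMonoidHom.comp U.subtype))
    (f := n * (f : Sp62) * n⁻¹) ?_ ?_ ?_ ?_
  · rw [show n * (f : Sp62) * n⁻¹ = MulAut.conj n (f : Sp62) from rfl, MulEquiv.orderOf_eq, hfU]
  · rintro _ ⟨x, hx, rfl⟩
    refine ⟨_, ⟨g * x * g⁻¹, ?_, rfl⟩, by simp [hn, mul_assoc]⟩
    rw [← hg]
    show _ ∈ ((g • R : Sylow 2 U) : Subgroup U)
    rw [Sylow.coe_subgroup_smul]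
    exact Subgroup.smul_mem_pointwise_smul _ (MulAut.conj g) (R : Subgroup U) (hR hx)
  · refine (Nat.card_congr (D.equivMapOfInjective _ ?_).toEquiv).symm.trans hDc
    exact (MulAut.conj n).injective.comp U.subtype_injective
  · rintro _ ⟨x, hx, rfl⟩
    exact (Commute.conj_iff n).2 ((hDf x hx).map U.subtype).symm

/-- Every involution commutes with an element of order three. -/
theorem exists_three {t : Sp62} (ht : t ∈ W) (t2 : t * t = 1) (t1 : t ≠ 1) :
    ∃ f ∈ W, orderOf f = 3 ∧ Commute f t := by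
  haveI : Fact (Nat.Prime 2) := ⟨Nat.prime_two⟩
  haveI : Fact (Nat.Prime 3) := ⟨Nat.prime_three⟩
  obtain ⟨m, hm, hmt⟩ := exists_conj_SW hW (P := Subgroup.zpowers t) (Subgroup.zpowers_le.2 ht)
    (IsPGroup.of_card (n := 1) (by
      rw [Nat.card_zpowers, orderOf_eq_prime (by rw [sq, t2]) t1, pow_one]))
  obtain ⟨i, hi, e⟩ := hmt t (Subgroup.mem_zpowers t)
  have hw := wit_ok
  simp only [Bool.and_eq_true, List.all_eq_true, Bool.or_eq_true, Bool.not_eq_true', List.any_eq_true,
    List.mem_range, decide_eq_true_eq] at hw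
  obtain ⟨hw1, hw2⟩ := hw
  have hi0 : i ≠ 0 := fun h => t1 (by
    rw [h, elw_zero] at e
    exact conj_eq_one_iff.1 e.symm)
  have hii : mt i i = 0 := elw_inj ((table_spec hi).2.2.2 i hi).1 (by norm_num) (by
    rw [← ((table_spec hi).2.2.2 i hi).2, e, elw_zero,
      show m * t * m⁻¹ * (m * t * m⁻¹) = m * (t * t) * m⁻¹ by group, t2]
    group)
  rcases hw1 i hi with (h | h) | ⟨p, hp, hpi⟩
  · exact absurd (Nat.eq_of_beq_eq_true h) hi0
  · rw [hii] at h; simp at h
  obtain ⟨⟨⟨h6, hne⟩, h3⟩, hc⟩ := hw2 p hp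
  have hq : ∀ j ∈ p.2, j ∈ six := fun j hj => mem_six_of_contains (h6 j hj)
  have hr := rep_word (w := p.2) fun j hj => six_lt _ (hq j hj)
  set q := wprod tg p.2 with hqdef
  have q3 : q ^ 3 = 1 := by
    rw [pow_three]
    exact eq_of_code (rep_mul hr (rep_mul hr hr)) rep_one (Nat.eq_of_beq_eq_true h3)
  have q1 : q ≠ 1 := fun h => by
    have hr' : Rep 1 (wcd p.2) := h ▸ hr
    rw [rep_unique hr' rep_one, Nat.beq_refl] at hne
    simp at hne
  have hqc : Commute q (elw i) := by
    rw [← Nat.eq_of_beq_eq_true hpi]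
    exact eq_of_code (rep_mul hr (rep_elw _)) (rep_mul (rep_elw _) hr) (Nat.eq_of_beq_eq_true hc)
  refine ⟨m⁻¹ * q * m, mul_mem (mul_mem (inv_mem hm) (wprod_mem_W hq)) hm, ?_, ?_⟩
  · rw [show m⁻¹ * q * m = MulAut.conj m⁻¹ q by simp [MulAut.conj_apply]]
    rw [MulEquiv.orderOf_eq, orderOf_eq_prime q3 q1]
  · rw [e] at hqc
    have := (Commute.conj_iff m⁻¹).2 hqc
    simpa [mul_assoc] using this

end Cfsg.Agent.S3342Id.Closure
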