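import Cfsg.Agent.Lib.S3342Id.Seventh
import Cfsg.Agent.Lib.S3342Id.WBound

/-!
S3342: the six reflections identify `PSp₄(3).2` with the subgroup of the six transvections in `Sp₆(2)`.
-/

set_option autoImplicit false
set_option maxRecDepth 20000
set_option synthInstance.maxSize 10000
set_option linter.style.haveILetI false

namespace Cfsg.Agent.S3342Id.Seven

open Cfsg.Agent.Hayden Cfsg.Agent.CosetCert Cfsg.Agent.CosetData Cfsg.Agent.FischerPresented
open Cfsg.Agent.S3342Id.Closure (W six w81 z0 tg_mem wprod_mem_W six_lt SW SW_le card_SW tg_sq)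
open Cfsg.Agent.SpAmalgam Cfsg.Agent.SpAmalgam.Four

/-- The number of a reflection among the seven generators. -/
def sg (i : ℕ) : ℕ := [6, 0, 5, 1, 2, 3].getD i 0

/-- The word of a list of steps. -/
def wordOf (l : List (ℕ × ℕ × ℕ)) : List ℕ := l.flatMap fun t => [sg t.1, sg t.2.1]

/-- The relators avoiding the seventh generator. -/
def sixBase : List (List ℕ) := (ChainS62.base.take 21).filter fun w => !w.contains 4

theorem six_ok : e6OK sixBase [6, 5, 1, 2, 3, 0] [6, 5, 1, 2, 0] [6, 5, 1, 2] = true := by decide +kernel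

theorem words_chk : (steps.all fun l => (wordOf l).all fun i => six.contains i) = true ∧
    wordOf (steps.getD 1 []) ++ wordOf (steps.getD 1 []) = w81 := by decide +kernel

/-- A transvection in the subgroup of the six. -/
def gW (i : ℕ) : W := if h : i ∈ six then ⟨tg i, tg_mem h⟩ else 1

theorem coe_gW : ∀ {w : List ℕ}, (∀ i ∈ w, i ∈ six) → ((wprod gW w : W) : Closure.Sp62) = wprod tg w
  | [], _ => rfl
  | i :: w, h => by
    rw [wprod_cons, wprod_cons, Subgroup.coe_mul, gW, dif_pos (h i List.mem_cons_self),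
      coe_gW fun j hj => h j (List.mem_cons_of_mem _ hj)]

section generic

variable {H : Type*} [Group H] {f : Cfsg.PSp 2 (ZMod 3) →* H} {n : H}

/-- The six generators as outer elements. -/
def g6 (f : Cfsg.PSp 2 (ZMod 3) →* H) (n : H) (i : ℕ) : H := g62 f n 1 i

variable (E : Ext f n)
include E

theorem g6_sq : ∀ i, g6 f n i * g6 f n i = 1 := by
  have q : ∀ {i}, i < 10 → r f n i * r f n i = 1 := fun h => E.O_sq (rc_ok h).1 (rc_ok h).2
  intro i
  match i with
  | 0 => exact q (by norm_num)
  | 1 => exact q (by norm_num)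
  | 2 => exact q (by norm_num)
  | 3 => exact q (by norm_num)
  | 4 => exact mul_one 1
  | 5 => exact q (by norm_num)
  | 6 => exact q (by norm_num)
  | i + 7 => exact mul_one 1

theorem g6_rels : ∀ w ∈ sixBase, wprod (g6 f n) w = 1 := by
  have co : ∀ {i k}, (i, k) ∈ comms → i < 10 → k < 10 → Commute (r f n i) (r f n k) := fun {i k} h hi hk =>
    have e := List.all_eq_true.1 comms_ok (i, k) h
    E.O_comm (a := rc i) (b := rc k) (rc_ok hi).1 (rc_ok hk).1 e
  have br : ∀ {i k}, (i, k) ∈ braids → i < 10 → k < 10 →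
      r f n i * r f n k * (r f n i * r f n k) * (r f n i * r f n k) = 1 := fun {i k} h hi hk => by
    have := List.all_eq_true.1 braids_ok (i, k) h
    simp only [Bool.and_eq_true, Bool.not_eq_true'] at this
    exact E.O_braid (rc_ok hi).1 (rc_ok hk).1 this.1
  have hinv := g6_sq E
  simp only [sixBase, ChainS62.base, List.take_succ_cons, List.take_zero, List.filter_cons, List.filter_nil,
    List.contains_cons, List.contains_nil, Nat.reduceBEq, Bool.or_false, Bool.false_or, Bool.or_true,
    Bool.not_false, Bool.not_true, Bool.true_or, Bool.false_eq_true, if_true, if_false, List.forall_mem_cons,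
    List.not_mem_nil, IsEmpty.forall_iff, implies_true, and_true]
  exact ⟨w6 (br (i := 1) (k := 3) (by simp [braids]) (by norm_num) (by norm_num)),
    w4 (hinv 0) (hinv 2) (co (i := 1) (k := 4) (by simp [comms]) (by norm_num) (by norm_num)),
    w4 (hinv 0) (hinv 3) (co (i := 1) (k := 5) (by simp [comms]) (by norm_num) (by norm_num)),
    w4 (hinv 0) (hinv 5) (co (i := 1) (k := 2) (by simp [comms]) (by norm_num) (by norm_num)),
    w4 (hinv 0) (hinv 6) (co (i := 1) (k := 0) (by simp [comms]) (by norm_num) (by norm_num)),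
    w6 (br (i := 3) (k := 4) (by simp [braids]) (by norm_num) (by norm_num)),
    w4 (hinv 1) (hinv 3) (co (i := 3) (k := 5) (by simp [comms]) (by norm_num) (by norm_num)),
    w6 (br (i := 3) (k := 2) (by simp [braids]) (by norm_num) (by norm_num)),
    w4 (hinv 1) (hinv 6) (co (i := 3) (k := 0) (by simp [comms]) (by norm_num) (by norm_num)),
    w6 (br (i := 4) (k := 5) (by simp [braids]) (by norm_num) (by norm_num)),
    w4 (hinv 2) (hinv 5) (co (i := 4) (k := 2) (by simp [comms]) (by norm_num) (by norm_num)),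
    w4 (hinv 2) (hinv 6) (co (i := 4) (k := 0) (by simp [comms]) (by norm_num) (by norm_num)),
    w4 (hinv 3) (hinv 5) (co (i := 5) (k := 2) (by simp [comms]) (by norm_num) (by norm_num)),
    w4 (hinv 3) (hinv 6) (co (i := 5) (k := 0) (by simp [comms]) (by norm_num) (by norm_num)),
    w6 (br (i := 2) (k := 0) (by simp [braids]) (by norm_num) (by norm_num))⟩

theorem g6_steps : ∀ (l : List (ℕ × ℕ × ℕ)) (p : ℕ) (u : List ℕ), okSteps p l = true →
    P f p = wprod (g6 f n) u → P f (lastStep p l) = wprod (g6 f n) (u ++ wordOf l)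
  | [], p, u, _, h => by simpa [wordOf, lastStep] using h
  | (i, k, c) :: l, p, u, h, hp => by
    simp only [okSteps, Bool.and_eq_true] at h
    obtain ⟨⟨⟨⟨⟨h1, h2⟩, h3⟩, h4⟩, h5⟩, h6⟩ := h
    have hi : i < 6 := Nat.blt_eq.mp h4
    have hk : k < 6 := Nat.blt_eq.mp h5
    have hr : ∀ j < 6, g6 f n (sg j) = O f n (rc j) := fun j hj => by interval_cases j <;> rfl
    have e : P f p * (O f n (rc i) * O f n (rc k)) = P f c := by
      rw [E.O_mul_O, P, P, ← map_mul, ← QuotientGroup.mk_mul]
      exact eq_of_eqv (by rw [Submonoid.coe_mul, g4_val h1, dlt_mul_val (rc_ok (by omega)).1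
        (rc_ok (by omega)).1]) (g4_val h2) h3
    have := g6_steps l c (u ++ [sg i, sg k]) h6 (by
      rw [wprod_append, wprod_cons, wprod_cons, wprod_nil, mul_one, hr i hi, hr k hk, ← hp, e])
    simpa [wordOf, lastStep, List.flatMap_cons, List.append_assoc] using this

theorem P_last : ∀ l ∈ steps, P f (lastStep 14408200 l) = wprod (g6 f n) (wordOf l) := by
  intro l hl
  have h := g6_steps E l 14408200 [] (List.all_eq_true.1 steps_ok.1 l hl) (by
    rw [P_one inverts_ok.2.2.2.2.1 inverts_ok.2.2.2.1, wprod_nil])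
  simpa using h

/-- The identification with the subgroup of six transvections. -/
theorem exists_emb (hcard : Nat.card (Cfsg.PSp 2 (ZMod 3)) = 25920)
    (hgen : ∀ K : Subgroup H, (∀ l ∈ steps, P f (lastStep 14408200 l) ∈ K) → f.range ≤ K) :
    ∃ φ : W →* H, Function.Injective φ ∧ Nat.card W = 51840 ∧ f.range ≤ φ.range ∧ n ∈ φ.range ∧
      (∀ l ∈ steps, φ (wprod gW (wordOf l)) = P f (lastStep 14408200 l)) := by
  classical
  haveI : IsSimpleGroup (Cfsg.PSp 2 (ZMod 3)) :=
    Cfsg.Agent.S0270.result 2 le_rfl fun _ => by rw [ZMod.card]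
  let g := g6 f n
  let gen : ℕ → H × Closure.Sp62 := fun i => if i ∈ six then (g i, tg i) else 1
  have hg4 : g 4 = 1 := rfl
  have hgen1 : ∀ i, (gen i).1 = g i ∨ (¬ i ∈ six ∧ (gen i).1 = 1) := fun i => by
    by_cases h : i ∈ six
    · left; simp [gen, h]
    · right; exact ⟨h, by simp [gen, h]⟩
  have hinv : ∀ i, gen i * gen i = 1 := fun i => by
    simp only [gen]
    split
    · exact Prod.ext (g6_sq E i) (tg_sq i)
    · exact mul_one 1
  have hrel : ∀ w ∈ sixBase, wprod gen w = 1 := by
    intro w hw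
    have hw6 : ∀ i ∈ w, i ∈ six :=
      (show ∀ w ∈ sixBase, ∀ i ∈ w, i ∈ six by decide +kernel) w hw
    have hmem : w ∈ ChainS62.base := List.mem_of_mem_take (List.mem_of_mem_filter hw)
    rw [wprod_congr (g := fun i => (g i, tg i)) fun i hi => by simp [gen, hw6 i hi], wprod_prod,
      g6_rels E w hw, tg_base w hmem]
    rfl
  obtain ⟨hfin, hle⟩ := cardLe_e6 hinv hrel six_ok
  set Γ := Subgroup.closure (pick gen [6, 5, 1, 2, 3, 0] '' {x | x < ([6, 5, 1, 2, 3, 0] : List ℕ).length}) with hΓ
  have hmemΓ : ∀ i ∈ six, (g i, tg i) ∈ Γ := fun i hi => by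
    obtain ⟨y, hy, e⟩ :=
      (by decide : ∀ i ∈ six, ∃ y < 6, ([6, 5, 1, 2, 3, 0] : List ℕ).getD y 0 = i) i hi
    exact Subgroup.subset_closure ⟨y, hy, by simp only [pick, gen, e, if_pos hi]⟩
  have hprod : ∀ w : List ℕ, (∀ i ∈ w, i ∈ six) → (wprod g w, wprod tg w) ∈ Γ := by
    intro w
    induction w with
    | nil => intro _; rw [wprod_nil, wprod_nil]; exact one_mem Γ
    | cons i w ih =>
      intro h
      rw [wprod_cons, wprod_cons]
      exact mul_mem (hmemΓ i (h i List.mem_cons_self)) (ih fun j hj => h j (List.mem_cons_of_mem _ hj))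
  set M := Γ.map (MonoidHom.fst H Closure.Sp62) with hMdef
  haveI : Finite M := Finite.of_surjective (fun x : Γ => (⟨_, x, x.2, rfl⟩ : M))
    fun ⟨_, x, hx, rfl⟩ => ⟨⟨x, hx⟩, rfl⟩
  have hwords : ∀ l ∈ steps, ∀ i ∈ wordOf l, i ∈ six := fun l hl i hi =>
    List.contains_iff_mem.1 (List.all_eq_true.1 (List.all_eq_true.1 words_chk.1 l hl) i hi)
  have hLM : f.range ≤ M := hgen M fun l hl => ⟨_, hprod _ (hwords l hl), (P_last E l hl).symm⟩
  have hnM : n ∈ M := by
    have h0 : r f n 1 ∈ M := ⟨_, hmemΓ 0 (by decide), rfl⟩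
    have h := mul_mem h0 (inv_mem (hLM ⟨_, rfl⟩ : P f (rc 1) ∈ M))
    rwa [r, O, mul_inv_cancel_right] at h
  have hLc : Nat.card f.range = 25920 :=
    (Nat.card_congr (MonoidHom.ofInjective E.inj).toEquiv).symm.trans hcard
  have hMc : 51840 ≤ Nat.card M := by
    haveI : Finite f.range := Nat.finite_of_card_ne_zero (by rw [hLc]; norm_num)
    let F : f.range × Bool → M := fun p => ⟨(if p.2 then n else 1) * p.1, mul_mem (by split; exacts [hnM, one_mem _]) (hLM p.1.2)⟩
    have hF : Function.Injective F := by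
      rintro ⟨x, a⟩ ⟨y, b⟩ h
      have h' : (if a then n else 1) * (x : H) = (if b then n else 1) * (y : H) := congrArg Subtype.val h
      rcases a with _ | _ <;> rcases b with _ | _ <;> simp only [Bool.false_eq_true, if_false, if_true, one_mul] at h'
      · exact Prod.ext (Subtype.ext h') rfl
      · exact absurd (show n ∈ f.range by rw [eq_mul_inv_of_mul_eq h'.symm]; exact mul_mem x.2 (inv_mem y.2)) E.out
      · exact absurd (show n ∈ f.range by rw [eq_mul_inv_of_mul_eq h']; exact mul_mem y.2 (inv_mem x.2)) E.out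
      · exact Prod.ext (Subtype.ext (mul_left_cancel h')) rfl
    have := Nat.card_le_card_of_injective F hF
    rw [Nat.card_prod, hLc, Nat.card_eq_fintype_card (α := Bool), Fintype.card_bool] at this
    exact this
  let p1 : Γ →* M := ((MonoidHom.fst H Closure.Sp62).comp Γ.subtype).codRestrict M fun x => ⟨x, x.2, rfl⟩
  have p1s : Function.Surjective p1 := fun ⟨_, x, hx, e⟩ => ⟨⟨x, hx⟩, Subtype.ext e⟩
  have p1b : Function.Bijective p1 := by
    rw [Nat.bijective_iff_surjective_and_card]
    exact ⟨p1s, le_antisymm (hle.trans hMc) (Nat.card_le_card_of_surjective p1 p1s)⟩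
  have hMeq : Nat.card M = 51840 :=
    le_antisymm ((Nat.card_le_card_of_surjective p1 p1s).trans hle) hMc
  have hsndW : ∀ x ∈ Γ, x.2 ∈ W := by
    intro x hx
    induction hx using Subgroup.closure_induction with
    | mem y hy =>
      obtain ⟨i, hi, rfl⟩ := hy
      simp only [pick, gen]
      split
      · exact tg_mem ‹_›
      · exact one_mem _
    | one => exact one_mem W
    | mul a b _ _ ha hb => exact mul_mem ha hb
    | inv a _ ha => exact inv_mem ha
  let π : M →* W := (((MonoidHom.snd H Closure.Sp62).comp Γ.subtype).codRestrict W fun x => hsndW x x.2).comp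
    (MulEquiv.ofBijective p1 p1b).symm.toMonoidHom
  have hπ : ∀ x (hx : x ∈ Γ), (π ⟨x.1, x, hx, rfl⟩ : Closure.Sp62) = x.2 := fun x hx => by
    have e : (MulEquiv.ofBijective p1 p1b).symm ⟨x.1, x, hx, rfl⟩ = ⟨x, hx⟩ :=
      (MulEquiv.symm_apply_eq _).2 (Subtype.ext rfl)
    show (((MulEquiv.ofBijective p1 p1b).symm ⟨x.1, x, hx, rfl⟩ : Γ) : H × Closure.Sp62).2 = x.2
    rw [e]
  have hπs : Function.Surjective π := by
    rw [← MonoidHom.range_eq_top, eq_top_iff]
    rintro ⟨y, hy⟩ -
    suffices h : y ∈ π.range.map W.subtype by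
      obtain ⟨z, hz, hze⟩ := h
      exact (Subtype.ext hze : z = ⟨y, hy⟩) ▸ hz
    refine ((Subgroup.closure_le _).2 ?_) hy
    rintro _ ⟨i, hi, rfl⟩
    exact ⟨_, ⟨_, rfl⟩, hπ _ (hmemΓ i hi)⟩
  -- no kernel
  have hW128 : 128 ∣ Nat.card W := card_SW ▸ Subgroup.card_dvd_of_le SW_le
  let fM : Cfsg.PSp 2 (ZMod 3) →* M := f.codRestrict M fun q => hLM ⟨q, rfl⟩
  have hdisj : π.ker.comap fM = ⊥ := by
    rcases IsSimpleGroup.eq_bot_or_eq_top_of_normal (π.ker.comap fM) inferInstance with h | h
    · exact h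
    exfalso
    have hle : fM.range ≤ π.ker := by
      rintro _ ⟨q, rfl⟩
      have : q ∈ π.ker.comap fM := h ▸ Subgroup.mem_top q
      exact this
    have hfMc : Nat.card fM.range = 25920 := by
      rw [← Nat.card_congr (MonoidHom.ofInjective (f := fM) fun a b h => E.inj (congrArg Subtype.val h)).toEquiv,
        hcard]
    have h1 := π.ker.card_mul_index
    rw [Subgroup.index_ker, MonoidHom.range_eq_top.2 hπs, Subgroup.card_top, hMeq] at h1
    have h2 : 25920 ≤ Nat.card π.ker := hfMc ▸ Subgroup.card_le_of_le hle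
    have h3 := Nat.le_of_dvd Nat.card_pos hW128
    have := Nat.mul_le_mul h2 h3
    omega
  have hker2 : Nat.card π.ker ≤ 2 := by
    have hinj : Function.Injective (fun x : π.ker × fM.range => (x.1 : M) * x.2) := by
      refine Subgroup.mul_injective_of_disjoint (disjoint_iff.2 ?_)
      rw [eq_bot_iff]
      rintro x ⟨hx, q, rfl⟩
      have : q ∈ π.ker.comap fM := hx
      rw [hdisj, Subgroup.mem_bot] at this
      rw [Subgroup.mem_bot, this, map_one]
    have := Nat.card_le_card_of_injective _ hinj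
    rw [Nat.card_prod, ← Nat.card_congr (MonoidHom.ofInjective (f := fM) fun a b h => E.inj (congrArg Subtype.val h)).toEquiv,
      hcard, hMeq] at this
    omega
  have hWc := π.ker.card_mul_index
  rw [Subgroup.index_ker, MonoidHom.range_eq_top.2 hπs, Subgroup.card_top, hMeq] at hWc
  have hker1 : Nat.card π.ker = 1 := by
    have hpos : 0 < Nat.card π.ker := Nat.card_pos
    by_contra hne
    rw [show Nat.card π.ker = 2 by omega] at hWc
    omega
  have hπb : Function.Bijective π := ⟨π.ker_eq_bot_iff.1 (Subgroup.card_eq_one.1 hker1), hπs⟩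
  rw [hker1, one_mul] at hWc
  refine ⟨M.subtype.comp (MulEquiv.ofBijective π hπb).symm.toMonoidHom, ?_, hWc, ?_, ?_, ?_⟩
  · exact M.subtype_injective.comp (MulEquiv.injective _)
  · exact fun y hy => ⟨π ⟨y, hLM hy⟩, congrArg Subtype.val ((MulEquiv.ofBijective π hπb).symm_apply_apply ⟨y, hLM hy⟩)⟩
  · exact ⟨π ⟨n, hnM⟩, congrArg Subtype.val ((MulEquiv.ofBijective π hπb).symm_apply_apply ⟨n, hnM⟩)⟩
  · intro l hl
    have e : π ⟨(wprod g (wordOf l), wprod tg (wordOf l)).1, _, hprod _ (hwords l hl), rfl⟩ = wprod gW (wordOf l) :=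
      Subtype.ext ((hπ (wprod g (wordOf l), wprod tg (wordOf l)) (hprod _ (hwords l hl))).trans
        (coe_gW (hwords l hl)).symm)
    rw [P_last E l hl, ← e]
    exact congrArg Subtype.val ((MulEquiv.ofBijective π hπb).symm_apply_apply _)

end generic

/-! ### The named elements -/

variable {G : Type*} [Group G] {el : ℕ → G}

/-- The data of the embedding of `PSp₄(3)`. -/
structure Base (C : Cfg el) (s : G) (f : Cfsg.PSp 2 (ZMod 3) →* G) : Prop where
  inj : Function.Injective f
  sw : C.Sw s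
  e0 : ∀ g, f (QuotientGroup.mk (emb 0 g)) = lev (modHom C) g
  e1 : ∀ g, f (QuotientGroup.mk (emb 1 g)) = s * lev (modHom C) g * s⁻¹
  ex : f (QuotientGroup.mk x4) = el 1
  es : f (QuotientGroup.mk swap4) = s
  all : ∀ i < 648, el i ∈ f.range

variable {C : Cfg el} {s : G} {f : Cfsg.PSp 2 (ZMod 3) →* G}

namespace Base

variable (B : Base C s f)
include B

theorem P_emb {k c : ℕ} (hk : k < 24) (hc : isSp c = true)
    (h : (emb 0 (slm k) : G4 (ZMod 3)).1 = lit c ∨ (emb 0 (slm k) : G4 (ZMod 3)).1 = -lit c) :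
    P f c = el (27 * k) := by
  rw [← lev_slm C hk, ← B.e0]
  refine (congrArg f (mk_eq_iff.2 ?_)).symm
  rwa [g4_val hc]

theorem last_values : steps.map (fun l => P f (lastStep 14408200 l)) = [el 27, el 243, el 1, s] := by
  have hU : P f 14408203 = el 27 := B.P_emb (k := 1) (by norm_num) named_isSp.1 (Or.inl emb0_lit.1)
  have hS : P f 28816077 = el 243 := B.P_emb (k := 9) (by norm_num) named_isSp.2.2.1 (Or.inr emb0_lit.2.2.1)
  have hX : P f 14447620 = el 1 := by
    rw [← B.ex]
    refine congrArg f (mk_eq_iff.2 (Or.inl ?_))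
    rw [g4_val named_isSp.2.2.2.2.2.2.2.2.1, x4_lit]
  have hs : P f 1603080 = s := by
    rw [← B.es]
    refine congrArg f (mk_eq_iff.2 (Or.inl ?_))
    rw [g4_val named_isSp.2.2.2.2.2.2.2.2.2, swap4_lit]
  have := congrArg (List.map (P f)) steps_ok.2
  rw [List.map_map] at this
  refine this.trans ?_
  simp [hU, hS, hX, hs]

theorem last_get {k : ℕ} (hk : k < 4) :
    steps.getD k [] ∈ steps ∧ P f (lastStep 14408200 (steps.getD k [])) = [el 27, el 243, el 1, s].getD k 1 := by
  have h := B.last_values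
  have hl : steps.length = 4 := rfl
  have e := congrArg (fun l => l.getD k 1) h
  simp only [List.getD_eq_getElem?_getD, List.getElem?_map] at e
  rw [List.getElem?_eq_getElem (hl.symm ▸ hk)] at e
  simp only [Option.map_some, Option.getD_some] at e
  rw [List.getD_eq_getElem _ _ (hl.symm ▸ hk), List.getD_eq_getElem?_getD]
  exact ⟨List.getElem_mem _, e⟩

/-- The four step elements generate. -/
theorem range_le {H : Subgroup G} (h : ∀ l ∈ steps, P f (lastStep 14408200 l) ∈ H) : f.range ≤ H := by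
  have hk : ∀ k < 4, [el 27, el 243, el 1, s].getD k 1 ∈ H := fun k hk =>
    (B.last_get hk).2 ▸ h _ (B.last_get hk).1
  have u : el 27 ∈ H := hk 0 (by norm_num)
  have ss : el 243 ∈ H := hk 1 (by norm_num)
  have hx : el 1 ∈ H := hk 2 (by norm_num)
  have hsH : s ∈ H := hk 3 (by norm_num)
  obtain ⟨-, -, -, c81, c162, c54⟩ := chk_named
  have h81 : el 81 ∈ H := by
    rw [← c81, ← C.mul 243 (by norm_num) 243 (by norm_num)]; exact mul_mem ss ss
  have hss : ∀ b < 4, el ([0, 243, 81, 162].getD b 0) ∈ H := fun b hb => by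
    interval_cases b
    · simp [C.el_zero, one_mem]
    · exact ss
    · exact h81
    · show el 162 ∈ H
      rw [← c162, ← C.mul 243 (by norm_num) 81 (by norm_num)]; exact mul_mem ss h81
  have hu : ∀ a < 3, el (27 * a) ∈ H := fun a ha => by
    interval_cases a
    · simp [C.el_zero, one_mem]
    · exact u
    · show el 54 ∈ H
      rw [← c54, ← C.mul 27 (by norm_num) 27 (by norm_num)]; exact mul_mem u u
  have hk : ∀ k < 24, el (27 * k) ∈ H := fun k hk => by
    obtain ⟨a, ha, b, hb, c, hc, e⟩ := chk_bruhat k hk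
    have hlt : [0, 243, 81, 162].getD b 0 < 648 := by interval_cases b <;> norm_num
    rw [← e, ← C.mul _ (T_lt (by omega) hlt) _ (by omega), ← C.mul _ (by omega) _ hlt]
    exact mul_mem (mul_mem (hu a ha) (hss b hb)) (hu c hc)
  have hQ : H.comap (f.comp (QuotientGroup.mk' _)) = ⊤ := by
    refine top_of_mem _ (fun g => ?_) (fun g => ?_) ?_
    · show f (QuotientGroup.mk (emb 0 g)) ∈ H
      obtain ⟨k, hk', e⟩ := lev_index C g
      rw [B.e0, e]
      exact hk k hk'
    · show f (QuotientGroup.mk (emb 1 g)) ∈ H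
      obtain ⟨k, hk', e⟩ := lev_index C g
      rw [B.e1, e]
      exact mul_mem (mul_mem hsH (hk k hk')) (inv_mem hsH)
    · show f (QuotientGroup.mk x4) ∈ H
      rw [B.ex]; exact hx
  rintro _ ⟨q, rfl⟩
  obtain ⟨A, rfl⟩ := QuotientGroup.mk_surjective q
  exact (show A ∈ H.comap (f.comp (QuotientGroup.mk' _)) by rw [hQ]; trivial)

end Base

end Cfsg.Agent.S3342Id.Seven
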