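import Cfsg.Agent.Lib.S3342Id.Emb

/-!
S3342: the embeddings into `Sp₆(2)` of the configurations in the two large types.
-/

set_option autoImplicit false
set_option maxRecDepth 20000
set_option synthInstance.maxSize 10000
set_option linter.style.haveILetI false

namespace Cfsg.Agent.S3342Id.Seven

open Cfsg.Agent.Hayden Cfsg.Agent.CosetCert Cfsg.Agent.S3342Id
open Cfsg.Agent.S3342Id.Closure (W six w81 z0 z0_mem w81_six)
open Cfsg.Agent.SpAmalgam Cfsg.Agent.SpAmalgam.Four Matrix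

variable {G : Type*} [Group G] [Finite G] {el : ℕ → G} {C : Cfg el} {s : G}
  {f : Cfsg.PSp 2 (ZMod 3) →* G}

omit [Finite G] in
theorem Std.base {n : G} (D : Std C s f n) : Base C s f := ⟨D.inj, D.sw, D.e0, D.e1, D.ex, D.es, D.all⟩

omit [Finite G] in
theorem step_mem : steps.getD 1 [] ∈ steps := by decide +kernel

omit [Finite G] in
theorem wprod_z0 : (wprod gW (wordOf (steps.getD 1 [])) * wprod gW (wordOf (steps.getD 1 [])) : W) = ⟨z0, z0_mem⟩ := by
  refine Subtype.ext ?_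
  rw [← wprod_append, words_chk.2, coe_gW w81_six]
  rfl

omit [Finite G] in
theorem Base.ss_sq (B : Base C s f) :
    P f (lastStep 14408200 (steps.getD 1 [])) * P f (lastStep 14408200 (steps.getD 1 [])) = el 81 := by
  rw [(B.last_get (k := 1) (by norm_num)).2]
  show el 243 * el 243 = el 81
  rw [C.mul 243 (by norm_num) 243 (by norm_num), chk_named.2.2.2.1]

theorem card_psp : Nat.card (Cfsg.PSp 2 (ZMod 3)) = 25920 := card_psp_three (ZMod.card 3)

/-- The embedding in the type of eight. -/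
theorem exists_emb_neg (C : Cfg el) {m : G} (S : C.Sw s) (N : C.Neg s m)
    (hcomm : ∀ k < 24, ∀ l < 24, Commute (el (27 * k)) (s * el (27 * l) * s⁻¹)) :
    ∃ f : Cfsg.PSp 2 (ZMod 3) →* G, Base C s f ∧
      ∃ φ : W →* G, Function.Injective φ ∧ Nat.card W = 51840 ∧ f.range ≤ φ.range ∧ m ∈ φ.range ∧
        φ ⟨z0, z0_mem⟩ = el 81 ∧
        ∀ k < 4, φ (wprod gW (wordOf (steps.getD k []))) = [el 27, el 243, el 1, s].getD k 1 := by
  obtain ⟨f, n, hf, h0, h1, hx4, hs, hall, ⟨v, hv, hnm⟩, Nn, hout, hconj⟩ := exists_psp_neg C S N hcomm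
  have D : Std C s f n := ⟨⟨hf, Nn.sq, hconj, hout⟩, S, h0, h1, hx4, hs, hall⟩
  obtain ⟨φ, hφ, hWc, hL, hn, hval⟩ :=
    exists_emb D.toExt card_psp fun K hK => D.base.range_le hK
  refine ⟨f, D.base, φ, hφ, hWc, hL, ?_, ?_, fun k hk => ?_⟩
  · rw [show m = n * (el (vi v))⁻¹ by rw [hnm, mul_inv_cancel_right]]
    exact mul_mem hn (inv_mem (hL (hall _ (chk_j.1 v hv))))
  · rw [← wprod_z0, map_mul, hval _ step_mem, D.base.ss_sq]
  · rw [hval _ (D.base.last_get hk).1, (D.base.last_get hk).2]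

/-! ### The automorphism induced by the similitude -/

theorem dlt_dlt (A : G4 (ZMod 3)) : dlt (dlt A) = A := Subtype.ext (by
  show dmat * (dmat * A.1 * dmat) * dmat = A.1
  rw [Matrix.mul_assoc, Matrix.mul_assoc, dmat_facts.1, Matrix.mul_one, ← Matrix.mul_assoc, dmat_facts.1,
    Matrix.one_mul])

/-- The similitude as an automorphism. -/
def dltE : G4 (ZMod 3) ≃* G4 (ZMod 3) :=
  MonoidHom.toMulEquiv dlt dlt (MonoidHom.ext dlt_dlt) (MonoidHom.ext dlt_dlt)

theorem dlt_center : (Subgroup.center (G4 (ZMod 3))).map dltE.toMonoidHom = Subgroup.center (G4 (ZMod 3)) := by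
  ext x
  constructor
  · rintro ⟨y, hy, rfl⟩
    rw [Subgroup.mem_center_iff]
    intro g
    have := congrArg dlt (Subgroup.mem_center_iff.1 hy (dlt g))
    simp only [map_mul, dlt_dlt] at this
    exact this
  · intro hx
    refine ⟨dlt x, Subgroup.mem_center_iff.2 fun g => ?_, dlt_dlt x⟩
    have := congrArg dlt (Subgroup.mem_center_iff.1 hx (dlt g))
    simp only [map_mul, dlt_dlt] at this
    exact this

/-- The outer automorphism. -/
def nA : MulAut (Cfsg.PSp 2 (ZMod 3)) :=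
  QuotientGroup.congr (Subgroup.center (G4 (ZMod 3))) (Subgroup.center (G4 (ZMod 3))) dltE dlt_center

theorem nA_mk (q : G4 (ZMod 3)) :
    nA (QuotientGroup.mk q : Cfsg.PSp 2 (ZMod 3)) = QuotientGroup.mk (dlt q) := rfl

theorem z_dlt : eqv (dmat * lit 28816156 * dmat) (lit 28816156) = true := by decide +kernel

/-- The embedding in the type of four. -/
theorem exists_emb_psp (B : Base C s f) :
    ∃ A : Subgroup Closure.Sp62, A ≤ W ∧ Nat.card A = 25920 ∧ Nat.card W = 51840 ∧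
      (∃ hz : z0 ∈ A, ∃ φ : A →* G, Function.Injective φ ∧ φ.range = f.range ∧ φ ⟨z0, hz⟩ = el 81) ∧
      ∃ n0 ∈ W, n0 ∉ A ∧ Commute n0 z0 := by
  haveI : IsSimpleGroup (Cfsg.PSp 2 (ZMod 3)) :=
    Cfsg.Agent.S0270.result 2 le_rfl fun _ => by rw [ZMod.card]
  set fh : Cfsg.PSp 2 (ZMod 3) →* MulAut (Cfsg.PSp 2 (ZMod 3)) := MulAut.conj with hfh
  have hinj : Function.Injective fh := by
    rw [← MonoidHom.ker_eq_bot_iff]
    rcases IsSimpleGroup.eq_bot_or_eq_top_of_normal fh.ker inferInstance with h | h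
    · exact h
    exfalso
    obtain ⟨q, hq⟩ := B.all 1 (by norm_num)
    obtain ⟨q', hq'⟩ := B.all 3 (by norm_num)
    have hk : fh q = 1 := (h ▸ Subgroup.mem_top q : q ∈ fh.ker)
    have e : q * q' * q⁻¹ = q' := by
      have := DFunLike.congr_fun hk q'
      exact this
    refine chk_nonabelian ((C.comm_iff (by norm_num) (by norm_num)).1 ?_)
    rw [← hq, ← hq']
    exact Commute.map (show Commute q q' from mul_inv_eq_iff_eq_mul.1 e) f
  have E : Ext fh nA := by
    refine ⟨hinj, ?_, fun q => ?_, ?_⟩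
    · refine MulEquiv.ext fun x => ?_
      obtain ⟨A, rfl⟩ := QuotientGroup.mk_surjective x
      rw [MulAut.mul_apply, nA_mk, nA_mk, dlt_dlt]
      rfl
    · refine MulEquiv.ext fun x => ?_
      show nA ((fh (QuotientGroup.mk q)) (nA⁻¹ x)) = fh (QuotientGroup.mk (dlt q)) x
      rw [hfh, MulAut.conj_apply, MulAut.conj_apply, map_mul, map_mul, map_inv, MulAut.apply_inv_self, nA_mk]
    · rintro ⟨p, hp⟩
      obtain ⟨q, rfl⟩ := QuotientGroup.mk_surjective p
      refine transvection_not_real q ?_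
      have e := DFunLike.congr_fun hp (QuotientGroup.mk (emb 1 (uu (-1 : ZMod 3))))
      rw [hfh, MulAut.conj_apply, nA_mk, dlt_emb1] at e
      rw [QuotientGroup.mk_mul, QuotientGroup.mk_mul, QuotientGroup.mk_inv, e, ← QuotientGroup.mk_inv, ← map_inv]
      exact congrArg (fun g => (QuotientGroup.mk (emb 1 g) : Cfsg.PSp 2 (ZMod 3)))
        (by decide +kernel : slD (uu (-1 : ZMod 3)) = (uu (-1))⁻¹)
  obtain ⟨φ, hφ, hWc, hL, hn, hval⟩ := exists_emb E card_psp fun K hK => by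
    have h : f.range ≤ (K.comap fh).map f := B.range_le fun l hl => ⟨_, hK l hl, rfl⟩
    rintro _ ⟨q, rfl⟩
    obtain ⟨q', hq', e⟩ := h ⟨q, rfl⟩
    exact B.inj e ▸ hq'
  have hmem : ∀ q, fh q ∈ φ.range := fun q => hL ⟨q, rfl⟩
  let ψ : Cfsg.PSp 2 (ZMod 3) →* Closure.Sp62 :=
    W.subtype.comp ((MonoidHom.ofInjective hφ).symm.toMonoidHom.comp (fh.codRestrict φ.range hmem))
  have hψ : ∀ q w, φ w = fh q → ψ q = (w : Closure.Sp62) := fun q w e => by
    show (((MonoidHom.ofInjective hφ).symm ⟨fh q, hmem q⟩ : W) : Closure.Sp62) = w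
    rw [show (⟨fh q, hmem q⟩ : φ.range) = MonoidHom.ofInjective hφ w from Subtype.ext e.symm,
      MulEquiv.symm_apply_apply]
  have hψi : Function.Injective ψ := fun a b h => by
    obtain ⟨wa, ha⟩ := hmem a
    obtain ⟨wb, hb⟩ := hmem b
    rw [hψ a wa ha, hψ b wb hb] at h
    exact hinj (ha.symm.trans ((congrArg φ (Subtype.ext h)).trans hb))
  set qs : Cfsg.PSp 2 (ZMod 3) := QuotientGroup.mk (g4 (lastStep 14408200 (steps.getD 1 []))) with hqs
  have hzq : ψ (qs * qs) = z0 := by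
    refine (hψ (qs * qs) ⟨z0, z0_mem⟩ ?_)
    rw [← wprod_z0, map_mul, hval _ step_mem, map_mul]
    rfl
  have hfz : f (qs * qs) = el 81 := by rw [map_mul]; exact B.ss_sq
  refine ⟨ψ.range, ?_, ?_, hWc, ⟨⟨qs * qs, hzq⟩, f.comp (MonoidHom.ofInjective hψi).symm.toMonoidHom, ?_, ?_, ?_⟩, ?_⟩
  · rintro _ ⟨q, rfl⟩
    exact ((MonoidHom.ofInjective hφ).symm ⟨fh q, hmem q⟩).2
  · rw [← Nat.card_congr (MonoidHom.ofInjective hψi).toEquiv, card_psp]
  · exact B.inj.comp (MulEquiv.injective _)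
  · ext y
    constructor
    · rintro ⟨a, rfl⟩; exact ⟨_, rfl⟩
    · rintro ⟨q, rfl⟩
      exact ⟨MonoidHom.ofInjective hψi q, congrArg f ((MonoidHom.ofInjective hψi).symm_apply_apply q)⟩
  · rw [← hfz]
    exact congrArg f ((MulEquiv.symm_apply_eq _).2 (Subtype.ext hzq.symm))
  obtain ⟨w, hw⟩ := hn
  refine ⟨w, w.2, ?_, ?_⟩
  · rintro ⟨q, hq⟩
    refine E.out ⟨q, ?_⟩
    obtain ⟨w', hw'⟩ := hmem q
    rw [hψ q w' hw'] at hq
    rw [← hw', Subtype.ext hq, hw]
  · have hz : (QuotientGroup.mk (g4 28816156) : Cfsg.PSp 2 (ZMod 3)) = qs * qs :=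
      B.inj ((B.P_emb (k := 3) (by norm_num) named_isSp.2.1 (Or.inr emb0_lit.2.1)).trans hfz.symm)
    have hd : (QuotientGroup.mk (dlt (g4 28816156)) : Cfsg.PSp 2 (ZMod 3)) = QuotientGroup.mk (g4 28816156) := by
      refine mk_eq_iff.2 ?_
      show dmat * (g4 28816156).1 * dmat = _ ∨ dmat * (g4 28816156).1 * dmat = _
      rw [g4_val named_isSp.2.1]
      exact of_decide_eq_true z_dlt
    have hact := E.act (g4 28816156)
    rw [hd, hz] at hact
    have hzW : φ ⟨z0, z0_mem⟩ = fh (qs * qs) := by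
      rw [← wprod_z0, map_mul, hval _ step_mem, map_mul]
      rfl
    have hcom : φ (w * ⟨z0, z0_mem⟩) = φ (⟨z0, z0_mem⟩ * w) := by
      rw [map_mul, map_mul, hw, hzW]
      exact mul_inv_eq_iff_eq_mul.1 hact
    have e : w * (⟨z0, z0_mem⟩ : W) = ⟨z0, z0_mem⟩ * w := hφ hcom
    exact (Commute.map (show Commute w (⟨z0, z0_mem⟩ : W) from e) W.subtype)

end Cfsg.Agent.S3342Id.Seven
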