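import Cfsg.Agent.Lib.S3342Id.Top
import Cfsg.Agent.Lib.S3342Id.LocalCent
import Cfsg.Agent.Lib.S3342Four.Core

/-!
S3342: the type of four gives `PSp₄(3)`.
-/

set_option autoImplicit false
set_option maxRecDepth 20000
set_option synthInstance.maxSize 10000

namespace Cfsg.Agent.S3342Id

open Cfsg.Agent.Hayden Cfsg.Agent.Hayden.Cfg

variable {G : Type*} [Group G] [Finite G] {el : ℕ → G}

/-- The group in the type of four. -/
theorem type_four (C : Cfg el) (hO : ∀ v < 27, C.Orb v ↔ v ∈ O4)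
    {F : Type*} [Field F] [Fintype F] (hF : Fintype.card F = 3) : Nonempty (G ≃* Cfsg.PSp 2 F) := by
  obtain ⟨s, S⟩ := C.exists_sw (by simp : O4 ∈ [O4, O8]) hO
  obtain ⟨hcomm, hcz⟩ := S3342Four.four_facts C S hO
  exact Closure.nonempty_psp_four C S hO hcomm hcz (LocalCent.cent_10_le_O4 C hO) (LocalCent.cent_19_le_O4 C hO) hF

end Cfsg.Agent.S3342Id
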