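import Cfsg.Agent.Lib.S3342Id.Part
import Cfsg.Agent.Lib.A9Three.Quot

/-!
S3342: a part with a Sylow subgroup of order three lies in the normaliser of the abelian subgroup.
-/

set_option autoImplicit false
set_option maxRecDepth 20000
set_option synthInstance.maxSize 10000
set_option linter.style.haveILetI false

namespace Cfsg.Agent.S3342Id.LocalCent

open Cfsg.Agent.Hayden Cfsg.Agent.Hayden.Cfg

variable {G : Type*} [Group G] [Finite G] {el : ℕ → G} {C : Cfg el} {D K : Subgroup G} {χ : ℕ → M33}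

/-- No non-trivial invariant Sylow subgroup of order prime to three. -/
theorem Part.no_fixed_sylow (Pt : Part C D K χ) {p : ℕ} [Fact p.Prime] (P0 : Sylow p K)
    (hP : (Nat.card (P0 : Subgroup K)).Coprime 3) (h1 : 1 < Nat.card (P0 : Subgroup K))
    (hcount : ¬ 3 ∣ Nat.card (Sylow p K)) : False := by
  haveI : Fact (Nat.Prime 3) := ⟨Nat.prime_three⟩
  have hn : C.VJ ≤ Subgroup.normalizer (K : Set G) := fun z hz =>
    Subgroup.mem_normalizer_fintype fun k hk => Pt.conj z (Pt.jle hz) k hk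
  let φ : C.VJ →* MulAut K := K.normalizerMonoidHom.comp (Subgroup.inclusion hn)
  letI act : MulAction C.VJ (Sylow p K) := MulAction.compHom _ φ
  obtain ⟨R, hR⟩ := (IsPGroup.of_card (n := 3) C.card_VJ).nonempty_fixed_point_of_prime_not_dvd_card
    (Sylow p K) hcount
  have hc : Nat.card (R : Subgroup K) = Nat.card (P0 : Subgroup K) := by
    rw [Sylow.card_eq_multiplicity, ← Sylow.card_eq_multiplicity]
  have h := C.sig' (K := (R : Subgroup K).map K.subtype) (by
    rwa [Subgroup.card_map_of_injective K.subtype_injective, hc]) ?_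
  · rw [Subgroup.map_eq_bot_iff_of_injective _ K.subtype_injective] at h
    rw [h, Subgroup.card_bot] at hc
    omega
  · rintro z hz _ ⟨a, ha, rfl⟩
    have h : (φ ⟨z, hz⟩ • R : Sylow p K) = R := hR ⟨z, hz⟩
    have ha' : φ ⟨z, hz⟩ a ∈ (R : Subgroup K) := by
      rw [← h]
      exact Subgroup.smul_mem_pointwise_smul a _ _ ha
    exact ⟨_, ha', rfl⟩

/-- The case of a line. -/
theorem Part.le_norm_of_line (Pt : Part C D K χ) {t : ℕ} (ht : t < 27) (ht0 : t ≠ 0) (htχ : χ t = 1)
    (hline : ∀ u < 27, χ u = 1 → u = 0 ∨ u = t ∨ u = vneg t)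
    (hC : ∀ g ∈ D, (∀ u < 27, χ u = 1 → Commute g (el (vi u))) → g ∈ C.VJ) :
    D ≤ Subgroup.normalizer (C.VJ : Set G) := by
  haveI : Fact (Nat.Prime 3) := ⟨Nat.prime_three⟩
  have h0 : el (vi 0) = 1 := by rw [show vi 0 = 0 by decide +kernel, C.el_zero]
  have htK : el (vi t) ∈ K := (Pt.meet t ht).2 htχ
  set x : K := ⟨el (vi t), htK⟩ with hxdef
  have hx : orderOf x = 3 := by
    refine orderOf_eq_prime (Subtype.ext ?_) fun h => ?_
    · exact C.VJ_cube ⟨t, ht, rfl⟩
    · exact ht0 (C.vi_inj ht (by norm_num) ((congrArg Subtype.val h).trans h0.symm))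
  have hpts : ∀ u < 27, χ u = 1 → el (vi u) ∈ Subgroup.zpowers (el (vi t)) := fun u hu hu1 => by
    rcases hline u hu hu1 with rfl | rfl | rfl
    · rw [h0]; exact one_mem _
    · exact Subgroup.mem_zpowers _
    · rw [C.orb_inv ht]; exact inv_mem (Subgroup.mem_zpowers _)
  have hcent : Subgroup.centralizer ({x} : Set K) = Subgroup.zpowers x := by
    refine le_antisymm (fun k hk => ?_) (Subgroup.zpowers_le.2 (Subgroup.mem_centralizer_singleton_iff.2 rfl))
    have hkc : Commute (k : G) (el (vi t)) :=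
      congrArg Subtype.val (Subgroup.mem_centralizer_singleton_iff.1 hk)
    obtain ⟨u, hu, hu1, hue⟩ := Pt.self_cent hC k.2 fun u hu hu1 => by
      obtain ⟨i, hi⟩ := Subgroup.mem_zpowers_iff.1 (hpts u hu hu1)
      rw [← hi]
      exact hkc.zpow_right i
    obtain ⟨i, hi⟩ := Subgroup.mem_zpowers_iff.1 (hpts u hu hu1)
    exact Subgroup.mem_zpowers_iff.2 ⟨i, Subtype.ext (by rw [Subgroup.coe_zpow]; exact hi.trans hue)⟩
  rcases A9Three.shape hx hcent Pt.core with h6 | ⟨-, P, hP, -, hc⟩ | ⟨-, P, hP, hc⟩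
  · have hidx : (Subgroup.zpowers x).index ≤ 2 := by
      have := (Subgroup.zpowers x).card_mul_index
      rw [Nat.card_zpowers, hx] at this
      omega
    haveI hnorm : (Subgroup.zpowers x).Normal := by
      have : (Subgroup.zpowers x).index ≠ 0 := Subgroup.index_ne_zero_of_finite
      rcases (by omega : (Subgroup.zpowers x).index = 1 ∨ (Subgroup.zpowers x).index = 2) with h | h
      · rw [Subgroup.index_eq_one.1 h]; infer_instance
      · exact Subgroup.normal_of_index_eq_two h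
    refine Pt.le_norm_of_normal hC fun k hk u hu hu1 => ?_
    obtain ⟨i, hi⟩ := Subgroup.mem_zpowers_iff.1 (hpts u hu hu1)
    have hm := hnorm.conj_mem (x ^ i) (Subgroup.zpow_mem _ (Subgroup.mem_zpowers x) i) ⟨k, hk⟩
    obtain ⟨l, hl⟩ := Subgroup.mem_zpowers_iff.1 hm
    have hG : k * el (vi u) * k⁻¹ = el (vi t) ^ l := by
      have := congrArg Subtype.val hl
      rw [Subgroup.coe_zpow] at this
      rw [← hi]
      exact this.symm
    have hJ : k * el (vi u) * k⁻¹ ∈ C.VJ := hG ▸ zpow_mem (show el (vi t) ∈ C.VJ from ⟨t, ht, rfl⟩) l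
    obtain ⟨t', ht', ht1, he⟩ := Pt.mem_meet hJ (hG ▸ zpow_mem htK l)
    exact ⟨t', ht', ht1, he.symm⟩
  · haveI : Fact (Nat.Prime 2) := ⟨Nat.prime_two⟩
    exact (Pt.no_fixed_sylow P (by rw [hP]; norm_num) (by rw [hP]; norm_num) hc).elim
  · haveI : Fact (Nat.Prime 7) := ⟨by norm_num⟩
    exact (Pt.no_fixed_sylow P (by rw [hP]; norm_num) (by rw [hP]; norm_num) hc).elim

end Cfsg.Agent.S3342Id.LocalCent
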