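import Cfsg.Agent.Lib.S3342Id.Tables
import Mathlib.GroupTheory.Perm.Centralizer

/-!
S3342: the coordinates of the named elements, and generation by the six reflections.
-/

set_option autoImplicit false
set_option maxRecDepth 20000
set_option synthInstance.maxSize 10000

namespace Cfsg.Agent.S3342Id.Seven

open Cfsg.Agent.SpAmalgam Cfsg.Agent.SpAmalgam.Four Cfsg.Agent.Hayden Matrix

variable {G : Type*} [Group G] {el : ℕ → G}

/-- The data of the embedding. -/
structure Std (C : Cfg el) (s : G) (f : Cfsg.PSp 2 (ZMod 3) →* G) (n : G) : Prop extends Ext f n where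
  sw : C.Sw s
  e0 : ∀ g, f (QuotientGroup.mk (emb 0 g)) = lev (modHom C) g
  e1 : ∀ g, f (QuotientGroup.mk (emb 1 g)) = s * lev (modHom C) g * s⁻¹
  ex : f (QuotientGroup.mk x4) = el 1
  es : f (QuotientGroup.mk swap4) = s
  all : ∀ i < 648, el i ∈ f.range

theorem named_isSp : isSp 14408203 = true ∧ isSp 28816156 = true ∧ isSp 28816077 = true ∧
    isSp 14408121 = true ∧ isSp 14762494 = true ∧ isSp 14762500 = true ∧ isSp 38677339 = true ∧
    isSp 38677260 = true ∧ isSp 14447620 = true ∧ isSp 1603080 = true := by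
  simpa [List.all_cons, and_assoc] using named_sp

theorem chk_named : vi 18 = 54 ∧ vi (app swMap 18) = 9 ∧ T 9 54 = 63 ∧ T 243 243 = 81 ∧ T 243 81 = 162 ∧
    T 27 27 = 54 := by decide +kernel

variable {C : Cfg el} {s : G} {f : Cfsg.PSp 2 (ZMod 3) →* G} {n : G}

theorem lev_slm (C : Cfg el) {k : ℕ} (hk : k < 24) : lev (modHom C) (slm k) = el (27 * k) := by
  rw [lev_apply, ← md_levi, modHom_md C (by omega)]

namespace Std

variable (D : Std C s f n)
include D

theorem P_emb0 {k c : ℕ} (hk : k < 24) (hc : isSp c = true)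
    (h : (emb 0 (slm k) : G4 (ZMod 3)).1 = lit c ∨ (emb 0 (slm k) : G4 (ZMod 3)).1 = -lit c) :
    P f c = el (27 * k) := by
  rw [← lev_slm C hk, ← D.e0]
  refine (congrArg f (mk_eq_iff.2 ?_)).symm
  rwa [g4_val hc]

theorem P_U : P f 14408203 = el 27 := D.P_emb0 (by norm_num) named_isSp.1 (Or.inl emb0_lit.1)

theorem P_z : P f 28816156 = el 81 :=
  D.P_emb0 (k := 3) (by norm_num) named_isSp.2.1 (Or.inr emb0_lit.2.1)

theorem P_ss : P f 28816077 = el 243 :=
  D.P_emb0 (k := 9) (by norm_num) named_isSp.2.2.1 (Or.inr emb0_lit.2.2.1)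

theorem P_p3 : P f 14408121 = el 162 :=
  D.P_emb0 (k := 6) (by norm_num) named_isSp.2.2.2.1 (Or.inl emb0_lit.2.2.2)

theorem P_t : P f 14762494 = el 9 := by
  obtain ⟨h1, h2, -⟩ := chk_named
  have h := D.sw.act 18 (by norm_num)
  rw [h1, h2] at h
  rw [← h, show (54 : ℕ) = 27 * 2 from rfl, ← lev_slm C (by norm_num), ← D.e1]
  refine congrArg f (mk_eq_iff.2 (Or.inl ?_))
  rw [g4_val named_isSp.2.2.2.2.1, emb1_lit.1]

theorem P_h5 : P f 38677339 = s * el 459 * s⁻¹ := by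
  rw [show (459 : ℕ) = 27 * 17 from rfl, ← lev_slm C (by norm_num), ← D.e1]
  refine congrArg f (mk_eq_iff.2 (Or.inl ?_))
  rw [g4_val named_isSp.2.2.2.2.2.2.1, emb1_lit.2]

theorem P_p5 : P f 38677260 = el 162 * (s * el 459 * s⁻¹) := by
  rw [← D.P_p3, ← D.P_h5]
  exact (P_mul named_isSp.2.2.2.1 named_isSp.2.2.2.2.2.2.1 named_isSp.2.2.2.2.2.2.2.1 prod_lit.1).symm

theorem P_j : P f 14762500 = el 63 := by
  rw [← chk_named.2.2.1, ← C.mul 9 (by norm_num) 54 (by norm_num), ← D.P_t,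
    show (54 : ℕ) = 27 * 2 from rfl, ← lev_slm C (by norm_num), ← D.e0, P, P, ← map_mul,
    ← QuotientGroup.mk_mul]
  exact (eq_of_eqv (f := f) (A := g4 14762494 * emb 0 (slm 2))
    (by rw [Submonoid.coe_mul, g4_val named_isSp.2.2.2.2.1])
    (g4_val named_isSp.2.2.2.2.2.1) prod_lit.2).symm

theorem P_x : P f 14447620 = el 1 := by
  rw [← D.ex]
  refine congrArg f (mk_eq_iff.2 (Or.inl ?_))
  rw [g4_val named_isSp.2.2.2.2.2.2.2.2.1, x4_lit]

theorem P_s : P f 1603080 = s := by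
  rw [← D.es]
  refine congrArg f (mk_eq_iff.2 (Or.inl ?_))
  rw [g4_val named_isSp.2.2.2.2.2.2.2.2.2, swap4_lit]

theorem range_le {H : Subgroup G} (hk : ∀ k < 24, el (27 * k) ∈ H) (hs : s ∈ H) (h1 : el 1 ∈ H) :
    f.range ≤ H := by
  have hQ : H.comap (f.comp (QuotientGroup.mk' _)) = ⊤ := by
    refine top_of_mem _ (fun g => ?_) (fun g => ?_) ?_
    · show f (QuotientGroup.mk (emb 0 g)) ∈ H
      obtain ⟨k, hk', e⟩ := lev_index C g
      rw [D.e0, e]
      exact hk k hk'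
    · show f (QuotientGroup.mk (emb 1 g)) ∈ H
      obtain ⟨k, hk', e⟩ := lev_index C g
      rw [D.e1, e]
      exact mul_mem (mul_mem hs (hk k hk')) (inv_mem hs)
    · show f (QuotientGroup.mk x4) ∈ H
      rw [D.ex]; exact h1
  rintro _ ⟨q, rfl⟩
  obtain ⟨A, rfl⟩ := QuotientGroup.mk_surjective q
  exact (show A ∈ H.comap (f.comp (QuotientGroup.mk' _)) by rw [hQ]; trivial)

theorem mem_of_steps {H : Subgroup G} (hr : ∀ i < 6, O f n (rc i) ∈ H) :
    ∀ (l : List (ℕ × ℕ × ℕ)) (p : ℕ), P f p ∈ H → okSteps p l = true → P f (lastStep p l) ∈ H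
  | [], _, hp, _ => hp
  | (i, k, c) :: l, p, hp, h => by
    simp only [okSteps, Bool.and_eq_true] at h
    obtain ⟨⟨⟨⟨⟨h1, h2⟩, h3⟩, h4⟩, h5⟩, h6⟩ := h
    have hi : i < 6 := Nat.blt_eq.mp h4
    have hk : k < 6 := Nat.blt_eq.mp h5
    have hsp : ∀ i < 10, isSp (rc i) = true := fun i hi => by
      have := List.all_eq_true.1 rc_sp i (List.mem_range.2 hi)
      exact (Bool.and_eq_true _ _ ▸ this).1
    exact mem_of_steps hr l c (D.toExt.mem_of_step (hsp i (by omega)) (hsp k (by omega)) h1 h2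
      (hr i hi) (hr k hk) hp h3) h6

/-- The six reflections generate everything. -/
theorem gen_six {H : Subgroup G} (hr : ∀ i < 6, O f n (rc i) ∈ H) : f.range ≤ H ∧ n ∈ H := by
  obtain ⟨hok, hlast⟩ := steps_ok
  have h1 : P f 14408200 ∈ H := by
    rw [P_one inverts_ok.2.2.2.2.1 inverts_ok.2.2.2.1]; exact one_mem _
  have hend : ∀ c ∈ [14408203, 28816077, 14447620, 1603080], P f c ∈ H := fun c hc => by
    rw [← hlast, List.mem_map] at hc
    obtain ⟨l, hl, rfl⟩ := hc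
    exact D.mem_of_steps hr l _ h1 (List.all_eq_true.1 hok l hl)
  have u : el 27 ∈ H := D.P_U ▸ hend _ (by simp)
  have ss : el 243 ∈ H := D.P_ss ▸ hend _ (by simp)
  obtain ⟨-, -, -, c81, c162, c54⟩ := chk_named
  have h81 : el 81 ∈ H := by
    rw [← c81, ← C.mul 243 (by norm_num) 243 (by norm_num)]; exact mul_mem ss ss
  have hss : ∀ b < 4, el ([0, 243, 81, 162].getD b 0) ∈ H := fun b hb => by
    interval_cases b
    · simp [C.el_zero, one_mem]
    · exact ss
    · exact h81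
    · show el 162 ∈ H
      rw [← c162, ← C.mul 243 (by norm_num) 81 (by norm_num)]; exact mul_mem ss h81
  have hu : ∀ a < 3, el (27 * a) ∈ H := fun a ha => by
    interval_cases a
    · simp [C.el_zero, one_mem]
    · exact u
    · show el 54 ∈ H
      rw [← c54, ← C.mul 27 (by norm_num) 27 (by norm_num)]; exact mul_mem u u
  have hk : ∀ k < 24, el (27 * k) ∈ H := fun k hk => by
    obtain ⟨a, ha, b, hb, c, hc, e⟩ := chk_bruhat k hk
    have hlt : [0, 243, 81, 162].getD b 0 < 648 := by interval_cases b <;> norm_num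
    rw [← e, ← C.mul _ (T_lt (by omega) hlt) _ (by omega), ← C.mul _ (by omega) _ hlt]
    exact mul_mem (mul_mem (hu a ha) (hss b hb)) (hu c hc)
  have hle : f.range ≤ H := D.range_le hk (D.P_s ▸ hend _ (by simp)) (D.P_x ▸ hend _ (by simp))
  refine ⟨hle, ?_⟩
  have h := mul_mem (hr 1 (by norm_num)) (inv_mem (hle ⟨_, rfl⟩ : P f (rc 1) ∈ H))
  rwa [O, mul_inv_cancel_right] at h

end Std

end Cfsg.Agent.S3342Id.Seven
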