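import Cfsg.Agent.Lib.S3342Id.Config

/-!
S3342: the involution inverting the abelian subgroup acts on `PSp₄(3)` as a diagonal similitude of
multiplier minus one, after a change of representative.
-/

set_option autoImplicit false
set_option maxRecDepth 20000
set_option synthInstance.maxSize 10000

namespace Cfsg.Agent.S3342Id

open Cfsg.Agent.SpAmalgam Cfsg.Agent.SpAmalgam.Four Cfsg.Agent.HeisSLThree Cfsg.Agent.Hayden Matrix

/-! ### On the symplectic group -/

/-- The diagonal similitude. -/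
def dmat : Matrix (Fin 2 ⊕ Fin 2) (Fin 2 ⊕ Fin 2) (ZMod 3) :=
  Matrix.diagonal (Sum.elim (fun _ => -1) fun _ => 1)

theorem dmat_facts : dmat * dmat = 1 ∧ dmatᵀ = dmat ∧
    dmat * J (Fin 2) (ZMod 3) * dmat = -J (Fin 2) (ZMod 3) := by decide +kernel

/-- Conjugation by the diagonal similitude. -/
def dlt : G4 (ZMod 3) →* G4 (ZMod 3) where
  toFun A := ⟨dmat * A.1 * dmat, by
    obtain ⟨h1, h2, h3⟩ := dmat_facts
    rw [SymplecticGroup.mem_iff]
    rw [Matrix.transpose_mul, Matrix.transpose_mul, h2]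
    calc dmat * A.1 * dmat * J (Fin 2) (ZMod 3) * (dmat * (A.1ᵀ * dmat))
        = dmat * A.1 * (dmat * J (Fin 2) (ZMod 3) * dmat) * A.1ᵀ * dmat := by
          simp only [Matrix.mul_assoc]
      _ = -(dmat * (A.1 * J (Fin 2) (ZMod 3) * A.1ᵀ) * dmat) := by
          rw [h3]; simp only [Matrix.mul_neg, Matrix.neg_mul, Matrix.mul_assoc]
      _ = J (Fin 2) (ZMod 3) := by rw [SymplecticGroup.mem_iff.1 A.2, h3, neg_neg]⟩
  map_one' := Subtype.ext (by
    show dmat * 1 * dmat = 1
    rw [Matrix.mul_one, dmat_facts.1])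
  map_mul' A B := Subtype.ext (by
    show dmat * (A.1 * B.1) * dmat = dmat * A.1 * dmat * (dmat * B.1 * dmat)
    calc dmat * (A.1 * B.1) * dmat = dmat * A.1 * (dmat * dmat) * B.1 * dmat := by
          rw [dmat_facts.1, Matrix.mul_one]; simp only [Matrix.mul_assoc]
      _ = _ := by simp only [Matrix.mul_assoc])

/-- The automorphism of `SL₂` induced by the similitude. -/
def slD : S2 (ZMod 3) →* S2 (ZMod 3) where
  toFun g := ⟨!![g.1 0 0, -g.1 0 1; -g.1 1 0, g.1 1 1], by
    rw [Matrix.det_fin_two]; simpa using sl_det g⟩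
  map_one' := Subtype.ext (by ext i j; fin_cases i <;> fin_cases j <;> simp)
  map_mul' g h := Subtype.ext (by
    show !![(g.1 * h.1) 0 0, -(g.1 * h.1) 0 1; -(g.1 * h.1) 1 0, (g.1 * h.1) 1 1] = !![g.1 0 0, -g.1 0 1; -g.1 1 0, g.1 1 1] * !![h.1 0 0, -h.1 0 1; -h.1 1 0, h.1 1 1]
    ext i j; fin_cases i <;> fin_cases j <;> simp [Matrix.mul_apply, Fin.sum_univ_two] <;> ring)

theorem slD_val (g : S2 (ZMod 3)) :
    (slD g).1 0 0 = g.1 0 0 ∧ (slD g).1 0 1 = -g.1 0 1 ∧ (slD g).1 1 0 = -g.1 1 0 ∧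
      (slD g).1 1 1 = g.1 1 1 := ⟨rfl, rfl, rfl, rfl⟩

theorem mv_dlt (q : G4 (ZMod 3)) (v : Vec (ZMod 3) 2) : mv (dlt q) v = dmat *ᵥ mv q (dmat *ᵥ v) := by
  show (dmat * q.1 * dmat) *ᵥ v = _
  rw [← Matrix.mulVec_mulVec, ← Matrix.mulVec_mulVec]
  rfl

theorem dmat_io (t : ((ZMod 3) × (ZMod 3)) × (ZMod 3) × (ZMod 3)) :
    dmat *ᵥ io t = io ((-t.1.1, t.1.2), -t.2.1, t.2.2) := by
  funext i
  rw [dmat, Matrix.mulVec_diagonal]
  rcases i with k | k <;> fin_cases k <;> simp [io, ev, fv]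

theorem dlt_emb0 (g : S2 (ZMod 3)) : dlt (emb 0 g) = emb 0 (slD g) := by
  refine ext_mv fun v => ?_
  rw [← io_surj v, mv_dlt, dmat_io, emb0_io, dmat_io, emb0_io]
  congr 1
  simp [slD_val, mA, Prod.ext_iff]
  ring

theorem dlt_emb1 (g : S2 (ZMod 3)) : dlt (emb 1 g) = emb 1 (slD g) := by
  refine ext_mv fun v => ?_
  rw [← io_surj v, mv_dlt, dmat_io, emb1_io, dmat_io, emb1_io]
  congr 1
  simp [slD_val, Prod.ext_iff]
  ring

theorem dlt_x4 : dlt (x4 : G4 (ZMod 3)) = (x4 : G4 (ZMod 3))⁻¹ := by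
  refine eq_inv_of_mul_eq_one_left (ext_mv fun v => ?_)
  rw [mv_mul, mv_one, mv_dlt, x4, mv_TT bil01, ← io_surj v, mv_TT bil01]
  funext i
  simp only [dmat, Matrix.mulVec_diagonal, bil_ev, Pi.add_apply, Pi.smul_apply, smul_eq_mul]
  rcases i with k | k <;> fin_cases k <;> simp [io, ev, fv]

/-- A transvection is not conjugate to its inverse, up to sign. -/
theorem transvection_not_real (q : G4 (ZMod 3)) :
    ¬ (QuotientGroup.mk (q * emb 1 (uu (-1)) * q⁻¹) : Cfsg.PSp 2 (ZMod 3)) =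
      (QuotientGroup.mk (emb 1 (uu (-1))))⁻¹ := by
  intro h
  rw [← QuotientGroup.mk_inv, QuotientGroup.eq, emb_uu, neg_neg, conj_TV, mul_inv_cancel_right] at h
  set e : Vec (ZMod 3) 2 := ev 1 with he
  have hinv : (TV e (1 : ZMod 3))⁻¹ = TV e (-1) := by
    refine inv_eq_of_mul_eq_one_right (ext_mv fun v => ?_)
    rw [mv_mul, mv_one, mv_TV, mv_TV, map_add, LinearMap.add_apply, map_smul, LinearMap.smul_apply,
      bil_self, smul_zero, add_zero]
    module
  rw [hinv] at h
  set w := mv q e with hw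
  have hne : e ≠ 0 := fun e0 => by simpa [he, ev] using congrFun e0 (Sum.inl 1)
  have hwne : w ≠ 0 := fun e0 => hne (by
    have := mv_inv_of q (v := e) (w := 0) (hw.symm.trans e0)
    rwa [mv_zero, eq_comm] at this)
  obtain ⟨c, hc⟩ : ∃ c : G4 (ZMod 3), c = (TV w 1)⁻¹ * TV e (-1) := ⟨_, rfl⟩
  rw [← hc] at h
  have hmul : ∀ v, mv (TV e (-1)) v = mv (TV w 1) (mv c v) := fun v => by
    rw [← mv_mul, hc, mul_inv_cancel_left]
  rcases center_cases h with h1 | h1
  · have hf : bil (ZMod 3) 2 (fv 1) e = -1 := by rw [he, bil_anti, bil_ef]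
    have := hmul (fv 1)
    rw [h1, mv_one, mv_TV, mv_TV, hf] at this
    have h2 : e = bil (ZMod 3) 2 (fv 1) w • w := by
      have h3 := add_left_cancel this
      simpa using h3
    have h4 := congrArg (bil (ZMod 3) 2 (fv 1)) h2
    rw [hf, map_smul, smul_eq_mul] at h4
    exact (by decide : ∀ d : ZMod 3, (-1 : ZMod 3) ≠ d * d) _ h4
  · have := hmul w
    rw [h1, mv_TV, mv_TV, map_neg, LinearMap.neg_apply, bil_self, neg_zero, mul_zero, zero_smul,
      add_zero] at this
    have h2 : w + w = bil (ZMod 3) 2 w e • e := by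
      have h3 : w + (-1 * bil (ZMod 3) 2 w e) • e = -w := this
      rw [neg_one_mul, neg_smul] at h3
      linear_combination (norm := module) h3
    have h5 := congrArg (bil (ZMod 3) 2 w) h2
    rw [map_add, bil_self, add_zero, map_smul, smul_eq_mul] at h5
    have h6 : bil (ZMod 3) 2 w e = 0 := (by decide : ∀ d : ZMod 3, 0 = d * d → d = 0) _ h5
    rw [h6, zero_smul] at h2
    refine hwne (funext fun i => ?_)
    exact (by decide : ∀ d : ZMod 3, d + d = 0 → d = 0) _ (congrFun h2 i)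

/-! ### On the model -/

/-- The induced map on the Heisenberg group. -/
def hsD : Hs →* Hs where
  toFun x := ⟨![-x.vec 0, x.vec 1], -x.cen⟩
  map_one' := Hs.ext (funext fun i => by fin_cases i <;> simp [one_vec]) (by simp [one_cen])
  map_mul' x y := Hs.ext (funext fun i => by fin_cases i <;> simp [mul_vec] <;> ring)
    (by simp [mul_cen, om]; ring)

/-- The induced map on the model. -/
def modD : Mod →* Mod :=
  SemidirectProduct.map hsD slD fun g => MonoidHom.ext fun x => Hs.ext (funext fun i => by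
    fin_cases i <;> simp [hsD, slD_val, act_apply, Matrix.mulVec, dotProduct, Fin.sum_univ_two] <;> ring)
    (by simp [hsD, act_apply])

theorem modD_md : modD (md 1) = md 2 ∧ modD (md 9) = md 18 ∧ modD (md 27) = md 54 ∧
    modD (md 243) = md 162 :=
  ⟨mod_ext (by decide +kernel), mod_ext (by decide +kernel), mod_ext (by decide +kernel),
    mod_ext (by decide +kernel)⟩

theorem chk_ss : ∀ j < 648, T j 81 = T 81 j → T j j = 81 →
    T (T (T 54 j) (T 54 j)) (T 54 j) = T (T (T 27 243) (T 27 243)) (T 27 243) →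
    ∃ t < 3, j = cj (27 * t) 162 := by decide +kernel

theorem chk_fix : T 243 81 = T 81 243 ∧ T 243 243 = 81 ∧
    (T (T (T 27 243) (T 27 243)) (T 27 243) = 0 ∨ T (T (T 27 243) (T 27 243)) (T 27 243) = 81) := by
  decide +kernel

theorem chk_u : ∀ t < 3, ∃ v < 27, app swMap v = v ∧ app zMap v = v ∧
    cj (vi v) (cj (27 * t) 162) = 162 := by decide +kernel

theorem chk_bruhat : ∀ k < 24, ∃ a < 3, ∃ b < 4, ∃ c < 3,
    T (T (27 * a) ([0, 243, 81, 162].getD b 0)) (27 * c) = 27 * k := by decide +kernel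

variable {G : Type*} [Group G] [Finite G] {el : ℕ → G}

/-- The inverting involution, normalised, and its action on `PSp₄(3)`. -/
theorem exists_psp_neg {s m : G} (C : Cfg el) (S : C.Sw s) (N : C.Neg s m)
    (hcomm : ∀ k < 24, ∀ l < 24, Commute (el (27 * k)) (s * el (27 * l) * s⁻¹)) :
    ∃ f : Cfsg.PSp 2 (ZMod 3) →* G, ∃ n : G, Function.Injective f ∧
      (∀ g, f (QuotientGroup.mk (emb 0 g)) = lev (modHom C) g) ∧
      (∀ g, f (QuotientGroup.mk (emb 1 g)) = s * lev (modHom C) g * s⁻¹) ∧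
      f (QuotientGroup.mk x4) = el 1 ∧ f (QuotientGroup.mk swap4) = s ∧
      (∀ i < 648, el i ∈ f.range) ∧
      (∃ v < 27, n = m * el (vi v)) ∧ C.Neg s n ∧ n ∉ f.range ∧
      (∀ q, n * f (QuotientGroup.mk q) * n⁻¹ = f (QuotientGroup.mk (dlt q))) := by
  obtain ⟨f, hf, h0, h1, hx, hs, hall⟩ := exists_psp_std C S hcomm
  have mi : m⁻¹ = m := inv_eq_of_mul_eq_one_right N.sq
  have hneg : ∀ {n : G}, C.Neg s n → n * el 1 * n⁻¹ = el 2 ∧ n * el 9 * n⁻¹ = el 18 ∧
      n * el 27 * n⁻¹ = el 54 ∧ n * el 81 * n⁻¹ = el 81 := by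
    intro n Nn
    refine ⟨?_, ?_, ?_, mul_inv_eq_iff_eq_mul.2 Nn.z⟩
    · have h := Nn.act 3 (by norm_num)
      rwa [show vi 3 = 1 by decide +kernel, C.el_inv (by norm_num), show iv 1 = 2 by decide +kernel] at h
    · have h := Nn.act 1 (by norm_num)
      rwa [show vi 1 = 9 by decide +kernel, C.el_inv (by norm_num), show iv 9 = 18 by decide +kernel] at h
    · have h := Nn.act 9 (by norm_num)
      rwa [show vi 9 = 27 by decide +kernel, C.el_inv (by norm_num), show iv 27 = 54 by decide +kernel] at h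
  obtain ⟨m1, m9, m27, m81⟩ := hneg N
  -- the image of the element of order four
  obtain ⟨j, hj, hje⟩ : ∃ j < 648, el j = m * el 243 * m⁻¹ := by
    refine (C.mem _).1 ?_
    have h : Commute (el 243) (el 9) := C.el_comm (by norm_num)
    have h' := (Commute.conj_iff m).2 h
    rw [m9] at h'
    have e : el 9 = el 18 * el 18 := by
      rw [C.mul 18 (by norm_num) 18 (by norm_num), show T 18 18 = 9 by decide +kernel]
    rw [e]
    exact (h'.mul_right h').eq
  obtain ⟨c81, csq, ccube⟩ := chk_fix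
  have hT54 : el (T 54 j) = m * el (T 27 243) * m⁻¹ := by
    rw [← C.mul 54 (by norm_num) j hj, ← C.mul 27 (by norm_num) 243 (by norm_num), hje, ← m27]
    group
  obtain ⟨t, ht, htj⟩ := chk_ss j hj
    ((C.comm_iff hj (by norm_num)).1 (by
      rw [hje, ← m81]
      exact ((Commute.conj_iff m).2 ((C.comm_iff (by norm_num) (by norm_num)).2 c81)).eq))
    (C.inj _ (T_lt hj hj) _ (by norm_num) (by
      rw [← C.mul j hj j hj, hje, ← m81,
        show m * el 243 * m⁻¹ * (m * el 243 * m⁻¹) = m * (el 243 * el 243) * m⁻¹ by group,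
        C.mul 243 (by norm_num) 243 (by norm_num), csq]))
    (C.inj _ (T_lt (T_lt (T_lt (by norm_num) hj) (T_lt (by norm_num) hj)) (T_lt (by norm_num) hj)) _
      (by rcases ccube with e | e <;> rw [e] <;> norm_num) (by
      have l1 : T 54 j < 648 := T_lt (by norm_num) hj
      have l2 : T 27 243 < 648 := T_lt (by norm_num) (by norm_num)
      rw [← C.mul _ (T_lt l1 l1) _ l1, ← C.mul _ l1 _ l1, hT54,
        show ∀ y, m * y * m⁻¹ * (m * y * m⁻¹) * (m * y * m⁻¹) = m * (y * y * y) * m⁻¹ from fun y => by group,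
        C.mul _ l2 _ l2, C.mul _ (T_lt l2 l2) _ l2]
      rcases ccube with e | e <;> rw [e]
      · rw [C.el_zero]; group
      · exact m81))
  obtain ⟨v, hv, hvs, hvz, hvc⟩ := chk_u t ht
  set u := el (vi v) with hu
  have hvl : vi v < 648 := chk_j.1 v hv
  -- the new representative
  set n := u * m with hn
  have hum : u * m = m * u⁻¹ := by
    rw [hu, ← N.act v hv, mi, ← mul_assoc, ← mul_assoc, N.sq, one_mul]
  obtain ⟨w, hw, hwu⟩ := C.mem_VJ.1 (inv_mem (C.mem_VJ.2 ⟨v, hv, rfl⟩ : u ∈ C.VJ))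
  have hus : Commute u s := by
    have h := S.act v hv
    rw [hvs] at h
    exact (mul_inv_eq_iff_eq_mul.1 h).symm
  have huz : Commute u (el 81) := by
    have h := C.conj_z hv
    rw [hvz] at h
    exact (mul_inv_eq_iff_eq_mul.1 h).symm
  have Nn : C.Neg s n := by
    refine ⟨?_, ?_, ?_, fun k hk => ?_⟩
    · calc u * m * (u * m) = u * (m * u * m⁻¹) := by rw [mi]; group
        _ = 1 := by rw [hu, N.act v hv, mul_inv_cancel]
    · exact (Commute.mul_left huz N.z).eq
    · exact (Commute.mul_left hus N.comm).eq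
    · rw [hn, show u * m * el (vi k) * (u * m)⁻¹ = u * (m * el (vi k) * m⁻¹) * u⁻¹ by group, N.act k hk]
      have hc : Commute u (el (vi k))⁻¹ :=
        Commute.inv_right ((C.comm_iff hvl (chk_j.1 k hk)).2 (chk_vmul v hv k hk).2)
      rw [hc.eq, mul_inv_cancel_right]
  obtain ⟨n1, n9, n27, n81⟩ := hneg Nn
  have n243 : n * el 243 * n⁻¹ = el 162 := by
    rw [hn, show u * m * el 243 * (u * m)⁻¹ = u * (m * el 243 * m⁻¹) * u⁻¹ by group, ← hje, htj, hu,
      C.conj hvl (cj_lt (by omega) (by norm_num)), hvc]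
  -- the two maps on the model agree
  let P : Subgroup Mod := (MonoidHom.eqLocus ((MulAut.conj n).toMonoidHom.comp (modHom C))
    ((modHom C).comp modD))
  have hP : ∀ i < 648, ∀ k < 648, modD (md i) = md k → n * el i * n⁻¹ = el k → md i ∈ P :=
    fun i hi k hk e1 e2 => by
      show n * modHom C (md i) * n⁻¹ = modHom C (modD (md i))
      rw [e1, modHom_md C hi, modHom_md C hk, e2]
  obtain ⟨D1, D9, D27, D243⟩ := modD_md
  have p1 := hP 1 (by norm_num) 2 (by norm_num) D1 n1
  have p9 := hP 9 (by norm_num) 18 (by norm_num) D9 n9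
  have p27 := hP 27 (by norm_num) 54 (by norm_num) D27 n27
  have p243 := hP 243 (by norm_num) 162 (by norm_num) D243 n243
  have pT : ∀ {i j}, i < 648 → j < 648 → md i ∈ P → md j ∈ P → md (T i j) ∈ P := fun hi hj a b => by
    rw [← md_mul hi hj]; exact mul_mem a b
  have p0 : md 0 ∈ P := by rw [md_zero]; exact one_mem _
  have p27t : ∀ a < 3, md (27 * a) ∈ P := fun a ha => by
    interval_cases a
    · exact p0
    · exact p27
    · have h := pT (i := 27) (j := 27) (by norm_num) (by norm_num) p27 p27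
      rwa [show T 27 27 = 54 by decide +kernel] at h
  have p81 : md 81 ∈ P := csq ▸ pT (by norm_num) (by norm_num) p243 p243
  have pss : ∀ b < 4, md ([0, 243, 81, 162].getD b 0) ∈ P := fun b hb => by
    interval_cases b
    · exact p0
    · exact p243
    · exact p81
    · exact (show T 243 81 = 162 by decide +kernel) ▸ pT (by norm_num) (by norm_num) p243 p81
  have plev : ∀ k < 24, md (27 * k) ∈ P := fun k hk => by
    obtain ⟨a, ha, b, hb, c, hc, e⟩ := chk_bruhat k hk
    have hlt : [0, 243, 81, 162].getD b 0 < 648 := by interval_cases b <;> norm_num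
    exact e ▸ pT (T_lt (by omega) hlt) (by omega) (pT (by omega) hlt (p27t a ha) (pss b hb)) (p27t c hc)
  -- on the symplectic group
  have hlev : ∀ g, n * lev (modHom C) g * n⁻¹ = lev (modHom C) (slD g) := fun g => by
    obtain ⟨k, hk, hke⟩ := exists_hg_index g
    have h : n * modHom C (md (27 * k)) * n⁻¹ = modHom C (modD (md (27 * k))) := plev k hk
    rw [hke] at h
    refine h.trans (congrArg (modHom C) (SemidirectProduct.ext ?_ rfl))
    show hsD 1 = 1
    exact map_one hsD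
  let Q : Subgroup (G4 (ZMod 3)) := MonoidHom.eqLocus
    ((MulAut.conj n).toMonoidHom.comp (f.comp (QuotientGroup.mk' _)))
    ((f.comp (QuotientGroup.mk' _)).comp dlt)
  have hQ : Q = ⊤ := by
    refine top_of_mem Q (fun g => ?_) (fun g => ?_) ?_
    · show n * f (QuotientGroup.mk (emb 0 g)) * n⁻¹ = f (QuotientGroup.mk (dlt (emb 0 g)))
      rw [dlt_emb0, h0, h0, hlev]
    · show n * f (QuotientGroup.mk (emb 1 g)) * n⁻¹ = f (QuotientGroup.mk (dlt (emb 1 g)))
      rw [dlt_emb1, h1, h1, ← hlev]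
      have hns : n * s = s * n := Nn.comm
      calc n * (s * lev (modHom C) g * s⁻¹) * n⁻¹
          = (n * s) * lev (modHom C) g * (n * s)⁻¹ := by group
        _ = _ := by rw [hns]; group
    · show n * f (QuotientGroup.mk x4) * n⁻¹ = f (QuotientGroup.mk (dlt x4))
      rw [dlt_x4, QuotientGroup.mk_inv, map_inv, hx, n1, C.el_inv (by norm_num), show iv 1 = 2 by decide +kernel]
  have hconj : ∀ q, n * f (QuotientGroup.mk q) * n⁻¹ = f (QuotientGroup.mk (dlt q)) := fun q =>
    (show q ∈ Q by rw [hQ]; trivial)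
  refine ⟨f, n, hf, h0, h1, hx, hs, hall, ⟨w, hw, by rw [hwu, hn, hum]⟩, Nn, fun ⟨p, hp⟩ => ?_, hconj⟩
  obtain ⟨q, rfl⟩ := QuotientGroup.mk_surjective p
  refine transvection_not_real q (hf ?_)
  have ha : f (QuotientGroup.mk (emb 1 (uu (-1 : ZMod 3)))) = el 9 := by
    rw [h1, lev_apply, show hg (uu (-1 : ZMod 3)) = md 54 from mod_ext (by decide +kernel),
      modHom_md C (by norm_num)]
    have h := S.act 18 (by norm_num)
    rwa [show vi 18 = 54 by decide +kernel, show vi (app swMap 18) = 9 by decide +kernel] at h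
  rw [QuotientGroup.mk_mul, QuotientGroup.mk_mul, QuotientGroup.mk_inv, map_mul, map_mul, map_inv, map_inv,
    hp, ha, n9, C.el_inv (by norm_num), show iv 9 = 18 by decide +kernel]

end Cfsg.Agent.S3342Id
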