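import Cfsg.Agent.Lib.Hayden.Local

/-!
S3342: splitting off the invariant part of a joint centraliser of points.
-/

set_option autoImplicit false
set_option maxRecDepth 20000
set_option synthInstance.maxSize 10000
set_option linter.style.haveILetI false

namespace Cfsg.Agent.S3342Id.LocalCent

open Cfsg.Agent.Hayden Cfsg.Agent.Hayden.Cfg

variable {G : Type*} [Group G] [Finite G] {el : ℕ → G}

/-- The normal part of a joint centraliser. -/
structure Part (C : Cfg el) (D K : Subgroup G) (χ : ℕ → M33) : Prop where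
  le : K ≤ D
  jle : C.VJ ≤ D
  conj : ∀ d ∈ D, ∀ k ∈ K, d * k * d⁻¹ ∈ K
  cover : ∀ d ∈ D, ∃ u < 27, d * el (vi u) ∈ K
  meet : ∀ u < 27, (el (vi u) ∈ K ↔ χ u = 1)
  syl : ∃ Q : Sylow 3 K, ∀ x : K, x ∈ (Q : Subgroup K) ↔ (x : G) ∈ C.VJ

/-- An invariant functional splits off a normal part. -/
theorem exists_part (C : Cfg el) {v : ℕ} (hv : v < 27) (h0 : v ≠ 0) (h1 : ¬ C.Orb v) (h2 : ¬ C.Orb (vneg v))
    (D : Subgroup G) (hJD : C.VJ ≤ D) (hDv : D ≤ cg el v) (χ : ℕ → M33)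
    (hχ : ∀ u < 27, ∀ w < 27, χ (vadd u w) = χ u * χ w)
    (hinv : ∀ g ∈ D, ∀ A, C.Real A → (∀ u < 27, g * el (vi u) * g⁻¹ = el (vi (app A u))) →
      ∀ u < 27, χ (app A u) = χ u) :
    ∃ K : Subgroup G, Part C D K χ := by
  haveI : Fact (Nat.Prime 3) := ⟨Nat.prime_three⟩
  obtain ⟨P, hP⟩ := C.sylow_cg hv h0 h1 h2 hJD hDv
  have hmem : ∀ x : (P : Subgroup D), ∃ u < 27, el (vi u) = ((x : D) : G) := fun x => by
    have h : ((x : D) : G) ∈ C.VJ := hP.le x.2
    exact h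
  choose idx hidx hel using hmem
  let φ : (P : Subgroup D) →* M33 := MonoidHom.mk' (fun x => χ (idx x)) fun x y => by
    rw [← hχ _ (hidx x) _ (hidx y)]
    exact congrArg χ (C.vi_inj (hidx _) (vadd_lt _ _) (by rw [C.el_vadd (hidx x) (hidx y), hel, hel, hel]; rfl))
  obtain ⟨f, hf⟩ := A9Three.exists_transfer P φ (by
    intro x y g e
    set E := D ⊓ cg el (idx y) with hE
    set J' := C.VJ.map (MulAut.conj (g : G)).toMonoidHom with hJ'
    have hxy : (g : G) * el (vi (idx x)) * (g : G)⁻¹ = el (vi (idx y)) := by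
      rw [hel, hel, ← e]; rfl
    have hJE : C.VJ ≤ E := le_inf hJD (C.VJ_le_cg (hidx y))
    have hJ'E : J' ≤ E := by
      rintro _ ⟨z, hz, rfl⟩
      show (g : G) * z * (g : G)⁻¹ ∈ D ⊓ cg el (idx y)
      refine Subgroup.mem_inf.2 ⟨mul_mem (mul_mem g.2 (hJD hz)) (inv_mem g.2),
        Subgroup.mem_centralizer_singleton_iff.2 ?_⟩
      rw [← hxy, M12Cent.conj_comm_iff]
      exact C.VJ_comm hz ⟨_, hidx x, rfl⟩
    obtain ⟨Q₁, hQ₁⟩ := C.sylow_cg hv h0 h1 h2 hJE (inf_le_left.trans hDv)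
    obtain ⟨Q₂, hQ₂⟩ := ((IsPGroup.of_card (n := 3) (show Nat.card (J'.subgroupOf E) = 3 ^ 3 by
      rw [Nat.card_congr (Subgroup.subgroupOfEquivOfLe hJ'E).toEquiv, hJ',
        Subgroup.card_map_of_injective (MulAut.conj (g : G)).injective, C.card_VJ])) :
      IsPGroup 3 (J'.subgroupOf E)).exists_le_sylow
    obtain ⟨c, hc⟩ := MulAction.exists_smul_eq E Q₂ Q₁
    have hn : ∀ u < 27, ∃ w < 27, ((c : G) * g) * el (vi u) * ((c : G) * g)⁻¹ = el (vi w) := fun u hu => by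
      have hz : (g : G) * el (vi u) * (g : G)⁻¹ ∈ J' := ⟨_, ⟨u, hu, rfl⟩, rfl⟩
      have h := Subgroup.smul_mem_pointwise_smul _ (MulAut.conj c) _
        (hQ₂ (show (⟨_, hJ'E hz⟩ : E) ∈ J'.subgroupOf E from hz))
      have h' : MulAut.conj c • (⟨_, hJ'E hz⟩ : E) ∈ (Q₁ : Subgroup E) := hc ▸ h
      rw [hQ₁, Subgroup.mem_subgroupOf] at h'
      obtain ⟨w, hw, hwe⟩ := h'
      exact ⟨w, hw, by rw [hwe]; show _ = (c : G) * ((g : G) * el (vi u) * (g : G)⁻¹) * (c : G)⁻¹; group⟩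
    obtain ⟨A, hA, hAa⟩ := C.act_norm (C.mem_norm hn)
    have hq : app A (idx x) = idx y := C.vi_inj (app_lt _ _) (hidx y) (by
      rw [← hAa _ (hidx x), show (c : G) * g * el (vi (idx x)) * ((c : G) * g)⁻¹ =
        (c : G) * ((g : G) * el (vi (idx x)) * (g : G)⁻¹) * (c : G)⁻¹ by group, hxy,
        Subgroup.mem_centralizer_singleton_iff.1 c.2.2, mul_inv_cancel_right])
    show χ (idx x) = χ (idx y)
    rw [← hq, hinv _ (mul_mem c.2.1 g.2) A hA hAa _ (hidx x)])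
  have hfu : ∀ u, ∀ hu : u < 27, (f ⟨el (vi u), hJD ⟨u, hu, rfl⟩⟩ = 1 ↔ χ u = 1) := fun u hu => by
    have hmP : (⟨el (vi u), hJD ⟨u, hu, rfl⟩⟩ : D) ∈ (P : Subgroup D) := hP.ge ⟨u, hu, rfl⟩
    rw [hf ⟨_, hmP⟩, m33_pow _ P.not_dvd_index]
    show χ (idx ⟨_, hmP⟩) = 1 ↔ _
    rw [C.vi_inj (hidx ⟨_, hmP⟩) hu (hel _)]
  obtain ⟨Q, hQ⟩ := Cfsg.Agent.PBasic.exists_sylow_subgroupOf P f.ker
  refine ⟨f.ker.map D.subtype, ⟨Subgroup.map_subtype_le _, hJD, ?_, ?_, ?_, ?_⟩⟩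
  · rintro d hd _ ⟨k, hk, rfl⟩
    exact ⟨_, f.normal_ker.conj_mem k hk ⟨d, hd⟩, rfl⟩
  · intro d hd
    have hcov : (f.ker ⊔ (P : Subgroup D)) = ⊤ := by
      rw [← Subgroup.index_eq_one]
      have h1' : (f.ker ⊔ (P : Subgroup D)).index ∣ f.ker.index := Subgroup.index_dvd_of_le le_sup_left
      have h2' : (f.ker ⊔ (P : Subgroup D)).index ∣ (P : Subgroup D).index := Subgroup.index_dvd_of_le le_sup_right
      have h9 : f.ker.index ∣ 9 := by
        rw [Subgroup.index_ker]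
        exact (Subgroup.card_subgroup_dvd_card f.range).trans (by simp [M33, Nat.card_eq_fintype_card])
      have hco : Nat.Coprime 9 (P : Subgroup D).index :=
        Nat.Coprime.pow_left 2 (Nat.prime_three.coprime_iff_not_dvd.2 P.not_dvd_index)
      exact Nat.eq_one_of_dvd_coprimes hco (h1'.trans h9) h2'
    have hx : (⟨d, hd⟩ : D) ∈ f.ker ⊔ (P : Subgroup D) := hcov ▸ Subgroup.mem_top _
    rw [Subgroup.mem_sup_of_normal_left] at hx
    obtain ⟨k, hk, p, hp, hkp⟩ := hx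
    obtain ⟨u, hu, hue⟩ : ((p⁻¹ : D) : G) ∈ C.VJ := hP.le (inv_mem hp)
    refine ⟨u, hu, k, hk, ?_⟩
    rw [hue]
    have := congrArg Subtype.val hkp
    simp only [Subgroup.coe_mul] at this
    show (k : G) = d * ((p : G))⁻¹
    rw [← this, mul_inv_cancel_right]
  · intro u hu
    constructor
    · rintro ⟨k, hk, hke⟩
      refine (hfu u hu).1 ?_
      rw [show (⟨el (vi u), _⟩ : D) = k from Subtype.ext hke.symm]
      exact hk
    · intro h
      exact ⟨_, (hfu u hu).2 h, rfl⟩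
  · let e := f.ker.equivMapOfInjective D.subtype D.subtype_injective
    refine ⟨Q.mapSurjective (f := e.toMonoidHom) e.surjective, fun x => ?_⟩
    show x ∈ (Q : Subgroup f.ker).map e.toMonoidHom ↔ _
    rw [Subgroup.mem_map_equiv, hQ, Subgroup.mem_subgroupOf, hP, Subgroup.mem_subgroupOf]
    conv_rhs => rw [← e.apply_symm_apply x]
    exact Iff.rfl

namespace Part

variable {C : Cfg el} {D K : Subgroup G} {χ : ℕ → M33} (Pt : Part C D K χ)
include Pt

/-- An element of the abelian subgroup in the part lies in the kernel. -/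
theorem mem_meet {g : G} (hg : g ∈ C.VJ) (hK : g ∈ K) : ∃ u < 27, χ u = 1 ∧ el (vi u) = g := by
  obtain ⟨u, hu, rfl⟩ := hg
  exact ⟨u, hu, (Pt.meet u hu).1 hK, rfl⟩

/-- Normal subgroups of the part of order prime to three are trivial. -/
theorem core : Cfsg.pPrimeCore 3 K = ⊥ := by
  haveI hn : (K.subgroupOf D).Normal := ⟨fun k hk d => Pt.conj d d.2 k hk⟩
  have h := C.core_bot Pt.jle (K.subgroupOf D)
  let e : (K.subgroupOf D) ≃* K := Subgroup.subgroupOfEquivOfLe Pt.le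
  rw [eq_bot_iff]
  refine sSup_le fun N ⟨hN, hco⟩ => ?_
  haveI := hN
  haveI := hN.map e.symm.toMonoidHom e.symm.surjective
  have hle : N.map e.symm.toMonoidHom ≤ Cfsg.pPrimeCore 3 (K.subgroupOf D) :=
    Cfsg.Agent.PBasic.le_pPrimeCore inferInstance (by rwa [Subgroup.card_map_of_injective e.symm.injective])
  rw [h] at hle
  intro x hx
  exact e.symm.injective ((Subgroup.mem_bot.1 (hle ⟨x, hx, rfl⟩)).trans (map_one _).symm)

/-- If the kernel points span a normal subgroup, the centraliser normalises the abelian subgroup. -/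
theorem le_norm_of_normal (hC : ∀ g ∈ D, (∀ t < 27, χ t = 1 → Commute g (el (vi t))) → g ∈ C.VJ)
    (hT : ∀ k ∈ K, ∀ t < 27, χ t = 1 → ∃ t' < 27, χ t' = 1 ∧ k * el (vi t) * k⁻¹ = el (vi t')) :
    D ≤ Subgroup.normalizer (C.VJ : Set G) := by
  intro d hd
  obtain ⟨u, hu, hk⟩ := Pt.cover d hd
  have hun : el (vi u) ∈ Subgroup.normalizer (C.VJ : Set G) := Subgroup.le_normalizer ⟨u, hu, rfl⟩
  suffices h : d * el (vi u) ∈ Subgroup.normalizer (C.VJ : Set G) by
    simpa using mul_mem h (inv_mem hun)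
  set k := d * el (vi u)
  refine Subgroup.mem_normalizer_fintype fun z hz => hC _ (mul_mem (mul_mem (Pt.le hk) (Pt.jle hz))
    (inv_mem (Pt.le hk))) fun t ht ht1 => ?_
  obtain ⟨t', ht', -, he⟩ := hT _ (inv_mem hk) t ht ht1
  have h2 := (Commute.conj_iff k).2 (C.VJ_comm hz ⟨t', ht', rfl⟩)
  rwa [← he, show k * (k⁻¹ * el (vi t) * k⁻¹⁻¹) * k⁻¹ = el (vi t) by group] at h2

/-- An element centralising the kernel points lies in the abelian subgroup. -/
theorem self_cent (hC : ∀ g ∈ D, (∀ t < 27, χ t = 1 → Commute g (el (vi t))) → g ∈ C.VJ) {k : G}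
    (hk : k ∈ K) (h : ∀ t < 27, χ t = 1 → Commute k (el (vi t))) : ∃ u < 27, χ u = 1 ∧ el (vi u) = k :=
  Pt.mem_meet (hC k (Pt.le hk) h) hk

end Part

end Cfsg.Agent.S3342Id.LocalCent
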