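import Cfsg.Agent.Lib.S3342Id.Sp62Pres
import Mathlib.GroupTheory.Perm.Cycle.Type

/-!
S3342: symplectic matrices over two elements as packed images of the basis.
-/

set_option autoImplicit false
set_option maxRecDepth 100000

namespace Cfsg.Agent.S3342Id.Closure

open Cfsg.Agent.CosetCert Cfsg.Agent.S3342Id Matrix

/-- The symplectic group. -/
abbrev Sp62 : Type := ↥(symplecticGroup (Fin 3) (ZMod 2))

/-- The image of a basis vector. -/
def img (c k : ℕ) : ℕ := c / 64 ^ k % 64

/-- Packing. -/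
def pk (f : ℕ → ℕ) : ℕ := f 0 + 64 * (f 1 + 64 * (f 2 + 64 * (f 3 + 64 * (f 4 + 64 * f 5))))

/-- Application. -/
def apc (c x : ℕ) : ℕ :=
  (List.range 6).foldr (fun k acc => if x.testBit k then img c k ^^^ acc else acc) 0

/-- Multiplication. -/
def cmul (a b : ℕ) : ℕ := pk fun k => apc a (img b k)

/-- The code of a word. -/
def wcd (w : List ℕ) : ℕ := pk fun k => wc w (2 ^ k)

/-- The code of the identity. -/
def c1 : ℕ := pk fun k => 2 ^ k

/-- A matrix has the given code. -/
def Rep (A : Sp62) (c : ℕ) : Prop := c < 64 ^ 6 ∧ ∀ k < 6, A.1 *ᵥ sv (2 ^ k) = sv (img c k)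

theorem sv_xor : ∀ x < 64, ∀ y < 64, sv (x ^^^ y) = sv x + sv y := by decide +kernel

theorem sv_inj : ∀ x < 64, ∀ y < 64, sv x = sv y → x = y := by decide +kernel

theorem sv_zero : sv 0 = 0 := by decide +kernel

theorem sv_all : ∀ v : Fin 3 ⊕ Fin 3 → ZMod 2, ∃ c : Fin 64, sv c = v := by decide +kernel

theorem bits_ok : ∀ x < 64, (List.range 6).foldr (fun k acc => if x.testBit k then 2 ^ k ^^^ acc else acc) 0 = x := by
  decide +kernel

theorem img_lt (c k : ℕ) : img c k < 64 := Nat.mod_lt _ (by norm_num)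

theorem xor_lt {a b : ℕ} (ha : a < 64) (hb : b < 64) : a ^^^ b < 64 :=
  Nat.xor_lt_two_pow (n := 6) ha hb

theorem apc_lt (c x : ℕ) : apc c x < 64 := by
  unfold apc
  generalize List.range 6 = l
  induction l with
  | nil => simp
  | cons k l ih =>
    simp only [List.foldr_cons]
    split
    · exact xor_lt (img_lt c k) ih
    · exact ih

theorem apc_spec {A : Sp62} {c : ℕ} (h : Rep A c) {x : ℕ} (hx : x < 64) : A.1 *ᵥ sv x = sv (apc c x) := by
  conv_lhs => rw [← bits_ok x hx]
  unfold apc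
  have hl : ∀ k ∈ List.range 6, k < 6 := fun k hk => List.mem_range.1 hk
  revert hl
  generalize List.range 6 = l
  intro hl
  suffices H : A.1 *ᵥ sv (l.foldr (fun k acc => if x.testBit k then 2 ^ k ^^^ acc else acc) 0) =
      sv (l.foldr (fun k acc => if x.testBit k then img c k ^^^ acc else acc) 0) ∧
      l.foldr (fun k acc => if x.testBit k then 2 ^ k ^^^ acc else acc) 0 < 64 ∧
      l.foldr (fun k acc => if x.testBit k then img c k ^^^ acc else acc) 0 < 64 from H.1
  induction l with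
  | nil => exact ⟨by simp [sv_zero], by simp, by simp⟩
  | cons k l ih =>
    obtain ⟨h1, h2, h3⟩ := ih fun i hi => hl i (List.mem_cons_of_mem _ hi)
    have hk := hl k List.mem_cons_self
    have hp : 2 ^ k < 64 := lt_of_lt_of_le (Nat.pow_lt_pow_right (by norm_num) hk) (by norm_num)
    simp only [List.foldr_cons]
    split
    · refine ⟨?_, xor_lt hp h2, xor_lt (img_lt c k) h3⟩
      rw [sv_xor _ hp _ h2, Matrix.mulVec_add, h.2 k hk, h1, sv_xor _ (img_lt c k) _ h3]
    · exact ⟨h1, h2, h3⟩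

theorem img_pk {f : ℕ → ℕ} (hf : ∀ k, f k < 64) : ∀ k < 6, img (pk f) k = f k := by
  intro k hk
  have h0 := hf 0; have h1 := hf 1; have h2 := hf 2; have h3 := hf 3; have h4 := hf 4; have h5 := hf 5
  interval_cases k <;> simp only [img, pk] <;> omega

theorem pk_lt {f : ℕ → ℕ} (hf : ∀ k, f k < 64) : pk f < 64 ^ 6 := by
  have h0 := hf 0; have h1 := hf 1; have h2 := hf 2; have h3 := hf 3; have h4 := hf 4; have h5 := hf 5
  simp only [pk]; omega

theorem rep_mul {A B : Sp62} {a b : ℕ} (hA : Rep A a) (hB : Rep B b) : Rep (A * B) (cmul a b) := by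
  refine ⟨pk_lt fun k => apc_lt _ _, fun k hk => ?_⟩
  rw [Submonoid.coe_mul, ← Matrix.mulVec_mulVec, hB.2 k hk, apc_spec hA (img_lt _ _), cmul,
    img_pk (fun k => apc_lt _ _) k hk]

theorem rep_word {w : List ℕ} (hw : ∀ i ∈ w, i < 7) : Rep (wprod tg w) (wcd w) := by
  have hp : ∀ k < 6, (2 : ℕ) ^ k < 64 := by decide
  have hlt : ∀ k < 6, wc w (2 ^ k) < 64 := fun k hk => (sv_wc w hw _ (hp k hk)).2
  have e : wcd w = pk fun k => if k < 6 then wc w (2 ^ k) else 0 := by
    simp [wcd, pk]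
  have hb : ∀ k, (if k < 6 then wc w (2 ^ k) else 0) < 64 := fun k => by
    split
    · exact hlt k ‹_›
    · norm_num
  refine ⟨e ▸ pk_lt hb, fun k hk => ?_⟩
  rw [(sv_wc w hw _ (hp k hk)).1, e, img_pk hb k hk, if_pos hk]

theorem rep_one : Rep 1 c1 := rep_word (w := []) (by simp)

theorem rep_inj {A B : Sp62} {c : ℕ} (hA : Rep A c) (hB : Rep B c) : A = B :=
  sp_ext fun x hx => by rw [apc_spec hA hx, apc_spec hB hx]

theorem rep_unique {A : Sp62} {a b : ℕ} (ha : Rep A a) (hb : Rep A b) : a = b := by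
  have h : ∀ k < 6, img a k = img b k := fun k hk =>
    sv_inj _ (img_lt _ _) _ (img_lt _ _) ((ha.2 k hk).symm.trans (hb.2 k hk))
  have h0 := h 0 (by norm_num); have h1 := h 1 (by norm_num); have h2 := h 2 (by norm_num)
  have h3 := h 3 (by norm_num); have h4 := h 4 (by norm_num); have h5 := h 5 (by norm_num)
  simp only [img] at h0 h1 h2 h3 h4 h5
  have l1 := ha.1; have l2 := hb.1
  omega

theorem eq_of_code {A B : Sp62} {a b : ℕ} (hA : Rep A a) (hB : Rep B b) (h : a = b) : A = B :=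
  rep_inj hA (h ▸ hB)

/-! ### Vectors -/

/-- The vectors fixed by a matrix. -/
def fixSub (A : Sp62) : AddSubgroup (Fin 3 ⊕ Fin 3 → ZMod 2) where
  carrier := {v | A.1 *ᵥ v = v}
  zero_mem' := Matrix.mulVec_zero _
  add_mem' := fun {a b} ha hb => by
    simp only [Set.mem_setOf_eq, Matrix.mulVec_add] at *
    rw [ha, hb]
  neg_mem' := fun {a} ha => by
    simp only [Set.mem_setOf_eq, Matrix.mulVec_neg] at *
    rw [ha]

theorem mem_fixSub {A : Sp62} {v : Fin 3 ⊕ Fin 3 → ZMod 2} : v ∈ fixSub A ↔ A.1 *ᵥ v = v := Iff.rfl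

theorem act_mul (A B : Sp62) (v : Fin 3 ⊕ Fin 3 → ZMod 2) : (A * B).1 *ᵥ v = A.1 *ᵥ (B.1 *ᵥ v) := by
  rw [Submonoid.coe_mul, ← Matrix.mulVec_mulVec]

theorem act_one (v : Fin 3 ⊕ Fin 3 → ZMod 2) : (1 : Sp62).1 *ᵥ v = v := Matrix.one_mulVec v

theorem form_act (A : Sp62) (u v : Fin 3 ⊕ Fin 3 → ZMod 2) :
    Cfsg.sympForm 3 (ZMod 2) (A.1 *ᵥ u) (A.1 *ᵥ v) = Cfsg.sympForm 3 (ZMod 2) u v :=
  (ClassicalSp.mem_iff_preserves _).1 A.2 u v

theorem iter_act (f : Sp62) : ∀ (n : ℕ) (v : Fin 3 ⊕ Fin 3 → ZMod 2),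
    (fun v => f.1 *ᵥ v)^[n] v = (f ^ n).1 *ᵥ v
  | 0, v => by rw [Function.iterate_zero, pow_zero, act_one]; rfl
  | n + 1, v => by rw [Function.iterate_succ_apply', iter_act f n, pow_succ', act_mul]

/-- Counting fixed vectors of an element of prime order inside an invariant subgroup. -/
theorem fixed_modEq {f : Sp62} {p : ℕ} [Fact p.Prime] (hf : f ^ p = 1)
    (S : AddSubgroup (Fin 3 ⊕ Fin 3 → ZMod 2)) (hS : ∀ v ∈ S, f.1 *ᵥ v ∈ S) :
    Nat.card S ≡ Nat.card ↥(S ⊓ fixSub f) [MOD p] := by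
  classical
  haveI := Fintype.ofFinite S
  haveI := Fintype.ofFinite ↥(S ⊓ fixSub f)
  let F : Function.End S := fun v => ⟨f.1 *ᵥ v.1, hS _ v.2⟩
  have hF : ∀ (n : ℕ) (v : S), ((F ^ n) v).1 = (f ^ n).1 *ᵥ v.1 := by
    intro n
    induction n with
    | zero => intro v; rw [pow_zero, pow_zero, act_one]; rfl
    | succ n ih =>
      intro v
      rw [pow_succ', pow_succ', act_mul]
      show f.1 *ᵥ ((F ^ n) v).1 = _
      rw [ih]
  have hFp : F ^ p ^ 1 = 1 := by
    rw [pow_one]
    funext v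
    refine Subtype.ext ?_
    rw [hF, hf, act_one]
    rfl
  have h := Equiv.Perm.card_fixedPoints_modEq hFp
  rw [Nat.card_eq_fintype_card, Nat.card_eq_fintype_card]
  refine h.trans ?_
  have e : (Function.fixedPoints F) ≃ ↥(S ⊓ fixSub f) :=
    { toFun := fun v => ⟨v.1.1, v.1.2, congrArg Subtype.val v.2⟩
      invFun := fun v => ⟨⟨v.1, v.2.1⟩, Subtype.ext v.2.2⟩
      left_inv := fun _ => rfl
      right_inv := fun _ => rfl }
  rw [Fintype.card_congr e]

theorem card_space : Nat.card (Fin 3 ⊕ Fin 3 → ZMod 2) = 64 := by simp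

theorem card_sub (S : AddSubgroup (Fin 3 ⊕ Fin 3 → ZMod 2)) :
    Nat.card S ∈ [1, 2, 4, 8, 16, 32, 64] := by
  have h := AddSubgroup.card_addSubgroup_dvd_card S
  rw [card_space, show 64 = 2 ^ 6 by norm_num] at h
  obtain ⟨i, hi, e⟩ := (Nat.dvd_prime_pow Nat.prime_two).1 h
  rw [e]
  interval_cases i <;> norm_num

theorem fixed_top {f : Sp62} {p : ℕ} [Fact p.Prime] (hf : f ^ p = 1) :
    64 ≡ Nat.card ↥(fixSub f) [MOD p] := by
  have h := fixed_modEq hf ⊤ fun _ _ => trivial
  rwa [top_inf_eq, AddSubgroup.card_top, card_space] at h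

theorem eq_one_of_fix_top {f : Sp62} (h : Nat.card ↥(fixSub f) = 64) : f = 1 := by
  have hT : fixSub f = ⊤ := AddSubgroup.eq_top_of_card_eq _ (by rw [h, card_space])
  refine sp_ext fun x _ => ?_
  rw [act_one]
  exact mem_fixSub.1 (hT ▸ AddSubgroup.mem_top _)

theorem reach_all : ∀ v : Fin 3 ⊕ Fin 3 → ZMod 2, v ≠ 0 → ∃ A : Sp62, A.1 *ᵥ sv (vc 0) = v := by
  intro v hv
  obtain ⟨c, rfl⟩ := sv_surj v hv
  have h := reach_ok
  simp only [List.all_eq_true, Bool.and_eq_true, List.mem_range, Nat.blt_eq] at h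
  obtain ⟨h1, h2⟩ := h c c.2
  exact ⟨wprod tg (reach.getD c []), by rw [(sv_wc _ h2 (vc 0) (by decide)).1, Nat.eq_of_beq_eq_true h1]⟩

/-- An element of order seven fixes no non-zero vector. -/
theorem seven_free {f : Sp62} (hf : orderOf f = 7) : fixSub f = ⊥ := by
  rw [eq_bot_iff]
  intro v hv
  rw [AddSubgroup.mem_bot]
  by_contra hne
  letI act : MulAction Sp62 (Fin 3 ⊕ Fin 3 → ZMod 2) :=
    { smul := fun A u => A.1 *ᵥ u, one_smul := act_one, mul_smul := act_mul }
  have horb : MulAction.orbit Sp62 v = {u | u ≠ 0} := by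
    ext u
    constructor
    · rintro ⟨A, rfl⟩ (h0 : A.1 *ᵥ v = 0)
      refine hne ?_
      have := congrArg (fun w => (A⁻¹).1 *ᵥ w) h0
      simp only [← act_mul, inv_mul_cancel, act_one, Matrix.mulVec_zero] at this
      exact this
    · intro hu
      obtain ⟨A, hA⟩ := reach_all u hu
      obtain ⟨B, hB⟩ := reach_all v hne
      refine ⟨A * B⁻¹, ?_⟩
      show (A * B⁻¹).1 *ᵥ v = u
      rw [← hB, ← act_mul, inv_mul_cancel_right, hA]
  have hidx : (MulAction.stabilizer Sp62 v).index = 63 := by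
    rw [MulAction.index_stabilizer, horb,
      show ({u : Fin 3 ⊕ Fin 3 → ZMod 2 | u ≠ 0}).ncard = 63 from ?_]
    rw [show {u : Fin 3 ⊕ Fin 3 → ZMod 2 | u ≠ 0} = {0}ᶜ from rfl, Set.ncard_compl, card_space,
      Set.ncard_singleton]
  have hc := (MulAction.stabilizer Sp62 v).card_mul_index
  rw [hidx, card_sp62] at hc
  have hd : 7 ∣ Nat.card (MulAction.stabilizer Sp62 v) := by
    rw [← hf]
    exact Subgroup.orderOf_dvd_natCard _ (show f • v = v from hv)
  omega

/-- No commuting elements of orders five and seven. -/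
theorem no_thirty_five {f g : Sp62} (hf : orderOf f = 5) (hg : orderOf g = 7) (hc : Commute f g) : False := by
  haveI : Fact (Nat.Prime 5) := ⟨by norm_num⟩
  haveI : Fact (Nat.Prime 7) := ⟨by norm_num⟩
  have h5 := fixed_top (f := f) (p := 5) (by rw [← hf, pow_orderOf_eq_one])
  have h7 := fixed_modEq (f := g) (p := 7) (by rw [← hg, pow_orderOf_eq_one]) (fixSub f) fun v hv => by
    rw [mem_fixSub, ← act_mul, hc.eq, act_mul, mem_fixSub.1 hv]
  rw [seven_free hg, inf_bot_eq, AddSubgroup.card_bot] at h7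
  have hs := card_sub (fixSub f)
  have h64 : Nat.card ↥(fixSub f) = 64 := by
    simp only [List.mem_cons, List.not_mem_nil, or_false] at hs
    unfold Nat.ModEq at h5 h7
    omega
  rw [eq_one_of_fix_top h64, orderOf_one] at hf
  norm_num at hf

/-- An element of order five fixes no isotropic subspace of two dimensions. -/
theorem five_fixed_nonisotropic {f : Sp62} (hf : orderOf f = 5) {u u' : Fin 3 ⊕ Fin 3 → ZMod 2}
    (hu : f.1 *ᵥ u = u) (hu' : f.1 *ᵥ u' = u') (hne : u ≠ 0) (hne' : u' ≠ 0) (hd : u ≠ u')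
    (horth : Cfsg.sympForm 3 (ZMod 2) u u' = 0) : False := by
  classical
  haveI : Fact (Nat.Prime 5) := ⟨by norm_num⟩
  have h5 := fixed_top (f := f) (p := 5) (by rw [← hf, pow_orderOf_eq_one])
  have hs := card_sub (fixSub f)
  have hne64 : Nat.card ↥(fixSub f) ≠ 64 := fun h => by
    rw [eq_one_of_fix_top h, orderOf_one] at hf; norm_num at hf
  have h4 : Nat.card ↥(fixSub f) = 4 := by
    simp only [List.mem_cons, List.not_mem_nil, or_false] at hs
    unfold Nat.ModEq at h5
    omega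
  haveI := Fintype.ofFinite ↥(fixSub f)
  have z2 : ∀ w : Fin 3 ⊕ Fin 3 → ZMod 2, w + w = 0 := fun w => funext fun i => CharTwo.add_self_eq_zero (w i)
  have hsum : u + u' ≠ 0 := fun h => hd (by
    calc u = u + (u' + u') := by rw [z2, add_zero]
      _ = u' := by rw [← add_assoc, h, zero_add])
  have hall : ∀ w ∈ fixSub f, w ∈ [0, u, u', u + u'] := by
    intro w hw
    by_contra hnot
    simp only [List.mem_cons, List.not_mem_nil, or_false, not_or] at hnot
    obtain ⟨n0, n1, n2, n3⟩ := hnot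
    have hsub : ({0, u, u', u + u', w} : Finset (Fin 3 ⊕ Fin 3 → ZMod 2)) ⊆
        Finset.univ.filter (fun v => v ∈ fixSub f) := by
      intro v hv
      simp only [Finset.mem_insert, Finset.mem_singleton] at hv
      simp only [Finset.mem_filter, Finset.mem_univ, true_and]
      rcases hv with rfl | rfl | rfl | rfl | rfl
      exacts [zero_mem _, hu, hu', add_mem (show u ∈ fixSub f from hu) (show u' ∈ fixSub f from hu'), hw]
    have h5' := Finset.card_le_card hsub
    have e5 : ({0, u, u', u + u', w} : Finset (Fin 3 ⊕ Fin 3 → ZMod 2)).card = 5 := by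
      rw [Finset.card_insert_of_notMem (by simp [hne.symm, hne'.symm, hsum.symm, Ne.symm n0]),
        Finset.card_insert_of_notMem (by
          simp [hd, Ne.symm n1, hne']),
        Finset.card_insert_of_notMem (by
          simp [Ne.symm n2, hne]),
        Finset.card_insert_of_notMem (by simp [Ne.symm n3]), Finset.card_singleton]
    rw [e5, ← Fintype.card_subtype, ← Nat.card_eq_fintype_card, show Nat.card {v // v ∈ fixSub f} = 4 from h4] at h5'
    omega
  -- the vector `u` is orthogonal to every fixed vector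
  have huu : ∀ w, Cfsg.sympForm 3 (ZMod 2) w w = 0 := fun w => by
    rw [← ClassicalSp.spBilin_apply]; exact ClassicalSp.spBilin_isAlt w
  have hperp : ∀ w ∈ fixSub f, Cfsg.sympForm 3 (ZMod 2) u w = 0 := by
    intro w hw
    have h0 : ∀ w, Cfsg.sympForm 3 (ZMod 2) u w = ClassicalSp.spBilin 3 (ZMod 2) u w := fun w =>
      (ClassicalSp.spBilin_apply u w).symm
    rw [h0]
    rcases List.mem_cons.1 (hall w hw) with rfl | hw'
    · exact map_zero _
    simp only [List.mem_cons, List.not_mem_nil, or_false] at hw'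
    rcases hw' with rfl | rfl | rfl
    · rw [← h0]; exact huu _
    · rw [← h0]; exact horth
    · rw [map_add, ← h0, ← h0, huu, horth, add_zero]
  refine hne ?_
  have hB : ∀ y, ClassicalSp.spBilin 3 (ZMod 2) u y = 0 := by
    intro y
    have hpow : ∀ i : ℕ, (f ^ i).1 *ᵥ u = u := fun i => by
      induction i with
      | zero => rw [pow_zero, act_one]
      | succ i ih => rw [pow_succ, act_mul, hu, ih]
    set p := ∑ i ∈ Finset.range 5, (f ^ i).1 *ᵥ y
    have hp : p ∈ fixSub f := by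
      rw [mem_fixSub, Matrix.mulVec_sum]
      simp only [← act_mul, ← pow_succ']
      have h1 := Finset.sum_range_succ' (fun i => (f ^ i).1 *ᵥ y) 5
      have h2 := Finset.sum_range_succ (fun i => (f ^ i).1 *ᵥ y) 5
      rw [h2, show f ^ 5 = 1 by rw [← hf, pow_orderOf_eq_one], pow_zero] at h1
      exact (add_right_cancel h1).symm
    have h1 := hperp p hp
    rw [← ClassicalSp.spBilin_apply, map_sum] at h1
    have hterm : ∀ i, ClassicalSp.spBilin 3 (ZMod 2) u ((f ^ i).1 *ᵥ y) = ClassicalSp.spBilin 3 (ZMod 2) u y :=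
      fun i => by
        conv_lhs => rw [← hpow i]
        rw [ClassicalSp.spBilin_apply, ClassicalSp.spBilin_apply, form_act]
    simp only [hterm, Finset.sum_const, Finset.card_range] at h1
    rw [show (5 : ℕ) • ClassicalSp.spBilin 3 (ZMod 2) u y = ClassicalSp.spBilin 3 (ZMod 2) u y by
      rw [nsmul_eq_mul, show ((5 : ℕ) : ZMod 2) = 1 from rfl, one_mul]] at h1
    exact h1
  exact (ClassicalSp.spBilin_nondeg (m := 3) (F := ZMod 2)).1 u hB

end Cfsg.Agent.S3342Id.Closure
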