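import Cfsg.Agent.Lib.S3342Id.SpData
import Cfsg.Agent.Lib.S3342Id.SpCode

/-!
S3342: checks on the tables for `Sp₆(2)`.
-/

set_option autoImplicit false
set_option maxRecDepth 100000

namespace Cfsg.Agent.S3342Id.Closure.Big

open Cfsg.Agent.CosetCert Cfsg.Agent.S3342Id Cfsg.Agent.S3342Id.Closure Matrix

/-- The word of the central involution. -/
def zw : List ℕ := [0, 2, 1, 0, 5, 1, 0, 2, 1, 0, 5, 1]

/-- The central involution. -/
def zb : Sp62 := wprod tg zw

/-- The unitriangular element at a position. -/
def lE (g : ℕ) : Sp62 := wprod tg (SpData.lw.getD g [])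

/-- The symmetric element at a position. -/
def rE (x : ℕ) : Sp62 := wprod tg (SpData.rw'.getD x [])

/-- Code of a unitriangular element. -/
def lC (g : ℕ) : ℕ := SpData.lc.getD g 0

/-- Code of a symmetric element. -/
def rC (x : ℕ) : ℕ := SpData.rc'.getD x 0

/-- Product of positions. -/
def gmul (g h : ℕ) : ℕ := SpData.gm.getD (8 * g + h) 0

/-- The action. -/
def actX (g x : ℕ) : ℕ := SpData.act.getD (64 * g + x) 0

/-- Code of the element at a position. -/
def sC (i : ℕ) : ℕ := cmul (lC (i / 64)) (rC (i % 64))

/-- The vector of a graph of a linear map. -/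
def vx (s d : ℕ) : ℕ :=
  (if d.testBit 0 then 1 + 8 * (s % 8) else 0) ^^^ (if d.testBit 1 then 2 + 8 * (s / 8 % 8) else 0) ^^^
    (if d.testBit 2 then 4 + 8 * (s / 64 % 8) else 0)

theorem code_ok : ((List.range 8).all fun g => Nat.beq (wcd (SpData.lw.getD g [])) (lC g) &&
      (SpData.lw.getD g []).all fun i => Nat.blt i 7) = true ∧
    ((List.range 64).all fun x => Nat.beq (wcd (SpData.rw'.getD x [])) (rC x) &&
      (SpData.rw'.getD x []).all fun i => Nat.blt i 7) = true := by decide +kernel

theorem mul_ok : ((List.range 8).all fun g => (List.range 8).all fun h =>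
      Nat.blt (gmul g h) 8 && Nat.beq (cmul (lC g) (lC h)) (lC (gmul g h))) = true ∧
    ((List.range 8).all fun g => (List.range 64).all fun x =>
      Nat.blt (actX g x) 64 && Nat.beq (cmul (rC x) (lC g)) (cmul (lC g) (rC (actX g x)))) = true ∧
    ((List.range 8).all fun g => (List.range 8).any fun h => Nat.beq (gmul h g) 0) = true := by
  decide +kernel

theorem xor_ok : ((List.range 64).all fun x => (List.range 64).all fun y =>
    Nat.beq (cmul (rC x) (rC y)) (rC (x ^^^ y))) = true := by decide +kernel

theorem one_ok : ((List.range 512).all fun i => Nat.beq i 0 || !Nat.beq (sC i) c1) = true ∧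
    Nat.beq (lC 0) c1 = true ∧ Nat.beq (rC 0) c1 = true ∧
    ((List.range 8).all fun g => (List.range 8).all fun h => Nat.beq g h || !Nat.beq (gmul g h) g || Nat.beq h 0) =
      true := by decide +kernel

theorem cls_ok : (SpData.cls.all fun c => (List.range 7).all fun i =>
      SpData.cls.contains (cmul (cmul (wcd [i]) c) (wcd [i]))) = true ∧
    SpData.cls.contains (wcd zw) = true ∧ Nat.beq SpData.cls.length 315 = true := by decide +kernel

theorem conjs_ok : ((List.range 8).all fun k => Nat.beq k 0 || SpData.conjs.any fun p => Nat.beq p.1 (8 * k) &&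
    (p.2.all fun i => Nat.blt i 7) &&
    Nat.beq (cmul (rC p.1) (wcd p.2)) (cmul (wcd p.2) (wcd zw))) = true := by decide +kernel

theorem wit_ok : ((List.range 512).all fun i => Nat.beq i 0 || !Nat.beq (cmul (sC i) (sC i)) c1 ||
      SpData.wit.any fun p => Nat.beq p.1 i) = true ∧
    (SpData.wit.all fun p => (p.2.all fun i => Nat.blt i 7) &&
      (let c := wcd p.2
      !Nat.beq c c1 && Nat.beq (cmul c (cmul c c)) c1 && Nat.beq (cmul c (sC p.1)) (cmul (sC p.1) c))) = true := by
  decide +kernel

theorem compl_ok : ((List.range 512).all fun s => (List.range 8).any fun g => (List.range 8).any fun d =>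
      !Nat.beq (actX g (vx s d)) (vx s (actX g (vx s d) % 8))) = true ∧
    ((List.range 512).all fun s => (List.range 8).all fun d =>
      Nat.blt (vx s d) 64 && Nat.beq (vx s d % 8) d) = true := by decide +kernel

end Cfsg.Agent.S3342Id.Closure.Big
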