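import Cfsg.Agent.Lib.S3342Id.Code

/-!
S3342: the reflections and their relations, checked on codes.
-/

set_option autoImplicit false
set_option maxRecDepth 100000

namespace Cfsg.Agent.S3342Id.Seven

open Cfsg.Agent.SpAmalgam Cfsg.Agent.SpAmalgam.Four Cfsg.Agent.Hayden Matrix

/-- The code of a reflection by number: `r₁, …, r₆`, then `b, c, e, f`. -/
def rc (i : ℕ) : ℕ :=
  [17706475, 3203964, 572292, 3223701, 4302594, 16077142, 17667082, 16096879, 17686819, 16116535].getD i 0

/-- Pairs with product of order three. -/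
def braids : List (ℕ × ℕ) := [(0, 6), (7, 5), (8, 0), (8, 6), (9, 7), (9, 5),
  (1, 3), (3, 4), (4, 5), (3, 2), (2, 0)]

/-- Commuting pairs. -/
def comms : List (ℕ × ℕ) := [(0, 7), (0, 5), (6, 7), (6, 5), (8, 7), (8, 5), (9, 0), (9, 6),
  (1, 0), (1, 5), (1, 6), (1, 7), (3, 0), (3, 5), (3, 6), (3, 7),
  (1, 4), (1, 2), (4, 2), (4, 0), (5, 2), (5, 0)]

/-- Conjugations of reflections by inner elements. -/
def moves : List (ℕ × ℕ × ℕ) := [(28816156, 0, 7), (28816156, 7, 0), (28816156, 6, 5), (28816156, 5, 6),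
  (14762494, 0, 8), (14762494, 6, 0), (14762494, 7, 9), (14762494, 5, 7),
  (14762500, 0, 0), (14762500, 5, 5), (14762500, 6, 6), (14762500, 7, 7), (14762500, 8, 8), (14762500, 9, 9),
  (14408121, 1, 2), (38677260, 1, 4)]

/-- Words in the reflections. -/
def steps : List (List (ℕ × ℕ × ℕ)) := [
  [(1, 2, 9743250), (3, 1, 38441550), (2, 4, 29170294), (3, 2, 5255769), (5, 4, 23037682), (3, 1, 34221949),
    (2, 0, 25453357), (3, 2, 32893446), (4, 3, 42401215), (1, 5, 6667225), (4, 3, 5630272), (2, 0, 14408203)],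
  [(1, 4, 24387892), (3, 1, 9861589), (2, 3, 28816077)],
  [(0, 2, 11083126), (3, 1, 42619912), (4, 3, 35152945), (2, 5, 40039975), (4, 3, 25453318), (1, 2, 21026698),
    (0, 3, 23339469), (2, 4, 17948401), (3, 1, 17926309), (5, 4, 24138390), (3, 2, 14447620)],
  [(1, 2, 9743250), (3, 1, 38441550), (2, 3, 38677750), (5, 4, 15022596), (3, 1, 16971483), (2, 3, 36128878),
    (4, 5, 1603080)]]

/-- A word is valid from a given element. -/
def okSteps : ℕ → List (ℕ × ℕ × ℕ) → Bool
  | _, [] => true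
  | p, (i, k, c) :: l =>
    isSp p && isSp c && eqv (lit p * dm (rc i) (rc k)) (lit c) && Nat.blt i 6 && Nat.blt k 6 && okSteps c l

/-- The last element of a word. -/
def lastStep : ℕ → List (ℕ × ℕ × ℕ) → ℕ
  | p, [] => p
  | _, (_, _, c) :: l => lastStep c l

theorem rc_sp : ((List.range 10).all fun i => isSp (rc i) && eqv (dm (rc i) (rc i)) 1) = true := by
  decide +kernel

theorem braids_ok : (braids.all fun p => eqv (dm (rc p.1) (rc p.2) * dm (rc p.1) (rc p.2) * dm (rc p.1) (rc p.2)) 1 &&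
    !eqv (lit (rc p.1)) (lit (rc p.2))) = true := by decide +kernel

theorem comms_ok : (comms.all fun p => eqv (dm (rc p.1) (rc p.2)) (dm (rc p.2) (rc p.1))) = true := by
  decide +kernel

theorem moves_ok : (moves.all fun t => isSp t.1 &&
    eqv (dmat * lit t.1 * dmat * lit (rc t.2.1)) (lit (rc t.2.2) * lit t.1)) = true := by decide +kernel

theorem inverts_ok : (([1, 3] : List ℕ).all fun i =>
    eqv (dmat * (lit (rc i) * lit 14762500) * dmat * lit (rc i)) (lit 14585350)) = true ∧
    isSp 14585350 = true ∧ eqv (lit 14585350 * lit 14762500) (lit 14408200) = true ∧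
    eqv (lit 14408200) 1 = true ∧ isSp 14408200 = true ∧ eqv (lit (rc 0)) (lit (rc 7)) = false := by
  decide +kernel

theorem steps_ok : (steps.all (okSteps 14408200)) = true ∧
    steps.map (lastStep 14408200) = [14408203, 28816077, 14447620, 1603080] := by decide +kernel

/-! ### The named elements -/

theorem emb0_lit : (emb 0 (slm 1) : G4 (ZMod 3)).1 = lit 14408203 ∧
    (emb 0 (slm 3) : G4 (ZMod 3)).1 = -lit 28816156 ∧ (emb 0 (slm 9) : G4 (ZMod 3)).1 = -lit 28816077 ∧
    (emb 0 (slm 6) : G4 (ZMod 3)).1 = lit 14408121 := by decide +kernel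

theorem emb1_lit : (emb 1 (slm 2) : G4 (ZMod 3)).1 = lit 14762494 ∧
    (emb 1 (slm 17) : G4 (ZMod 3)).1 = lit 38677339 := by decide +kernel

theorem prod_lit : eqv (lit 14408121 * lit 38677339) (lit 38677260) = true ∧
    eqv (lit 14762494 * (emb 0 (slm 2) : G4 (ZMod 3)).1) (lit 14762500) = true := by decide +kernel

theorem x4_lit : (x4 : G4 (ZMod 3)).1 = lit 14447620 := by
  refine Matrix.ext_of_mulVec_single fun j => ?_
  show mv (x4 : G4 (ZMod 3)) _ = _
  rw [x4, mv_TT bil01]
  revert j
  decide +kernel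

theorem swap4_lit : (swap4 : G4 (ZMod 3)).1 = lit 1603080 := by
  refine Matrix.ext_of_mulVec_single fun j => ?_
  show mv (swap4 : G4 (ZMod 3)) _ = _
  rw [swap4, mv_mkG]
  revert j
  decide +kernel

theorem named_sp : ([14408203, 28816156, 28816077, 14408121, 14762494, 14762500, 38677339, 38677260,
    14447620, 1603080].all isSp) = true := by decide +kernel

end Cfsg.Agent.S3342Id.Seven
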