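import Cfsg.Agent.Lib.S3342Id.WData
import Cfsg.Agent.Lib.S3342Id.SpCode

/-!
S3342: checks on the tables for `O₆⁻(2)`.
-/

set_option autoImplicit false
set_option maxRecDepth 100000

namespace Cfsg.Agent.S3342Id.Closure

open Cfsg.Agent.CosetCert Cfsg.Agent.S3342Id WData

/-- The six generators. -/
def six : List ℕ := [0, 1, 2, 3, 5, 6]

/-- The word of the central involution. -/
def w81 : List ℕ := [0, 2, 1, 0, 5, 1, 0, 2, 1, 0, 5, 1]

/-- Table lookup. -/
def mt (i j : ℕ) : ℕ := (rows.getD i 0) >>> (8 * j) % 256

/-- The inverse of a position. -/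
def mv' (i : ℕ) : ℕ := ivs.getD i 0

/-- The code at a position. -/
def cw (i : ℕ) : ℕ := wcd (words.getD i [])

/-- Membership in the class of the central involution. -/
def isBad (i : ℕ) : Bool := bads.contains i

/-- The images of `t - 1` on vectors. -/
def imgs (i : ℕ) : List ℕ :=
  ((List.range 64).map fun x => apc (cw i) x ^^^ x).eraseDups

/-- An involution whose commutators fill more than a line. -/
def wide (i : ℕ) : Bool :=
  Nat.beq (mt i i) 0 && !Nat.beq i 0 && Nat.ble 3 (imgs i).length && Nat.ble (imgs i).length 8

/-- Positions in a set. -/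
def elts (m : ℕ) : List ℕ := (List.range 128).filter fun i => m.testBit i

/-- Adding a translate. -/
def extend (m g : ℕ) : ℕ := (elts m).foldr (fun i acc => acc ||| 1 <<< mt g i) m

/-- A valid extension. -/
def canExt (m g : ℕ) : Bool :=
  !m.testBit g && !isBad g && m.testBit (mt g g) &&
    (elts m).all fun i => !isBad (mt g i) && m.testBit (mt (mt g i) (mv' g))

theorem words_ok : Nat.beq words.length 128 &&
    (words.all fun w => w.all fun i => six.contains i) &&
    (cls.all fun c => six.all fun i => cls.contains (cmul (cmul (wcd [i]) c) (wcd [i]))) &&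
    cls.contains (wcd w81) && Nat.beq cls.length 45 && Nat.beq (cw 0) c1 = true := by decide +kernel

theorem bad_ok : ((List.range 128).all fun i => !cls.contains (cw i) || isBad i) &&
    (bads.all fun i => cls.contains (cw i)) = true := by decide +kernel

theorem table_ok : ((List.range 128).all fun i => Nat.blt (mv' i) 128 &&
    Nat.beq (mt (mv' i) i) 0 && Nat.beq (mt i (mv' i)) 0 &&
    (List.range 128).all fun j => Nat.blt (mt i j) 128 && Nat.beq (cmul (cw i) (cw j)) (cw (mt i j))) = true := by
  decide +kernel

theorem layers_ok : ((List.range 5).all fun k => (layers.getD k []).all fun m =>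
    (List.range 128).all fun g => !canExt m g || (layers.getD (k + 1) []).contains (extend m g)) = true := by
  decide +kernel

theorem layer_four_ok : ((layers.getD 4 []).all fun m =>
    let sq := (((elts m).map fun i => mt i i).filter fun s => !Nat.beq s 0).eraseDups
    !Nat.beq (sq.length % 5) 0 && sq.all wide) = true ∧ layers.getD 0 [] = [1] ∧ layers.getD 5 [] = [] := by
  decide +kernel

theorem involutions_ok : ((List.range 128).all fun a => Nat.beq a 0 || !Nat.beq (mt a a) 0 || wide a ||
    (List.range 128).all fun b => Nat.beq b 0 || Nat.beq a b || !Nat.beq (mt b b) 0 || wide b ||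
      !Nat.beq (mt a b) (mt b a) || wide (mt a b)) = true := by decide +kernel

theorem assoc_ok : ((List.range 128).all fun i => (List.range 128).all fun j =>
    Nat.beq (mt i (mt (mv' i) j)) j) = true ∧
    ((List.range 128).all fun k => Nat.beq k 0 || !Nat.beq (cw k) c1) = true := by decide +kernel

theorem conj_ok : ((List.range 128).all fun i => !isBad i || conjs.any fun p => Nat.beq p.1 i &&
    (p.2.all fun j => six.contains j) &&
    Nat.beq (cmul (cw i) (wcd p.2)) (cmul (wcd p.2) (wcd w81))) = true := by decide +kernel

theorem wit_ok : ((List.range 128).all fun i => Nat.beq i 0 || !Nat.beq (mt i i) 0 || (wit.any fun p => Nat.beq p.1 i)) &&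
    (wit.all fun p => (p.2.all fun j => six.contains j) &&
      !Nat.beq (wcd p.2) c1 && Nat.beq (cmul (wcd p.2) (cmul (wcd p.2) (wcd p.2))) c1 &&
      Nat.beq (cmul (wcd p.2) (cw p.1)) (cmul (cw p.1) (wcd p.2))) = true := by decide +kernel

theorem bc_form : ∀ x < 64, ∀ y < 64,
    Cfsg.sympForm 3 (ZMod 2) (sv x) (sv y) = if bc x y then 1 else 0 := by decide +kernel

end Cfsg.Agent.S3342Id.Closure
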